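import Mathlib
import Cfsg.Agent.Lib.Helper62.GLRep

set_option autoImplicit false

namespace Cfsg.Agent.Lib.Helper3

open Matrix

section mat
variable {F : Type*} [Field F]

/-- traceless part -/
noncomputable def tl (b : Matrix (Fin 2) (Fin 2) F) : Matrix (Fin 2) (Fin 2) F :=
  b - (b.trace / 2) • (1 : Matrix (Fin 2) (Fin 2) F)

lemma tl_trace (h2 : (2 : F) ≠ 0) (b : Matrix (Fin 2) (Fin 2) F) : (tl b).trace = 0 := by
  unfold tl
  rw [trace_sub, trace_smul, trace_one]
  simp
  field_simp
  ring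

lemma sq_of_trace_zero (m : Matrix (Fin 2) (Fin 2) F) (h : m.trace = 0) :
    m * m = (-m.det) • (1 : Matrix (Fin 2) (Fin 2) F) := by
  rw [trace_fin_two] at h
  have h11 : m 1 1 = - m 0 0 := by linear_combination h
  ext i j
  fin_cases i <;> fin_cases j <;>
    simp [Matrix.mul_apply, Fin.sum_univ_two, det_fin_two, h11] <;> ring

lemma anticomm_of_trace_zero (m n : Matrix (Fin 2) (Fin 2) F) (hm : m.trace = 0) (hn : n.trace = 0) :
    m * n + n * m = ((m * n).trace) • (1 : Matrix (Fin 2) (Fin 2) F) := by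
  rw [trace_fin_two] at hm hn
  have h11 : m 1 1 = - m 0 0 := by linear_combination hm
  have h11' : n 1 1 = - n 0 0 := by linear_combination hn
  ext i j
  fin_cases i <;> fin_cases j <;>
    simp [Matrix.mul_apply, Fin.sum_univ_two, trace_fin_two, h11, h11'] <;> ring

lemma smul_one_inj {a b : F} (h : a • (1 : Matrix (Fin 2) (Fin 2) F) = b • 1) : a = b := by
  have := congrFun (congrFun h 0) 0
  simpa using this

/-- a traceless matrix commuting with a traceless matrix of nonzero square is a multiple of it -/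
lemma eq_smul_of_commute (h2 : (2 : F) ≠ 0) (m n : Matrix (Fin 2) (Fin 2) F) (hm : m.trace = 0)
    (hn : n.trace = 0) (hc : n * m = m * n) (hsq : m * m ≠ 0) : ∃ β : F, n = β • m := by
  have h1 := anticomm_of_trace_zero m n hm hn
  have h3 := sq_of_trace_zero m hm
  have hδ : -m.det ≠ 0 := by
    intro h
    rw [h, zero_smul] at h3
    exact hsq h3
  rw [hc] at h1
  refine ⟨(m * n).trace / (2 * (-m.det)), ?_⟩
  have h4 : m * (m * n + m * n) = m * (((m * n).trace) • (1 : Matrix (Fin 2) (Fin 2) F)) := by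
    rw [h1]
  rw [mul_add, ← mul_assoc, h3, mul_smul_comm, mul_one, smul_mul_assoc, one_mul, ← two_smul F,
    smul_smul] at h4
  rw [div_eq_inv_mul, ← smul_smul, ← h4, smul_smul, inv_mul_cancel₀ (mul_ne_zero h2 hδ), one_smul]

lemma tl_conj {y b c : Matrix (Fin 2) (Fin 2) F} (htr : c.trace = b.trace) (h : y * b = c * y) :
    y * tl b = tl c * y := by
  unfold tl
  rw [mul_sub, sub_mul, h, htr, mul_smul_comm, smul_mul_assoc, mul_one, one_mul]

lemma tl_commute {b c : Matrix (Fin 2) (Fin 2) F} (h : c * b = b * c) :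
    tl c * tl b = tl b * tl c := by
  unfold tl
  simp only [mul_sub, sub_mul, mul_smul_comm, smul_mul_assoc, mul_one, one_mul, h, smul_sub,
    smul_smul]
  rw [mul_comm (c.trace / 2) (b.trace / 2)]
  abel

lemma commute_of_tl_commute {y b : Matrix (Fin 2) (Fin 2) F} (h : y * tl b = tl b * y) :
    y * b = b * y := by
  unfold tl at h
  simp only [mul_sub, sub_mul, mul_smul_comm, smul_mul_assoc, mul_one, one_mul] at h
  exact sub_left_injective h

/-- **Lemma C.** -/
lemma commute_of_odd_order (h2 : (2 : F) ≠ 0) {y b c : Matrix (Fin 2) (Fin 2) F} {k : ℕ}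
    (hk : Odd k) (hy : y ^ k = 1) (h : y * b = c * y) (hc : c * b = b * c)
    (hsq : tl b * tl b ≠ 0) : y * b = b * y := by
  obtain ⟨m, rfl⟩ := hk
  have hyinv : y * y ^ (2 * m) = 1 := by rw [← pow_succ', hy]
  have hyinv' : y ^ (2 * m) * y = 1 := by rw [← pow_succ, hy]
  have hceq : c = y * b * y ^ (2 * m) := by
    rw [h, mul_assoc, hyinv, mul_one]
  have htr : c.trace = b.trace := by
    rw [hceq, trace_mul_comm, ← mul_assoc, hyinv', one_mul]
  have h1 := tl_conj htr h
  have h3 := tl_commute hc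
  obtain ⟨β, hβ⟩ := eq_smul_of_commute h2 (tl b) (tl c) (tl_trace h2 b) (tl_trace h2 c) h3 hsq
  have hb0 : tl b ≠ 0 := by
    intro h0
    rw [h0, mul_zero] at hsq
    exact hsq rfl
  -- squares
  have hsq2 : tl c * tl c = tl b * tl b := by
    have e1 : y * (tl b * tl b) = (tl c * tl c) * y := by
      rw [← mul_assoc, h1, mul_assoc, h1, mul_assoc]
    rw [sq_of_trace_zero _ (tl_trace h2 b)] at e1 ⊢
    rw [mul_smul_comm, mul_one] at e1
    have e2 : (tl c * tl c) * y * y ^ (2 * m) = tl c * tl c := by rw [mul_assoc, hyinv, mul_one]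
    rw [← e2, ← e1, smul_mul_assoc, hyinv]
  have hβ2 : β * β = 1 := by
    rw [hβ, smul_mul_smul_comm] at hsq2
    have e3 : (β * β - 1) • (tl b * tl b) = 0 := by rw [sub_smul, hsq2, one_smul, sub_self]
    rcases smul_eq_zero.mp e3 with h4 | h4
    · exact sub_eq_zero.mp h4
    · exact absurd h4 hsq
  have hpow : ∀ j : ℕ, y ^ j * tl b = β ^ j • (tl b * y ^ j) := by
    intro j
    induction j with
    | zero => simp
    | succ j ih =>
      rw [pow_succ', mul_assoc, ih, mul_smul_comm, ← mul_assoc, h1, hβ, smul_mul_assoc,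
        smul_mul_assoc, smul_smul, mul_assoc, ← pow_succ]
  have h5 := hpow (2 * m + 1)
  rw [hy, one_mul, mul_one, pow_succ, pow_mul, sq, hβ2, one_pow, one_mul] at h5
  have hβ1 : β = 1 := by
    have e3 : (β - 1) • tl b = 0 := by rw [sub_smul, ← h5, one_smul, sub_self]
    rcases smul_eq_zero.mp e3 with h4 | h4
    · exact sub_eq_zero.mp h4
    · exact absurd h4 hb0
  rw [hβ1, one_smul] at hβ
  rw [hβ] at h1
  exact commute_of_tl_commute h1

lemma eq_tl_add (b : Matrix (Fin 2) (Fin 2) F) :
    b = tl b + (b.trace / 2) • (1 : Matrix (Fin 2) (Fin 2) F) := by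
  unfold tl; abel

/-- the centralizer of `b` is commutative when `tl b` has nonzero square -/
lemma commute_of_commute_both (h2 : (2 : F) ≠ 0) {y z b : Matrix (Fin 2) (Fin 2) F}
    (hy : y * b = b * y) (hz : z * b = b * z) (hsq : tl b * tl b ≠ 0) : y * z = z * y := by
  obtain ⟨β, hβ⟩ := eq_smul_of_commute h2 (tl b) (tl y) (tl_trace h2 b) (tl_trace h2 y)
    (tl_commute hy) hsq
  obtain ⟨γ, hγ⟩ := eq_smul_of_commute h2 (tl b) (tl z) (tl_trace h2 b) (tl_trace h2 z)
    (tl_commute hz) hsq
  rw [eq_tl_add y, eq_tl_add z, hβ, hγ]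
  simp only [mul_add, add_mul, mul_smul_comm, smul_mul_assoc, mul_one, one_mul, smul_add,
    smul_smul]
  rw [mul_comm γ β, mul_comm (z.trace / 2) (y.trace / 2), mul_comm γ, mul_comm (z.trace / 2) β]
  abel

lemma ker_line {n : Matrix (Fin 2) (Fin 2) F} (hn : n ≠ 0) {w u : Fin 2 → F} (hw : w ≠ 0)
    (hnw : n.mulVec w = 0) (hnu : n.mulVec u = 0) : ∃ c : F, u = c • w := by
  have e1 : ∀ i, n i 0 * w 0 + n i 1 * w 1 = 0 := by
    intro i
    have := congrFun hnw i
    simpa [Matrix.mulVec, dotProduct, Fin.sum_univ_two] using this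
  have e2 : ∀ i, n i 0 * u 0 + n i 1 * u 1 = 0 := by
    intro i
    have := congrFun hnu i
    simpa [Matrix.mulVec, dotProduct, Fin.sum_univ_two] using this
  have hd : w 0 * u 1 - w 1 * u 0 = 0 := by
    by_contra hd
    apply hn
    ext i j
    have a1 : n i 0 * (w 0 * u 1 - w 1 * u 0) = 0 := by linear_combination u 1 * e1 i - w 1 * e2 i
    have a2 : n i 1 * (w 0 * u 1 - w 1 * u 0) = 0 := by linear_combination w 0 * e2 i - u 0 * e1 i
    fin_cases j
    · exact (mul_eq_zero.mp a1).resolve_right hd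
    · exact (mul_eq_zero.mp a2).resolve_right hd
  by_cases h0 : w 0 = 0
  · have h1 : w 1 ≠ 0 := by
      intro h1
      apply hw
      ext i
      fin_cases i
      · exact h0
      · exact h1
    refine ⟨u 1 / w 1, ?_⟩
    ext i
    fin_cases i
    · simp only [Fin.zero_eta, Pi.smul_apply, smul_eq_mul, h0, mul_zero]
      rw [h0, zero_mul, zero_sub, neg_eq_zero] at hd
      exact (mul_eq_zero.mp hd).resolve_left h1
    · simp only [Fin.mk_one, Pi.smul_apply, smul_eq_mul]
      field_simp
  · refine ⟨u 0 / w 0, ?_⟩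
    ext i
    fin_cases i
    · simp only [Fin.zero_eta, Pi.smul_apply, smul_eq_mul]
      field_simp
    · simp only [Fin.mk_one, Pi.smul_apply, smul_eq_mul]
      field_simp
      linear_combination hd

/-- **Lemma D.** -/
lemma exists_line_of_sq_zero (h2 : (2 : F) ≠ 0) {b : Matrix (Fin 2) (Fin 2) F}
    (hb : tl b ≠ 0) (hsq : tl b * tl b = 0) :
    ∃ w : Fin 2 → F, w ≠ 0 ∧ ∀ (y c : Matrix (Fin 2) (Fin 2) F), c.trace = b.trace →
      y * b = c * y → c * b = b * c → ∃ t : F, y.mulVec w = t • w := by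
  obtain ⟨v, hv⟩ : ∃ v : Fin 2 → F, (tl b).mulVec v ≠ 0 := by
    by_contra hcon
    push Not at hcon
    apply hb
    ext i j
    have := congrFun (hcon (Pi.single j 1)) i
    simpa using this
  refine ⟨(tl b).mulVec v, hv, ?_⟩
  intro y c htr h hc
  have h1 := tl_conj htr h
  have h3 := tl_commute hc
  have h4 := anticomm_of_trace_zero (tl b) (tl c) (tl_trace h2 b) (tl_trace h2 c)
  rw [h3] at h4
  have h5 : tl b * (tl b * tl c + tl b * tl c) =
      tl b * (((tl b * tl c).trace) • (1 : Matrix (Fin 2) (Fin 2) F)) := by rw [h4]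
  rw [mul_add, ← mul_assoc, hsq, zero_mul, add_zero, mul_smul_comm, mul_one] at h5
  have hs : (tl b * tl c).trace = 0 := (smul_eq_zero.mp h5.symm).resolve_right hb
  rw [hs, zero_smul, ← two_smul F] at h4
  have h6 : tl b * tl c = 0 := (smul_eq_zero.mp h4).resolve_left h2
  apply ker_line hb hv
  · rw [Matrix.mulVec_mulVec, hsq, Matrix.zero_mulVec]
  · rw [Matrix.mulVec_mulVec, Matrix.mulVec_mulVec, mul_assoc, h1, ← mul_assoc, h6, zero_mul,
      Matrix.zero_mulVec]

end mat

section grp
open scoped commutatorElement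
variable {F : Type*} [Field F]

/-- `X` stabilizes a line. -/
def FixLine (X : Subgroup (GL (Fin 2) F)) : Prop :=
  ∃ v : Fin 2 → F, v ≠ 0 ∧ ∀ x ∈ X, ∃ c : F, (x : Matrix (Fin 2) (Fin 2) F).mulVec v = c • v

lemma commute_of_two_eigen {a b : Matrix (Fin 2) (Fin 2) F} {v v' : Fin 2 → F} (hv : v ≠ 0)
    (hv' : ∀ c : F, v' ≠ c • v) {α β α' β' : F} (h1 : a.mulVec v = α • v) (h2 : b.mulVec v = β • v)
    (h3 : a.mulVec v' = α' • v') (h4 : b.mulVec v' = β' • v') : a * b = b * a := by
  by_contra hne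
  have hn : a * b - b * a ≠ 0 := sub_ne_zero.mpr hne
  have e1 : (a * b - b * a).mulVec v = 0 := by
    rw [Matrix.sub_mulVec, ← Matrix.mulVec_mulVec, ← Matrix.mulVec_mulVec, h1, h2,
      Matrix.mulVec_smul, Matrix.mulVec_smul, h1, h2, smul_smul, smul_smul, mul_comm, sub_self]
  have e2 : (a * b - b * a).mulVec v' = 0 := by
    rw [Matrix.sub_mulVec, ← Matrix.mulVec_mulVec, ← Matrix.mulVec_mulVec, h3, h4,
      Matrix.mulVec_smul, Matrix.mulVec_smul, h3, h4, smul_smul, smul_smul, mul_comm, sub_self]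
  obtain ⟨c, hc⟩ := ker_line hn hv e1 e2
  exact hv' c hc

lemma commutator_self_le (X : Subgroup (GL (Fin 2) F)) : ⁅X, X⁆ ≤ X :=
  Subgroup.commutator_le.mpr fun _ ha _ hb =>
    X.mul_mem (X.mul_mem (X.mul_mem ha hb) (X.inv_mem ha)) (X.inv_mem hb)

theorem comm_or_fixLine [Finite F] (h2 : (2 : F) ≠ 0) : ∀ (n : ℕ) (X : Subgroup (GL (Fin 2) F)),
    Nat.card X = n → Odd n → Group.IsSolvable X → (∀ a ∈ X, ∀ b ∈ X, a * b = b * a) ∨ FixLine X := by
  intro n
  induction n using Nat.strong_induction_on with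
  | _ n ih =>
  intro X hcard hodd hsolv
  have := hsolv
  by_cases hnt : Nontrivial X
  swap
  · left
    rw [not_nontrivial_iff_subsingleton] at hnt
    intro a ha b hb
    have e1 : (⟨a, ha⟩ : X) = ⟨b, hb⟩ := Subsingleton.elim _ _
    have e2 : a = b := congrArg Subtype.val e1
    rw [e2]
  have hlt : ⁅X, X⁆ < X := by
    refine lt_of_le_of_ne (commutator_self_le X) ?_
    intro h
    have h3 := Group.IsSolvable.commutator_lt_top_of_nontrivial X
    apply h3.ne
    apply Subgroup.map_injective X.subtype_injective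
    rw [Subgroup.map_subtype_commutator, h, ← MonoidHom.range_eq_map, Subgroup.range_subtype]
  obtain ⟨N, hNmax⟩ := (Set.toFinite {N : Subgroup (GL (Fin 2) F) | ⁅X, X⁆ ≤ N ∧ N < X}).exists_maximal
    ⟨⁅X, X⁆, le_rfl, hlt⟩
  obtain ⟨hXN, hNX⟩ := hNmax.prop
  have hNn : ∀ y ∈ X, ∀ m ∈ N, y * m * y⁻¹ ∈ N := by
    intro y hy m hm
    have e : y * m * y⁻¹ = ⁅y, m⁆ * m := by rw [commutatorElement_def]; group
    rw [e]
    exact N.mul_mem (hXN (Subgroup.commutator_mem_commutator hy (hNX.le hm))) hm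
  obtain ⟨x, hxX, hxN⟩ := SetLike.exists_of_lt hNX
  have hsup : N ⊔ Subgroup.zpowers x = X := by
    by_contra hne
    have h3 : N ⊔ Subgroup.zpowers x ≤ X := sup_le hNX.le (by rwa [Subgroup.zpowers_le])
    have h4 := hNmax.le_of_ge (y := N ⊔ Subgroup.zpowers x)
      ⟨hXN.trans le_sup_left, lt_of_le_of_ne h3 hne⟩ le_sup_left
    exact hxN (h4 (Subgroup.mem_sup_right (Subgroup.mem_zpowers x)))
  have hdvd : Nat.card N ∣ Nat.card X := Subgroup.card_dvd_of_le hNX.le
  have hNcard : Nat.card N < n := by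
    rw [← hcard]
    refine lt_of_le_of_ne (Nat.le_of_dvd Nat.card_pos hdvd) ?_
    intro h
    exact hNX.ne (Subgroup.eq_of_le_of_card_ge hNX.le h.ge)
  have hNodd : Odd (Nat.card N) := by
    rw [hcard] at hdvd
    exact Odd.of_dvd_nat hodd hdvd
  have hNsolv : Group.IsSolvable N :=
    Group.isSolvable_of_isSolvable_injective (Subgroup.inclusion_injective hNX.le)
  have hpow : ∀ y ∈ X, (y : Matrix (Fin 2) (Fin 2) F) ^ n = 1 := by
    intro y hy
    have e1 : (⟨y, hy⟩ : X) ^ Nat.card X = 1 := pow_card_eq_one'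
    have e2 : y ^ n = 1 := by
      rw [← hcard]
      exact congrArg Subtype.val e1
    rw [← Units.val_pow_eq_pow_val, e2, Units.val_one]
  have hconj : ∀ y b : GL (Fin 2) F, (y : Matrix (Fin 2) (Fin 2) F) * b =
      ((y * b * y⁻¹ : GL (Fin 2) F) : Matrix (Fin 2) (Fin 2) F) * y := by
    intro y b
    rw [← Units.val_mul, ← Units.val_mul, inv_mul_cancel_right]
  have htrace : ∀ y b : GL (Fin 2) F, ((y * b * y⁻¹ : GL (Fin 2) F) : Matrix (Fin 2) (Fin 2) F).trace =
      (b : Matrix (Fin 2) (Fin 2) F).trace := by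
    intro y b
    rw [Units.val_mul, Matrix.trace_mul_comm, ← Units.val_mul, ← mul_assoc, inv_mul_cancel, one_mul]
  have hN := ih (Nat.card N) hNcard N rfl hNodd hNsolv
  by_cases hNc : ∀ a ∈ N, ∀ b ∈ N, a * b = b * a
  · by_cases hsc : ∀ b ∈ N, tl (b : Matrix (Fin 2) (Fin 2) F) = 0
    · -- `N` scalar
      left
      have hcen : ∀ b ∈ N, ∀ g : GL (Fin 2) F, g * b = b * g := by
        intro b hb g
        apply Units.ext
        rw [Units.val_mul, Units.val_mul]
        apply commute_of_tl_commute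
        rw [hsc b hb, mul_zero, zero_mul]
      have h3 : X ≤ Subgroup.centralizer ((N : Set (GL (Fin 2) F)) ∪ {x}) := by
        rw [← hsup, sup_le_iff, Subgroup.zpowers_le]
        constructor
        · intro b hb
          rw [Subgroup.mem_centralizer_iff]
          intro g _
          exact hcen b hb g
        · rw [Subgroup.mem_centralizer_iff]
          rintro g (hg | hg)
          · exact (hcen g hg x).symm
          · rw [Set.mem_singleton_iff.mp hg]
      have h4 : X ≤ Subgroup.centralizer (X : Set (GL (Fin 2) F)) := by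
        conv_lhs => rw [← hsup]
        rw [sup_le_iff, Subgroup.zpowers_le]
        constructor
        · intro b hb
          rw [Subgroup.mem_centralizer_iff]
          intro g _
          exact hcen b hb g
        · rw [Subgroup.mem_centralizer_iff]
          intro g hg
          exact (Subgroup.mem_centralizer_iff.mp (h3 hg) x (Or.inr rfl)).symm
      intro a ha b hb
      exact Subgroup.mem_centralizer_iff.mp (h4 hb) a ha
    · push Not at hsc
      obtain ⟨b, hbN, hb0⟩ := hsc
      have hcb : ∀ y ∈ X, ((y * b * y⁻¹ : GL (Fin 2) F) : Matrix (Fin 2) (Fin 2) F) * b =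
          b * ((y * b * y⁻¹ : GL (Fin 2) F) : Matrix (Fin 2) (Fin 2) F) := by
        intro y hy
        rw [← Units.val_mul, ← Units.val_mul, hNc _ (hNn y hy b hbN) b hbN]
      by_cases hsq : tl (b : Matrix (Fin 2) (Fin 2) F) * tl (b : Matrix (Fin 2) (Fin 2) F) = 0
      · right
        obtain ⟨w, hw, hline⟩ := exists_line_of_sq_zero h2 hb0 hsq
        exact ⟨w, hw, fun y hy => hline y _ (htrace y b) (hconj y b) (hcb y hy)⟩
      · left
        have hall : ∀ y ∈ X, (y : Matrix (Fin 2) (Fin 2) F) * b = b * y := fun y hy =>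
          commute_of_odd_order h2 hodd (hpow y hy) (hconj y b) (hcb y hy) hsq
        intro a ha c hc
        apply Units.ext
        rw [Units.val_mul, Units.val_mul]
        exact commute_of_commute_both h2 (hall a ha) (hall c hc) hsq
  · have hNl : FixLine N := hN.resolve_left hNc
    · right
      obtain ⟨v, hv, hline⟩ := hNl
      refine ⟨v, hv, ?_⟩
      intro y hy
      by_contra hcon
      push Not at hcon
      apply hNc
      intro a ha b hb
      have key : ∀ m ∈ N, ∃ c : F, (m : Matrix (Fin 2) (Fin 2) F).mulVec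
          ((y : Matrix (Fin 2) (Fin 2) F).mulVec v) = c • (y : Matrix (Fin 2) (Fin 2) F).mulVec v := by
        intro m hm
        have hm' : y⁻¹ * m * y ∈ N := by
          have := hNn y⁻¹ (X.inv_mem hy) m hm
          rwa [inv_inv] at this
        obtain ⟨c, hc⟩ := hline _ hm'
        refine ⟨c, ?_⟩
        rw [← Matrix.mulVec_smul, ← hc, Matrix.mulVec_mulVec, Matrix.mulVec_mulVec, ← Units.val_mul,
          ← Units.val_mul]
        congr 2
        group
      obtain ⟨α, hα⟩ := hline a ha
      obtain ⟨β, hβ⟩ := hline b hb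
      obtain ⟨α', hα'⟩ := key a ha
      obtain ⟨β', hβ'⟩ := key b hb
      apply Units.ext
      rw [Units.val_mul, Units.val_mul]
      exact commute_of_two_eigen hv hcon hα hβ hα' hβ'

lemma pow_char_eq_one_of_fix {p : ℕ} [Fact p.Prime] [CharP F p] {x : Matrix (Fin 2) (Fin 2) F}
    {v : Fin 2 → F} (hv : v ≠ 0) (hx : x.mulVec v = v) (hdet : x.det = 1) : x ^ p = 1 := by
  have h1 : (x - 1).det = 0 := by
    rw [← Matrix.exists_mulVec_eq_zero_iff]
    exact ⟨v, hv, by rw [Matrix.sub_mulVec, hx, Matrix.one_mulVec, sub_self]⟩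
  have h2 : (x - 1).trace = 0 := by
    rw [det_fin_two] at h1 hdet
    rw [trace_fin_two]
    simp only [Matrix.sub_apply, one_apply_eq, ne_eq, zero_ne_one, not_false_eq_true, one_apply_ne,
      sub_zero, one_ne_zero] at h1 ⊢
    linear_combination hdet - h1
  have h3 := sq_of_trace_zero _ h2
  rw [h1, neg_zero, zero_smul] at h3
  have h4 : x = (x - 1) + 1 := by abel
  have hp2 : 2 ≤ p := (Fact.out : p.Prime).two_le
  have h5 : (x - 1) ^ p = 0 := by
    obtain ⟨k, rfl⟩ := Nat.exists_eq_add_of_le hp2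
    rw [pow_add, sq, h3, zero_mul]
  rw [h4, add_pow_char_of_commute _ (Commute.one_right _), h5, one_pow, zero_add]

theorem pow_eq_one_of_mem_commutator_of_fixLine {p : ℕ} [Fact p.Prime] [CharP F p]
    {X : Subgroup (GL (Fin 2) F)} (hX : FixLine X) : ∀ x ∈ ⁅X, X⁆, x ^ p = 1 := by
  obtain ⟨v, hv, hline⟩ := hX
  let K : Subgroup (GL (Fin 2) F) :=
    { carrier := {x | (x : Matrix (Fin 2) (Fin 2) F).mulVec v = v ∧
        (x : Matrix (Fin 2) (Fin 2) F).det = 1}
      one_mem' := ⟨by rw [Units.val_one, Matrix.one_mulVec], by rw [Units.val_one, Matrix.det_one]⟩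
      mul_mem' := by
        rintro a b ⟨ha, ha'⟩ ⟨hb, hb'⟩
        refine ⟨?_, ?_⟩
        · rw [Units.val_mul, ← Matrix.mulVec_mulVec, hb, ha]
        · rw [Units.val_mul, Matrix.det_mul, ha', hb', one_mul]
      inv_mem' := by
        rintro a ⟨ha, ha'⟩
        refine ⟨?_, ?_⟩
        · conv_lhs => rw [← ha]
          rw [Matrix.mulVec_mulVec, ← Units.val_mul, inv_mul_cancel, Units.val_one,
            Matrix.one_mulVec]
        · have : ((a⁻¹ : GL (Fin 2) F) : Matrix (Fin 2) (Fin 2) F).det *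
              (a : Matrix (Fin 2) (Fin 2) F).det = 1 := by
            rw [← Matrix.det_mul, ← Units.val_mul, inv_mul_cancel, Units.val_one, Matrix.det_one]
          rwa [ha', mul_one] at this }
  have hK : ⁅X, X⁆ ≤ K := by
    rw [Subgroup.commutator_le]
    intro a ha b hb
    obtain ⟨α, hα⟩ := hline a ha
    obtain ⟨β, hβ⟩ := hline b hb
    have hinv : ∀ (g : GL (Fin 2) F) (γ : F), (g : Matrix (Fin 2) (Fin 2) F).mulVec v = γ • v →
        ((g⁻¹ : GL (Fin 2) F) : Matrix (Fin 2) (Fin 2) F).mulVec v = γ⁻¹ • v := by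
      intro g γ hg
      have hγ : γ ≠ 0 := by
        intro h0
        rw [h0, zero_smul] at hg
        apply hv
        have : ((g⁻¹ : GL (Fin 2) F) : Matrix (Fin 2) (Fin 2) F).mulVec
            ((g : Matrix (Fin 2) (Fin 2) F).mulVec v) = 0 := by rw [hg, Matrix.mulVec_zero]
        rwa [Matrix.mulVec_mulVec, ← Units.val_mul, inv_mul_cancel, Units.val_one,
          Matrix.one_mulVec] at this
      have : ((g⁻¹ : GL (Fin 2) F) : Matrix (Fin 2) (Fin 2) F).mulVec
          ((g : Matrix (Fin 2) (Fin 2) F).mulVec v) = v := by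
        rw [Matrix.mulVec_mulVec, ← Units.val_mul, inv_mul_cancel, Units.val_one,
          Matrix.one_mulVec]
      rw [hg, Matrix.mulVec_smul] at this
      rw [← this, smul_smul, inv_mul_cancel₀ hγ, one_smul, this]
    have hα' := hinv a α hα
    have hβ' := hinv b β hβ
    have hα0 : α ≠ 0 := by
      intro h0
      rw [h0, zero_smul] at hα
      apply hv
      have : ((a⁻¹ : GL (Fin 2) F) : Matrix (Fin 2) (Fin 2) F).mulVec
          ((a : Matrix (Fin 2) (Fin 2) F).mulVec v) = 0 := by rw [hα, Matrix.mulVec_zero]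
      rwa [Matrix.mulVec_mulVec, ← Units.val_mul, inv_mul_cancel, Units.val_one,
        Matrix.one_mulVec] at this
    have hβ0 : β ≠ 0 := by
      intro h0
      rw [h0, zero_smul] at hβ
      apply hv
      have : ((b⁻¹ : GL (Fin 2) F) : Matrix (Fin 2) (Fin 2) F).mulVec
          ((b : Matrix (Fin 2) (Fin 2) F).mulVec v) = 0 := by rw [hβ, Matrix.mulVec_zero]
      rwa [Matrix.mulVec_mulVec, ← Units.val_mul, inv_mul_cancel, Units.val_one,
        Matrix.one_mulVec] at this
    refine ⟨?_, ?_⟩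
    · rw [commutatorElement_def, Units.val_mul, Units.val_mul, Units.val_mul,
        ← Matrix.mulVec_mulVec, ← Matrix.mulVec_mulVec, ← Matrix.mulVec_mulVec, hβ',
        Matrix.mulVec_smul, hα', Matrix.mulVec_smul, Matrix.mulVec_smul, Matrix.mulVec_smul, hβ,
        Matrix.mulVec_smul, Matrix.mulVec_smul, hα, smul_smul, smul_smul, smul_smul]
      have : β⁻¹ * α⁻¹ * β * α = 1 := by field_simp
      rw [this, one_smul]
    · have e1 : Matrix.GeneralLinearGroup.det ⁅a, b⁆ = 1 := by
        rw [map_commutatorElement, commutatorElement_eq_one_iff_mul_comm, mul_comm]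
      have e2 := congrArg Units.val e1
      rwa [Matrix.GeneralLinearGroup.val_det_apply, Units.val_one] at e2
  intro x hx
  obtain ⟨h1, h2⟩ := hK hx
  apply Units.ext
  rw [Units.val_pow_eq_pow_val, Units.val_one]
  exact pow_char_eq_one_of_fix hv h1 h2

theorem odd_solvable_GL2_commutator_pow {p : ℕ} [Fact p.Prime] (hp : p ≠ 2)
    (X : Subgroup (GL (Fin 2) (ZMod p))) (hodd : Odd (Nat.card X)) (hsolv : Group.IsSolvable X) :
    ∀ x ∈ ⁅X, X⁆, x ^ p = 1 := by
  have h2 : (2 : ZMod p) ≠ 0 := by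
    intro h
    have h3 : ((2 : ℕ) : ZMod p) = 0 := by exact_mod_cast h
    rw [ZMod.natCast_eq_zero_iff] at h3
    exact hp ((Nat.prime_dvd_prime_iff_eq Fact.out Nat.prime_two).mp h3)
  rcases comm_or_fixLine h2 _ X rfl hodd hsolv with h | h
  · have : ⁅X, X⁆ = ⊥ := by
      rw [Subgroup.commutator_eq_bot_iff_le_centralizer]
      intro a ha
      rw [Subgroup.mem_centralizer_iff]
      intro b hb
      exact h b hb a ha
    intro x hx
    rw [this, Subgroup.mem_bot] at hx
    rw [hx, one_pow]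
  · exact pow_eq_one_of_mem_commutator_of_fixLine h

/-- **Lemma U.** A finite solvable group of odd order acting on an elementary abelian group of
order at most `p ^ 2`: the `p`-th powers of the elements of the derived subgroup act trivially. -/
theorem commutator_pow_act_trivial {p : ℕ} [Fact p.Prime] (hp : p ≠ 2) {H V : Type*} [Group H]
    [Finite H] [Group V] [Finite V] (hodd : Odd (Nat.card H)) [Group.IsSolvable H]
    (hcard : Nat.card V ≤ p ^ 2) (hexp : ∀ x : V, x ^ p = 1) (ψ : H →* MulAut V) :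
    ∀ h ∈ commutator H, (ψ h) ^ p = 1 := by
  have hpp : p.Prime := Fact.out
  have hV : IsPGroup p V := fun x => ⟨1, by rw [pow_one]; exact hexp x⟩
  obtain ⟨e, he⟩ := hV.exists_card_eq
  have he2 : e ≤ 2 := by
    rw [he] at hcard
    exact (Nat.pow_le_pow_iff_right hpp.one_lt).mp hcard
  have hcyc : IsCyclic V → ∀ h ∈ commutator H, (ψ h) ^ p = 1 := by
    intro hc h hh
    have hcomm : ∀ a b : MulAut V, a * b = b * a := by
      intro a b
      obtain ⟨m, hm⟩ := MonoidHom.map_cyclic a.toMonoidHom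
      obtain ⟨n, hn⟩ := MonoidHom.map_cyclic b.toMonoidHom
      ext x
      have e1 : ∀ y, a y = y ^ m := hm
      have e2 : ∀ y, b y = y ^ n := hn
      rw [MulAut.mul_apply, MulAut.mul_apply, e1, e2, e1, e2, ← _root_.zpow_mul, ← _root_.zpow_mul, mul_comm]
    have : commutator H ≤ ψ.ker := by
      rw [commutator_def, Subgroup.commutator_le]
      intro a _ b _
      rw [MonoidHom.mem_ker, map_commutatorElement, commutatorElement_eq_one_iff_mul_comm]
      exact hcomm _ _
    rw [MonoidHom.mem_ker.mp (this hh), one_pow]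
  interval_cases e
  · apply hcyc
    rw [pow_zero] at he
    have : Subsingleton V := (Nat.card_eq_one_iff_unique.mp he).1
    infer_instance
  · apply hcyc
    rw [pow_one] at he
    exact isCyclic_of_prime_card he
  · have hc := IsPGroup.isMulCommutative_of_card_eq_prime_sq he
    let _ : CommGroup V := { (inferInstance : Group V) with mul_comm := hc.is_comm.comm }
    obtain ⟨φ, hφ⟩ := Cfsg.Agent.Lib.Helper62.exists_GL_of_mulAut (p := p) (e := 2) hexp he ψ
    intro h hh
    have h1 : Odd (Nat.card φ.range) := Odd.of_dvd_nat hodd (Subgroup.card_range_dvd φ)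
    have h2 : Group.IsSolvable φ.range := Group.isSolvable_of_surjective φ.rangeRestrict_surjective
    have h3 : φ h ∈ ⁅φ.range, φ.range⁆ := by
      rw [MonoidHom.range_eq_map, ← Subgroup.map_commutator, ← commutator_def]
      exact Subgroup.mem_map_of_mem φ hh
    have h4 := odd_solvable_GL2_commutator_pow hp φ.range h1 h2 _ h3
    rw [← map_pow, hφ, map_pow] at h4
    exact h4

end grp

end Cfsg.Agent.Lib.Helper3
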