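import Mathlib
import Cfsg.Agent.Lib.Helper3.ClassTwo

set_option autoImplicit false

namespace Cfsg.Agent.Lib.Helper3

open scoped commutatorElement

section Elementwise

variable {G : Type*} [Group G]

/-- mirror of `pow_mul_comm_of_central` -/
theorem mul_pow_comm_of_central {x y c : G} (hyx : y * x = x * y * c) (hcx : Commute c x)
    (n : ℕ) : y * x ^ n = x ^ n * y * c ^ n := by
  induction n with
  | zero => simp
  | succ n ih =>
    have h1 : Commute (c ^ n) x := hcx.pow_left n
    calc y * x ^ (n + 1) = (y * x ^ n) * x := by rw [pow_succ, mul_assoc]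
      _ = (x ^ n * y * c ^ n) * x := by rw [ih]
      _ = x ^ n * y * (c ^ n * x) := by simp only [mul_assoc]
      _ = x ^ n * y * (x * c ^ n) := by rw [h1.eq]
      _ = x ^ n * (y * x) * c ^ n := by simp only [mul_assoc]
      _ = x ^ n * (x * y * c) * c ^ n := by rw [hyx]
      _ = x ^ (n + 1) * y * c ^ (n + 1) := by
          rw [pow_succ x, pow_succ' c]; simp only [mul_assoc]

theorem central_move {z : G} (hz : z ∈ Subgroup.center G) (a b : G) : a * z * b = a * b * z := by
  rw [mul_assoc, ← Subgroup.mem_center_iff.mp hz b, ← mul_assoc]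

/-- `y x^n = x^n y c^n d^(n choose 2)` -/
theorem mul_pow_comm_class_three {x y c d : G} (hyx : y * x = x * y * c) (hcx : c * x = x * c * d)
    (hd : d ∈ Subgroup.center G) (n : ℕ) :
    y * x ^ n = x ^ n * y * c ^ n * d ^ (n.choose 2) := by
  induction n with
  | zero => simp
  | succ n ih =>
    have hdc : Commute d c := (Subgroup.mem_center_iff.mp hd c).symm
    have e1 : c ^ n * x = x * c ^ n * d ^ n := pow_mul_comm_of_central hcx hdc n
    have hch : (n + 1).choose 2 = n + n.choose 2 := by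
      rw [Nat.choose_succ_succ' n 1, Nat.choose_one_right]
    have hk : d ^ (n.choose 2) ∈ Subgroup.center G := Subgroup.pow_mem _ hd _
    calc y * x ^ (n + 1) = (y * x ^ n) * x := by rw [pow_succ, mul_assoc]
      _ = (x ^ n * y * c ^ n * d ^ (n.choose 2)) * x := by rw [ih]
      _ = x ^ n * y * c ^ n * x * d ^ (n.choose 2) := central_move hk _ _
      _ = x ^ n * y * (c ^ n * x) * d ^ (n.choose 2) := by simp only [mul_assoc]
      _ = x ^ n * y * (x * c ^ n * d ^ n) * d ^ (n.choose 2) := by rw [e1]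
      _ = x ^ n * (y * x) * c ^ n * d ^ n * d ^ (n.choose 2) := by simp only [mul_assoc]
      _ = x ^ n * (x * y * c) * c ^ n * d ^ n * d ^ (n.choose 2) := by rw [hyx]
      _ = x ^ (n + 1) * y * c ^ (n + 1) * d ^ ((n + 1).choose 2) := by
          rw [hch, pow_add d n, pow_succ x, pow_succ' c]; simp only [mul_assoc]

/-- `y^n x = x y^n c^n f^(n choose 2)` -/
theorem pow_mul_comm_class_three {x y c f : G} (hyx : y * x = x * y * c) (hcy : c * y = y * c * f)
    (hf : f ∈ Subgroup.center G) (n : ℕ) :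
    y ^ n * x = x * y ^ n * c ^ n * f ^ (n.choose 2) := by
  induction n with
  | zero => simp
  | succ n ih =>
    have hfy : Commute f y := (Subgroup.mem_center_iff.mp hf y).symm
    have e1 : c * y ^ n = y ^ n * c * f ^ n := mul_pow_comm_of_central hcy hfy n
    have hch : (n + 1).choose 2 = n + n.choose 2 := by
      rw [Nat.choose_succ_succ' n 1, Nat.choose_one_right]
    have hk : f ^ n ∈ Subgroup.center G := Subgroup.pow_mem _ hf _
    calc y ^ (n + 1) * x = y * (y ^ n * x) := by rw [pow_succ', mul_assoc]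
      _ = y * (x * y ^ n * c ^ n * f ^ (n.choose 2)) := by rw [ih]
      _ = (y * x) * y ^ n * c ^ n * f ^ (n.choose 2) := by simp only [mul_assoc]
      _ = (x * y * c) * y ^ n * c ^ n * f ^ (n.choose 2) := by rw [hyx]
      _ = x * y * (c * y ^ n) * c ^ n * f ^ (n.choose 2) := by simp only [mul_assoc]
      _ = x * y * (y ^ n * c * f ^ n) * c ^ n * f ^ (n.choose 2) := by rw [e1]
      _ = (x * y * y ^ n * c) * f ^ n * c ^ n * f ^ (n.choose 2) := by simp only [mul_assoc]
      _ = (x * y * y ^ n * c) * c ^ n * f ^ n * f ^ (n.choose 2) := by rw [central_move hk]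
      _ = x * y ^ (n + 1) * c ^ (n + 1) * f ^ ((n + 1).choose 2) := by
          rw [hch, pow_add f n]; simp only [pow_succ', mul_assoc]

/-- The class three power formula. -/
theorem mul_pow_class_three_aux {x y c d f : G} (hyx : y * x = x * y * c)
    (hcx : c * x = x * c * d) (hcy : c * y = y * c * f)
    (hd : d ∈ Subgroup.center G) (hf : f ∈ Subgroup.center G) (n : ℕ) :
    (x * y) ^ n = x ^ n * y ^ n * c ^ (n.choose 2) * d ^ (n.choose 3) *
      f ^ (n.choose 2 + 2 * n.choose 3) := by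
  induction n with
  | zero => simp
  | succ n ih =>
    have hdc : Commute d c := (Subgroup.mem_center_iff.mp hd c).symm
    have hfc : Commute f c := (Subgroup.mem_center_iff.mp hf c).symm
    set k := n.choose 2 with hk
    set a := n.choose 3 with ha
    have e1 : c ^ k * x = x * c ^ k * d ^ k := pow_mul_comm_of_central hcx hdc k
    have e2 : y ^ n * x = x * y ^ n * c ^ n * f ^ k := pow_mul_comm_class_three hyx hcy hf n
    have e3 : c ^ (n + k) * y = y * c ^ (n + k) * f ^ (n + k) :=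
      pow_mul_comm_of_central hcy hfc (n + k)
    have hch2 : (n + 1).choose 2 = n + k := by
      rw [Nat.choose_succ_succ' n 1, Nat.choose_one_right]
    have hch3 : (n + 1).choose 3 = k + a := by
      rw [Nat.choose_succ_succ' n 2]
    have hD : ∀ m : ℕ, d ^ m ∈ Subgroup.center G := fun m => Subgroup.pow_mem _ hd _
    have hF : ∀ m : ℕ, f ^ m ∈ Subgroup.center G := fun m => Subgroup.pow_mem _ hf _
    calc (x * y) ^ (n + 1) = (x * y) ^ n * (x * y) := pow_succ _ _
      _ = x ^ n * y ^ n * c ^ k * d ^ a * f ^ (k + 2 * a) * (x * y) := by rw [ih]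
      _ = x ^ n * y ^ n * c ^ k * d ^ a * (x * y) * f ^ (k + 2 * a) := central_move (hF _) _ _
      _ = x ^ n * y ^ n * c ^ k * (x * y) * d ^ a * f ^ (k + 2 * a) := by
          rw [central_move (hD a)]
      _ = x ^ n * y ^ n * (c ^ k * x) * y * d ^ a * f ^ (k + 2 * a) := by simp only [mul_assoc]
      _ = x ^ n * y ^ n * (x * c ^ k * d ^ k) * y * d ^ a * f ^ (k + 2 * a) := by rw [e1]
      _ = (x ^ n * y ^ n * x * c ^ k) * d ^ k * y * d ^ a * f ^ (k + 2 * a) := by
          simp only [mul_assoc]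
      _ = (x ^ n * y ^ n * x * c ^ k) * y * d ^ k * d ^ a * f ^ (k + 2 * a) := by
          rw [central_move (hD k)]
      _ = x ^ n * (y ^ n * x) * c ^ k * y * d ^ k * d ^ a * f ^ (k + 2 * a) := by
          simp only [mul_assoc]
      _ = x ^ n * (x * y ^ n * c ^ n * f ^ k) * c ^ k * y * d ^ k * d ^ a * f ^ (k + 2 * a) := by
          rw [e2]
      _ = (x ^ n * x * y ^ n * c ^ n) * f ^ k * (c ^ k * y) * d ^ k * d ^ a * f ^ (k + 2 * a) := by
          simp only [mul_assoc]
      _ = (x ^ n * x * y ^ n * c ^ n) * (c ^ k * y) * f ^ k * d ^ k * d ^ a * f ^ (k + 2 * a) := by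
          rw [central_move (hF k)]
      _ = x ^ n * x * y ^ n * (c ^ (n + k) * y) * f ^ k * d ^ k * d ^ a * f ^ (k + 2 * a) := by
          rw [pow_add c n k]; simp only [mul_assoc]
      _ = x ^ n * x * y ^ n * (y * c ^ (n + k) * f ^ (n + k)) * f ^ k * d ^ k * d ^ a *
            f ^ (k + 2 * a) := by rw [e3]
      _ = (x ^ n * x * y ^ n * y * c ^ (n + k)) * (f ^ (n + k) * f ^ k) * (d ^ k * d ^ a) *
            f ^ (k + 2 * a) := by simp only [mul_assoc]
      _ = (x ^ n * x * y ^ n * y * c ^ (n + k)) * (d ^ k * d ^ a) * (f ^ (n + k) * f ^ k) *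
            f ^ (k + 2 * a) := by
          rw [central_move (Subgroup.mul_mem _ (hF _) (hF _))]
      _ = x ^ (n + 1) * y ^ (n + 1) * c ^ ((n + 1).choose 2) * d ^ ((n + 1).choose 3) *
            f ^ ((n + 1).choose 2 + 2 * (n + 1).choose 3) := by
          rw [hch2, hch3, ← pow_add d, ← pow_add f, mul_assoc _ (f ^ _) (f ^ _), ← pow_add f,
            ← pow_succ, mul_assoc (x ^ (n + 1)), ← pow_succ]
          congr 2
          ring

end Elementwise

section ClassThree

variable {G : Type*} [Group G]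

theorem commutator_mem_center_of_class_three
    (h3 : ⁅⁅commutator G, (⊤ : Subgroup G)⁆, (⊤ : Subgroup G)⁆ = ⊥) {c : G}
    (hc : c ∈ commutator G) (g : G) : ⁅c, g⁆ ∈ Subgroup.center G := by
  rw [Subgroup.commutator_eq_bot_iff_le_centralizer] at h3
  have : ⁅c, g⁆ ∈ ⁅commutator G, (⊤ : Subgroup G)⁆ :=
    Subgroup.commutator_mem_commutator hc (Subgroup.mem_top g)
  have h4 := h3 this
  rw [Subgroup.coe_top, Subgroup.centralizer_univ] at h4
  exact h4

/-- class three power formula with explicit commutators -/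
theorem mul_pow_class_three (h3 : ⁅⁅commutator G, (⊤ : Subgroup G)⁆, (⊤ : Subgroup G)⁆ = ⊥)
    (x y : G) (n : ℕ) :
    (x * y) ^ n = x ^ n * y ^ n * ⁅y⁻¹, x⁻¹⁆ ^ (n.choose 2) *
      ⁅⁅y⁻¹, x⁻¹⁆⁻¹, x⁻¹⁆ ^ (n.choose 3) * ⁅⁅y⁻¹, x⁻¹⁆⁻¹, y⁻¹⁆ ^ (n.choose 2 + 2 * n.choose 3) := by
  have hc : ⁅y⁻¹, x⁻¹⁆⁻¹ ∈ commutator G := Subgroup.inv_mem _
    (Subgroup.commutator_mem_commutator (Subgroup.mem_top _) (Subgroup.mem_top _))
  exact mul_pow_class_three_aux (mul_eq_mul_mul_commutator x y)
    (mul_eq_mul_mul_commutator x _) (mul_eq_mul_mul_commutator y _)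
    (commutator_mem_center_of_class_three h3 hc _) (commutator_mem_center_of_class_three h3 hc _) n

/-- in class three with `p > 3`, a product of two elements of order dividing `p` has order
dividing `p`. -/
theorem mul_pow_eq_one_class_three {p : ℕ} (hp : p.Prime) (hp3 : 3 < p)
    (h3 : ⁅⁅commutator G, (⊤ : Subgroup G)⁆, (⊤ : Subgroup G)⁆ = ⊥)
    (x y : G) (hx : x ^ p = 1) (hy : y ^ p = 1) : (x * y) ^ p = 1 := by
  have hc : ⁅y⁻¹, x⁻¹⁆⁻¹ ∈ commutator G := Subgroup.inv_mem _
    (Subgroup.commutator_mem_commutator (Subgroup.mem_top _) (Subgroup.mem_top _))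
  set c := ⁅y⁻¹, x⁻¹⁆ with hcdef
  set d := ⁅c⁻¹, x⁻¹⁆ with hddef
  set f := ⁅c⁻¹, y⁻¹⁆ with hfdef
  have hyx : y * x = x * y * c := mul_eq_mul_mul_commutator x y
  have hcx : c * x = x * c * d := mul_eq_mul_mul_commutator x c
  have hcy : c * y = y * c * f := mul_eq_mul_mul_commutator y c
  have hd : d ∈ Subgroup.center G := commutator_mem_center_of_class_three h3 hc _
  have hf : f ∈ Subgroup.center G := commutator_mem_center_of_class_three h3 hc _
  have hdp : d ^ p = 1 := by
    have := mul_pow_comm_of_central hcx (Subgroup.mem_center_iff.mp hd x).symm p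
    rw [hx, mul_one, one_mul] at this
    exact mul_eq_left.mp this.symm
  have hfp : f ^ p = 1 := by
    have := mul_pow_comm_of_central hcy (Subgroup.mem_center_iff.mp hf y).symm p
    rw [hy, mul_one, one_mul] at this
    exact mul_eq_left.mp this.symm
  obtain ⟨k2, hk2⟩ := hp.dvd_choose_self (by norm_num : (2 : ℕ) ≠ 0) (by omega : 2 < p)
  obtain ⟨k3, hk3⟩ := hp.dvd_choose_self (by norm_num : (3 : ℕ) ≠ 0) hp3
  have hcp : c ^ p = 1 := by
    have := mul_pow_comm_class_three hyx hcx hd p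
    rw [hx, mul_one, one_mul, hk2, pow_mul, hdp, one_pow, mul_one] at this
    exact mul_eq_left.mp this.symm
  rw [mul_pow_class_three_aux hyx hcx hcy hd hf, hx, hy, hk2, hk3, pow_mul, hcp, pow_mul, hdp,
    ← mul_assoc 2, mul_comm 2 p, mul_assoc p, ← mul_add, pow_mul, hfp]
  simp

theorem omega_one_exponent_class_three {p : ℕ} (hp : p.Prime) (hp3 : 3 < p)
    (h3 : ⁅⁅commutator G, (⊤ : Subgroup G)⁆, (⊤ : Subgroup G)⁆ = ⊥) (g : G)
    (hg : g ∈ Subgroup.closure {x : G | x ^ p = 1}) : g ^ p = 1 := by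
  induction hg using Subgroup.closure_induction with
  | mem x hx => exact hx
  | one => exact one_pow _
  | mul x y _ _ hx hy => exact mul_pow_eq_one_class_three hp hp3 h3 x y hx hy
  | inv x _ hx => rw [inv_pow, hx, inv_one]

/-- in class three with `p > 3`: if the derived subgroup has exponent `p`, the `p`-power map is
multiplicative -/
theorem mul_pow_prime_class_three {p : ℕ} (hp : p.Prime) (hp3 : 3 < p)
    (h3 : ⁅⁅commutator G, (⊤ : Subgroup G)⁆, (⊤ : Subgroup G)⁆ = ⊥)
    (hder : ∀ c ∈ commutator G, c ^ p = 1) (x y : G) : (x * y) ^ p = x ^ p * y ^ p := by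
  obtain ⟨k2, hk2⟩ := hp.dvd_choose_self (by norm_num : (2 : ℕ) ≠ 0) (by omega : 2 < p)
  obtain ⟨k3, hk3⟩ := hp.dvd_choose_self (by norm_num : (3 : ℕ) ≠ 0) hp3
  have hm : ∀ a b : G, ⁅a, b⁆ ^ p = 1 := fun a b => hder _
    (Subgroup.commutator_mem_commutator (Subgroup.mem_top _) (Subgroup.mem_top _))
  rw [mul_pow_class_three h3, hk2, hk3, pow_mul, hm, pow_mul, hm,
    ← mul_assoc 2, mul_comm 2 p, mul_assoc p, ← mul_add, pow_mul, hm]
  simp

end ClassThree

end Cfsg.Agent.Lib.Helper3
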