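import Mathlib
import Cfsg.Agent.Lib.Helper3.PGroup

set_option autoImplicit false

namespace Cfsg.Agent.Lib.Helper3

open scoped commutatorElement

universe u

theorem card_quotient_of_card {X : Type*} [Group X] [Finite X] {p n k : ℕ} (hp : p.Prime)
    (N : Subgroup X) (hX : Nat.card X = p ^ n) (hN : Nat.card N = p ^ k) :
    k ≤ n ∧ Nat.card (X ⧸ N) = p ^ (n - k) := by
  have h := Subgroup.card_eq_card_quotient_mul_card_subgroup N
  rw [hX, hN] at h
  have hkn : k ≤ n := by
    have : p ^ k ∣ p ^ n := ⟨_, by rw [h, mul_comm]⟩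
    exact (Nat.pow_dvd_pow_iff_le_right hp.one_lt).mp this
  refine ⟨hkn, ?_⟩
  have hpos : 0 < p ^ k := pow_pos hp.pos k
  apply Nat.eq_of_mul_eq_mul_right hpos
  rw [← h, ← pow_add, Nat.sub_add_cancel hkn]

/-- a group whose central quotient has order `1` or `p` is commutative -/
theorem comm_of_card_center_quotient_le {X : Type*} [Group X] {p j : ℕ} [Fact p.Prime]
    (h : Nat.card (X ⧸ Subgroup.center X) = p ^ j) (hj : j ≤ 1) : IsMulCommutative X := by
  have hcyc : IsCyclic (X ⧸ Subgroup.center X) := by
    interval_cases j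
    · rw [pow_zero] at h
      have : Subsingleton (X ⧸ Subgroup.center X) := (Nat.card_eq_one_iff_unique.mp h).1
      infer_instance
    · rw [pow_one] at h
      exact isCyclic_of_prime_card h
  exact (QuotientGroup.mk' (Subgroup.center X)).isMulCommutative_of_isCyclic_of_ker_le_center
    (by rw [QuotientGroup.ker_mk'])

/-- The class of a group of order `p ^ m`, `m ≥ 2`, is at most `m - 1`. -/
theorem nilpotencyClass_le_of_card {p : ℕ} [Fact p.Prime] (m : ℕ) :
    ∀ (X : Type u) [Group X] [Finite X], Nat.card X = p ^ m → 2 ≤ m →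
      Group.nilpotencyClass X ≤ m - 1 := by
  induction m using Nat.strong_induction_on with
  | _ m ih =>
  intro X _ _ hX hm
  have hpr : p.Prime := Fact.out
  have hPG : IsPGroup p X := IsPGroup.of_card hX
  have hnil : Group.IsNilpotent X := hPG.isNilpotent
  obtain ⟨k, hk0, hk⟩ := IsPGroup.card_center_eq_prime_pow hX (by omega)
  obtain ⟨hkm, hq⟩ := card_quotient_of_card hpr (Subgroup.center X) hX hk
  by_cases h2 : 2 ≤ m - k
  · have := ih (m - k) (by omega) (X ⧸ Subgroup.center X) hq h2
    rw [Group.nilpotencyClass_quotient_center] at this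
    omega
  · have hc : IsMulCommutative X := comm_of_card_center_quotient_le hq (by omega)
    have := Group.IsNilpotent.nilpotencyClass_le_one_iff.mpr hc
    omega

/-- The centre of a `p`-group of maximal class has order `p`. -/
theorem card_center_of_maxClass {p : ℕ} [Fact p.Prime] {X : Type u} [Group X] [Finite X] {n : ℕ}
    (hn : 3 ≤ n) (hX : Nat.card X = p ^ n) (hc : Group.nilpotencyClass X = n - 1) :
    Nat.card (Subgroup.center X) = p := by
  have hpr : p.Prime := Fact.out
  have hPG : IsPGroup p X := IsPGroup.of_card hX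
  have hnil : Group.IsNilpotent X := hPG.isNilpotent
  obtain ⟨k, hk0, hk⟩ := IsPGroup.card_center_eq_prime_pow hX (by omega)
  obtain ⟨hkm, hq⟩ := card_quotient_of_card hpr (Subgroup.center X) hX hk
  by_cases h2 : 2 ≤ n - k
  · have := nilpotencyClass_le_of_card (n - k) (X ⧸ Subgroup.center X) hq h2
    rw [Group.nilpotencyClass_quotient_center] at this
    have hk1 : k = 1 := by omega
    rw [hk, hk1, pow_one]
  · have hcm : IsMulCommutative X := comm_of_card_center_quotient_le hq (by omega)
    have := Group.IsNilpotent.nilpotencyClass_le_one_iff.mpr hcm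
    omega

theorem card_quotient_center_of_maxClass {p : ℕ} [Fact p.Prime] {X : Type u} [Group X] [Finite X]
    {n : ℕ} (hn : 3 ≤ n) (hX : Nat.card X = p ^ n) (hc : Group.nilpotencyClass X = n - 1) :
    Nat.card (X ⧸ Subgroup.center X) = p ^ (n - 1) := by
  have h := card_center_of_maxClass hn hX hc
  exact (card_quotient_of_card Fact.out (Subgroup.center X) hX (by rw [h, pow_one])).2

end Cfsg.Agent.Lib.Helper3
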