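import Mathlib
import Cfsg.Agent.Lib.Helper3.PGroup

set_option autoImplicit false

namespace Cfsg.Agent.Lib.Helper3

universe u

/-- cardinality of the preimage of a subgroup of a quotient -/
theorem card_comap_mk' {G : Type*} [Group G] [Finite G] (N : Subgroup G) [N.Normal]
    (H : Subgroup (G ⧸ N)) :
    Nat.card (H.comap (QuotientGroup.mk' N)) = Nat.card H * Nat.card N := by
  have hidx : (H.comap (QuotientGroup.mk' N)).index = H.index :=
    Subgroup.index_comap_of_surjective H (QuotientGroup.mk'_surjective N)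
  have h1 := (H.comap (QuotientGroup.mk' N)).card_mul_index
  have h2 := H.card_mul_index
  have h3 := Subgroup.card_eq_card_quotient_mul_card_subgroup N
  have hpos : 0 < H.index := Nat.pos_of_ne_zero Subgroup.index_ne_zero_of_finite
  apply Nat.eq_of_mul_eq_mul_right hpos
  rw [← hidx, h1, h3, ← h2, hidx]; ring

/-- a subgroup contained in the centre is normal -/
theorem normal_of_le_center' {G : Type*} [Group G] {N : Subgroup G} (h : N ≤ Subgroup.center G) :
    N.Normal := by
  constructor
  intro x hx g
  have := Subgroup.mem_center_iff.mp (h hx) g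
  rw [this, mul_assoc, mul_inv_cancel, mul_one]
  exact hx

/-- a nontrivial normal subgroup of a `p`-group contains a central subgroup of order `p` -/
theorem exists_central_order_p {R : Type*} [Group R] [Finite R] {p : ℕ} [Fact p.Prime]
    (hR : IsPGroup p R) (W : Subgroup R) [W.Normal] (hW : W ≠ ⊥) :
    ∃ z : R, z ∈ W ∧ z ∈ Subgroup.center R ∧ orderOf z = p := by
  have hne2 := normal_inf_center_ne_bot' hR W hW
  have hdvd : p ∣ Nat.card (W ⊓ Subgroup.center R : Subgroup R) := by
    refine (hR.to_subgroup _).card_eq_or_dvd.resolve_left ?_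
    intro h
    exact hne2 (Subgroup.card_eq_one.mp h)
  obtain ⟨z, hz⟩ := exists_prime_orderOf_dvd_card' p hdvd
  exact ⟨z, z.2.1, z.2.2, by rw [Subgroup.orderOf_coe, hz]⟩

/-- In a finite `p`-group every normal subgroup `W` contains, for each `p ^ k` dividing `|W|`,
a subgroup of order `p ^ k` that is normal in the whole group. -/
theorem exists_normal_le_card_eq {p : ℕ} [Fact p.Prime] (k : ℕ) :
    ∀ (R : Type u) [Group R] [Finite R], IsPGroup p R → ∀ W : Subgroup R, W.Normal →
      p ^ k ∣ Nat.card W → ∃ A : Subgroup R, A ≤ W ∧ A.Normal ∧ Nat.card A = p ^ k := by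
  induction k with
  | zero =>
    intro R _ _ _ W _ _
    exact ⟨⊥, bot_le, inferInstance, by simp⟩
  | succ k ih =>
    intro R _ _ hR W hWn hdvd
    have hpr : p.Prime := Fact.out
    have hW : W ≠ ⊥ := by
      intro h
      rw [h, Subgroup.card_bot] at hdvd
      have := Nat.le_of_dvd (by norm_num) hdvd
      have h2 : 1 < p ^ (k + 1) := Nat.one_lt_pow (by omega) hpr.one_lt
      omega
    obtain ⟨z, hzW, hzc, hzo⟩ := exists_central_order_p hR W hW
    have hZ1c : Subgroup.zpowers z ≤ Subgroup.center R := by rw [Subgroup.zpowers_le]; exact hzc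
    have hZ1W : Subgroup.zpowers z ≤ W := by rw [Subgroup.zpowers_le]; exact hzW
    have hZ1n : (Subgroup.zpowers z).Normal := normal_of_le_center' hZ1c
    have hZ1card : Nat.card (Subgroup.zpowers z) = p := by rw [Nat.card_zpowers, hzo]
    have hcomap : (W.map (QuotientGroup.mk' (Subgroup.zpowers z))).comap
        (QuotientGroup.mk' (Subgroup.zpowers z)) = W := by
      rw [Subgroup.comap_map_eq, QuotientGroup.ker_mk']
      exact sup_eq_left.mpr hZ1W
    have hcardW : Nat.card W = Nat.card (W.map (QuotientGroup.mk' (Subgroup.zpowers z))) * p := by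
      have := card_comap_mk' (Subgroup.zpowers z) (W.map (QuotientGroup.mk' (Subgroup.zpowers z)))
      rw [hcomap, hZ1card] at this
      exact this
    have hdvd' : p ^ k ∣ Nat.card (W.map (QuotientGroup.mk' (Subgroup.zpowers z))) := by
      rw [hcardW, pow_succ] at hdvd
      exact Nat.dvd_of_mul_dvd_mul_right hpr.pos hdvd
    obtain ⟨Ab, hAb1, hAb2, hAb3⟩ := ih (R ⧸ Subgroup.zpowers z) (hR.to_quotient _)
      (W.map (QuotientGroup.mk' (Subgroup.zpowers z)))
      (hWn.map _ (QuotientGroup.mk'_surjective _)) hdvd'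
    refine ⟨Ab.comap (QuotientGroup.mk' (Subgroup.zpowers z)), ?_, hAb2.comap _, ?_⟩
    · rw [← hcomap]
      exact Subgroup.comap_mono hAb1
    · rw [card_comap_mk', hAb3, hZ1card, pow_succ]

end Cfsg.Agent.Lib.Helper3
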