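import Mathlib
import Cfsg.Agent.Lib.Helper3.ClassTwo
import Cfsg.Agent.Lib.Helper3.PGroup
import Cfsg.Agent.Lib.Helper3.NormalSeries

set_option autoImplicit false

universe u

namespace Cfsg.Agent.Lib.Helper3

open scoped commutatorElement

/-- In a `p`-group, between normal subgroups `A < F` there is an element of `F \ A` which is
central modulo `A` and whose `p`-th power lies in `A`. -/
theorem central_step {G : Type*} [Group G] [Finite G] {p : ℕ} [Fact p.Prime] (hG : IsPGroup p G)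
    (A F : Subgroup G) [A.Normal] [F.Normal] (hne : ¬ F ≤ A) :
    ∃ e ∈ F, e ∉ A ∧ e ^ p ∈ A ∧ ∀ g : G, ⁅e, g⁆ ∈ A := by
  have hWn : (F.map (QuotientGroup.mk' A)).Normal :=
    Subgroup.Normal.map inferInstance _ (QuotientGroup.mk'_surjective A)
  have hW : F.map (QuotientGroup.mk' A) ≠ ⊥ := by
    intro h
    apply hne
    intro y hy
    have : QuotientGroup.mk' A y ∈ F.map (QuotientGroup.mk' A) := Subgroup.mem_map_of_mem _ hy
    rw [h, Subgroup.mem_bot] at this
    exact (QuotientGroup.eq_one_iff y).mp this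
  obtain ⟨z, hzW, hzc, hzo⟩ := exists_central_order_p (hG.to_quotient A) _ hW
  obtain ⟨e, heF, rfl⟩ := hzW
  refine ⟨e, heF, ?_, ?_, ?_⟩
  · intro heA
    have h1 : QuotientGroup.mk' A e = 1 := (QuotientGroup.eq_one_iff e).mpr heA
    rw [h1, orderOf_one] at hzo
    exact (Fact.out : p.Prime).one_lt.ne hzo
  · apply (QuotientGroup.eq_one_iff _).mp
    have := pow_orderOf_eq_one (QuotientGroup.mk' A e)
    rw [hzo] at this
    exact this
  · intro g
    apply (QuotientGroup.eq_one_iff _).mp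
    have h1 : ((⁅e, g⁆ : G) : G ⧸ A) = ⁅QuotientGroup.mk' A e, QuotientGroup.mk' A g⁆ :=
      map_commutatorElement (QuotientGroup.mk' A) e g
    rw [h1, commutatorElement_eq_one_iff_mul_comm]
    exact (Subgroup.mem_center_iff.mp hzc _).symm

/-- The auxiliary subgroup in the proof of Alperin's lemma. -/
def alperinF {G : Type*} [Group G] {p : ℕ} (hp : p.Prime) (n : ℕ) (hn : p ^ n ≠ 2)
    (A M : Subgroup G) [A.Normal] : Subgroup G where
  carrier := {y | y ∈ M ∧ y ∈ Subgroup.centralizer (A : Set G) ∧ (∀ m ∈ M, ⁅y, m⁆ ∈ A) ∧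
    y ^ p ∈ A ∧ y ^ p ^ n = 1}
  one_mem' := by
    refine ⟨M.one_mem, Subgroup.one_mem _, ?_, ?_, one_pow _⟩
    · intro m _
      rw [commutatorElement_one_left]
      exact A.one_mem
    · rw [one_pow]; exact A.one_mem
  inv_mem' := by
    rintro y ⟨h1, h2, h3, h4, h5⟩
    refine ⟨M.inv_mem h1, Subgroup.inv_mem _ h2, ?_, ?_, ?_⟩
    · intro m hm
      have : ⁅y⁻¹, m⁆ = y⁻¹ * ⁅y, m⁆⁻¹ * y⁻¹⁻¹ := by
        rw [commutatorElement_def, commutatorElement_def]; group
      rw [this]
      exact (inferInstance : A.Normal).conj_mem _ (A.inv_mem (h3 m hm)) _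
    · rw [inv_pow]; exact A.inv_mem h4
    · rw [inv_pow, h5, inv_one]
  mul_mem' := by
    rintro y y' ⟨h1, h2, h3, h4, h5⟩ ⟨h1', h2', h3', h4', h5'⟩
    have hc : ⁅y'⁻¹, y⁻¹⁆ ∈ A := by
      have : ⁅y'⁻¹, y⁻¹⁆ = (y'⁻¹ * y⁻¹) * ⁅y', y⁆ * (y'⁻¹ * y⁻¹)⁻¹ := by
        rw [commutatorElement_def, commutatorElement_def]; group
      rw [this]
      exact (inferInstance : A.Normal).conj_mem _ (h3' y h1) _
    have hyx := mul_eq_mul_mul_commutator y y'
    have hcx : Commute ⁅y'⁻¹, y⁻¹⁆ y := (Subgroup.mem_centralizer_iff.mp h2 _ hc)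
    have hcy : Commute ⁅y'⁻¹, y⁻¹⁆ y' := (Subgroup.mem_centralizer_iff.mp h2' _ hc)
    have hcp : ⁅y'⁻¹, y⁻¹⁆ ^ p = 1 := by
      have h6 := pow_mul_comm_of_central hyx hcy p
      have h7 : y' ^ p * y = y * y' ^ p := Subgroup.mem_centralizer_iff.mp h2 _ h4'
      rw [h7] at h6
      exact (mul_eq_left.mp h6.symm)
    refine ⟨M.mul_mem h1 h1', Subgroup.mul_mem _ h2 h2', ?_, ?_, ?_⟩
    · intro m hm
      have : ⁅y * y', m⁆ = y * ⁅y', m⁆ * y⁻¹ * ⁅y, m⁆ := by
        simp only [commutatorElement_def]; group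
      rw [this]
      exact A.mul_mem ((inferInstance : A.Normal).conj_mem _ (h3' m hm) _) (h3 m hm)
    · rw [mul_pow_of_central hyx hcx hcy]
      exact A.mul_mem (A.mul_mem h4 h4') (A.pow_mem hc _)
    · rw [mul_pow_of_central hyx hcx hcy, h5, h5', one_mul, one_mul]
      obtain ⟨k, hk⟩ := hp.dvd_choose_pow (n := n) (k := 2) (by norm_num) (Ne.symm hn)
      rw [hk, pow_mul, hcp, one_pow]

theorem mem_alperinF {G : Type*} [Group G] {p : ℕ} (hp : p.Prime) (n : ℕ) (hn : p ^ n ≠ 2)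
    (A M : Subgroup G) [A.Normal] (y : G) :
    y ∈ alperinF hp n hn A M ↔ y ∈ M ∧ y ∈ Subgroup.centralizer (A : Set G) ∧
      (∀ m ∈ M, ⁅y, m⁆ ∈ A) ∧ y ^ p ∈ A ∧ y ^ p ^ n = 1 := Iff.rfl

theorem alperinF_normal {G : Type*} [Group G] {p : ℕ} (hp : p.Prime) (n : ℕ) (hn : p ^ n ≠ 2)
    (A M : Subgroup G) [A.Normal] [M.Normal] : (alperinF hp n hn A M).Normal := by
  constructor
  rintro y ⟨h1, h2, h3, h4, h5⟩ g
  refine ⟨(inferInstance : M.Normal).conj_mem _ h1 _,
    (inferInstance : (Subgroup.centralizer (A : Set G)).Normal).conj_mem _ h2 _, ?_, ?_, ?_⟩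
  · intro m hm
    have : ⁅g * y * g⁻¹, m⁆ = g * ⁅y, g⁻¹ * m * g⁻¹⁻¹⁆ * g⁻¹ := by
      simp only [commutatorElement_def]; group
    rw [this]
    exact (inferInstance : A.Normal).conj_mem _
      (h3 _ ((inferInstance : M.Normal).conj_mem _ hm _)) _
  · rw [conj_pow]
    exact (inferInstance : A.Normal).conj_mem _ h4 _
  · rw [conj_pow, h5, mul_one, mul_inv_cancel]

/-- Inductive heart of Alperin's lemma. -/
theorem alperin_aux {p : ℕ} [Fact p.Prime] (n : ℕ) (hn : p ^ n ≠ 2) (k : ℕ) :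
    ∀ (G : Type u) [Group G] [Finite G], Nat.card G ≤ k → IsPGroup p G →
    ∀ (A : Subgroup G), A.Normal → (∀ a ∈ A, ∀ b ∈ A, a * b = b * a) →
    (∀ a ∈ A, a ^ p ^ n = 1) →
    ∀ x : G, x ∈ Subgroup.centralizer (A : Set G) → x ∉ A → x ^ p ^ n = 1 → x ^ p ∈ A →
    ∃ e : G, e ∈ Subgroup.centralizer (A : Set G) ∧ e ∉ A ∧ e ^ p ^ n = 1 ∧ e ^ p ∈ A ∧
      ∀ g : G, ⁅e, g⁆ ∈ A := by
  induction k with
  | zero =>
    intro G _ _ hk
    exact absurd hk (by have := Nat.card_pos (α := G); omega)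
  | succ k ih =>
    intro G _ _ hk hG A hAn hAc hAe x hxc hxA hxn hxp
    by_cases htop : A ⊔ Subgroup.zpowers x = ⊤
    · refine ⟨x, hxc, hxA, hxn, hxp, ?_⟩
      intro g
      have hle : A ⊔ Subgroup.zpowers x ≤ Subgroup.centralizer {x} := by
        apply sup_le
        · intro a ha
          rw [Subgroup.mem_centralizer_singleton_iff]
          exact (Subgroup.mem_centralizer_iff.mp hxc a ha)
        · rw [Subgroup.zpowers_le, Subgroup.mem_centralizer_singleton_iff]
      have hg : g ∈ Subgroup.centralizer {x} := hle (htop ▸ Subgroup.mem_top g)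
      rw [Subgroup.mem_centralizer_singleton_iff] at hg
      rw [commutatorElement_eq_one_iff_mul_comm.mpr hg.symm]
      exact A.one_mem
    · obtain ⟨M, hM, hle⟩ := (eq_top_or_exists_le_coatom _).resolve_left htop
      have hMn : M.Normal := coatom_normal hG hM
      have hAM : A ≤ M := le_sup_left.trans hle
      have hxM : x ∈ M := hle (Subgroup.mem_sup_right (Subgroup.mem_zpowers x))
      have hcardM : Nat.card M ≤ k := by
        have h1 : Nat.card M < Nat.card G := by
          have h2 := M.card_mul_index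
          rw [coatom_index hG hM] at h2
          have h3 : 0 < Nat.card M := Nat.card_pos
          have h4 := (Fact.out : p.Prime).two_le
          nlinarith
        omega
      obtain ⟨e, he1, he2, he3, he4, he5⟩ := ih M hcardM (hG.to_subgroup M) (A.subgroupOf M)
        inferInstance
        (fun a ha b hb => Subtype.ext (hAc a ha b hb))
        (fun a ha => Subtype.ext (by simpa using hAe a ha))
        ⟨x, hxM⟩
        (by
          rw [Subgroup.mem_centralizer_iff]
          intro a ha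
          exact Subtype.ext (Subgroup.mem_centralizer_iff.mp hxc a ha))
        hxA
        (Subtype.ext (by simpa using hxn))
        (by simpa [Subgroup.mem_subgroupOf] using hxp)
      have hp : p.Prime := Fact.out
      have hFn := alperinF_normal hp n hn A M
      have heF : (e : G) ∈ alperinF hp n hn A M := by
        refine ⟨e.2, ?_, ?_, ?_, ?_⟩
        · rw [Subgroup.mem_centralizer_iff]
          intro a ha
          exact congrArg Subtype.val
            (Subgroup.mem_centralizer_iff.mp he1 (⟨a, hAM ha⟩ : M) ha)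
        · intro m hm
          exact he5 ⟨m, hm⟩
        · simpa [Subgroup.mem_subgroupOf] using he4
        · simpa using congrArg Subtype.val he3
      have hne : ¬ alperinF hp n hn A M ≤ A := fun h => he2 (h heF)
      obtain ⟨e', h1, h2, h3, h4⟩ := central_step hG A (alperinF hp n hn A M) hne
      exact ⟨e', h1.2.1, h2, h1.2.2.2.2, h3, h4⟩

/-- **Alperin's lemma**: if `A` is normal abelian of exponent dividing `p ^ n ≠ 2` in a `p`-group
and some `x ∈ C_G(A) \ A` has `x ^ p ^ n = 1`, then there is a strictly larger normal abelian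
subgroup of exponent dividing `p ^ n`. -/
theorem exists_larger_normal_abelian {G : Type u} [Group G] [Finite G] {p : ℕ} [Fact p.Prime]
    (hG : IsPGroup p G) (n : ℕ) (hn : p ^ n ≠ 2) (A : Subgroup G) [A.Normal]
    (hAc : ∀ a ∈ A, ∀ b ∈ A, a * b = b * a) (hAe : ∀ a ∈ A, a ^ p ^ n = 1)
    (x : G) (hx : x ∈ Subgroup.centralizer (A : Set G)) (hxn : x ^ p ^ n = 1) (hxA : x ∉ A) :
    ∃ B : Subgroup G, B.Normal ∧ (∀ a ∈ B, ∀ b ∈ B, a * b = b * a) ∧ (∀ b ∈ B, b ^ p ^ n = 1) ∧
      A ≤ B ∧ B ≠ A := by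
  classical
  -- improve `x`
  have hex : ∃ j, x ^ p ^ j ∈ A := ⟨n, by rw [hxn]; exact A.one_mem⟩
  have hj0 : Nat.find hex ≠ 0 := by
    intro h0
    have := Nat.find_spec hex
    rw [h0, pow_zero, pow_one] at this
    exact hxA this
  obtain ⟨j, hj⟩ := Nat.exists_eq_succ_of_ne_zero hj0
  have hx1A : x ^ p ^ j ∉ A := Nat.find_min hex (by omega)
  have hx1p : (x ^ p ^ j) ^ p ∈ A := by
    have := Nat.find_spec hex
    rw [hj, Nat.succ_eq_add_one, pow_succ, pow_mul] at this
    exact this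
  obtain ⟨e, he1, he2, he3, he4, he5⟩ := alperin_aux n hn (Nat.card G) G le_rfl hG A inferInstance
    hAc hAe (x ^ p ^ j) (Subgroup.pow_mem _ hx _) hx1A
    (by rw [← pow_mul, mul_comm, pow_mul, hxn, one_pow]) hx1p
  have hzc : Subgroup.zpowers (QuotientGroup.mk' A e) ≤ Subgroup.center (G ⧸ A) := by
    rw [Subgroup.zpowers_le, Subgroup.mem_center_iff]
    intro q
    obtain ⟨g, rfl⟩ := QuotientGroup.mk'_surjective A q
    have h1 : QuotientGroup.mk' A ⁅e, g⁆ = 1 := (QuotientGroup.eq_one_iff _).mpr (he5 g)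
    rw [map_commutatorElement, commutatorElement_eq_one_iff_mul_comm] at h1
    exact h1.symm
  have hzn : (Subgroup.zpowers (QuotientGroup.mk' A e)).Normal := normal_of_le_center' hzc
  have hform : ∀ y ∈ (Subgroup.zpowers (QuotientGroup.mk' A e)).comap (QuotientGroup.mk' A),
      ∃ (i : ℤ), ∃ a ∈ A, y = e ^ i * a := by
    intro y hy
    obtain ⟨i, hi⟩ := Subgroup.mem_zpowers_iff.mp (Subgroup.mem_comap.mp hy)
    refine ⟨i, (e ^ i)⁻¹ * y, ?_, by group⟩
    apply (QuotientGroup.eq_one_iff _).mp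
    have : QuotientGroup.mk' A ((e ^ i)⁻¹ * y) = 1 := by
      rw [map_mul, map_inv, map_zpow, hi, inv_mul_cancel]
    exact this
  have hea : ∀ a ∈ A, Commute e a := fun a ha => (Subgroup.mem_centralizer_iff.mp he1 a ha).symm
  refine ⟨(Subgroup.zpowers (QuotientGroup.mk' A e)).comap (QuotientGroup.mk' A),
    hzn.comap _, ?_, ?_, ?_, ?_⟩
  · intro y hy y' hy'
    obtain ⟨i, a, ha, rfl⟩ := hform y hy
    obtain ⟨i', a', ha', rfl⟩ := hform y' hy'
    have h1 : Commute (e ^ i) a' := (hea a' ha').zpow_left i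
    have h2 : Commute (e ^ i') a := (hea a ha).zpow_left i'
    have h3 : Commute (e ^ i) (e ^ i') := (Commute.refl e).zpow_zpow i i'
    have h4 : Commute a a' := hAc a ha a' ha'
    exact ((h3.mul_right h1).mul_left (h2.symm.mul_right h4))
  · intro y hy
    obtain ⟨i, a, ha, rfl⟩ := hform y hy
    rw [((hea a ha).zpow_left i).mul_pow, hAe a ha, mul_one, ← zpow_natCast, ← zpow_mul, mul_comm,
      zpow_mul, zpow_natCast, he3, one_zpow]
  · intro a ha
    have h1 : QuotientGroup.mk' A a = 1 := (QuotientGroup.eq_one_iff a).mpr ha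
    rw [Subgroup.mem_comap, h1]
    exact Subgroup.one_mem _
  · intro h
    apply he2
    rw [← h, Subgroup.mem_comap]
    exact Subgroup.mem_zpowers _

end Cfsg.Agent.Lib.Helper3
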