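import Mathlib
import Cfsg.Agent.Lib.Helper3.OmegaCentralizer
import Cfsg.Agent.Lib.Helper3.ClassThree
import Cfsg.Agent.Lib.Helper3.MaxClass

set_option autoImplicit false

universe u

namespace Cfsg.Agent.Lib.Helper3

open scoped commutatorElement

/-- A normal subgroup of order at most `p ^ 2` of a `p`-group has centralizer of index at most
`p`. -/
theorem card_le_mul_card_centralizer {P : Type*} [Group P] [Finite P] {p : ℕ} [Fact p.Prime]
    (hP : IsPGroup p P) (A : Subgroup P) [A.Normal] (hA : Nat.card A ≤ p ^ 2) :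
    Nat.card P ≤ p * Nat.card (Subgroup.centralizer (A : Set P)) := by
  have hpp : p.Prime := Fact.out
  have hdone : Subgroup.centralizer (A : Set P) = ⊤ →
      Nat.card P ≤ p * Nat.card (Subgroup.centralizer (A : Set P)) := by
    intro h
    rw [h, Subgroup.card_top]
    exact Nat.le_mul_of_pos_left _ hpp.pos
  obtain ⟨a, ha⟩ := (hP.to_subgroup A).exists_card_eq
  have ha2 : a ≤ 2 := by
    rw [ha] at hA
    exact (Nat.pow_le_pow_iff_right hpp.one_lt).mp hA
  by_cases hA0 : A = ⊥
  · apply hdone
    rw [hA0, eq_top_iff]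
    intro x _
    rw [Subgroup.mem_centralizer_iff]
    intro y hy
    have : y = 1 := hy
    rw [this, one_mul, mul_one]
  obtain ⟨z, hzA, hzc, hzo⟩ := exists_central_order_p hP A hA0
  have hZcard : Nat.card (Subgroup.zpowers z) = p := by rw [Nat.card_zpowers, hzo]
  have hZA : Subgroup.zpowers z ≤ A := Subgroup.zpowers_le.mpr hzA
  have hZc : Subgroup.zpowers z ≤ Subgroup.center P := Subgroup.zpowers_le.mpr hzc
  have hZn : (Subgroup.zpowers z).Normal := normal_of_le_center' hZc
  by_cases hAZ : A ≤ Subgroup.zpowers z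
  · apply hdone
    rw [eq_top_iff]
    intro x _
    rw [Subgroup.mem_centralizer_iff]
    intro y hy
    exact (Subgroup.mem_center_iff.mp (hZc (hAZ hy)) x).symm
  obtain ⟨e, heA, heZ, _, he5⟩ := central_step hP (Subgroup.zpowers z) A hAZ
  have hgen : A ≤ Subgroup.zpowers z ⊔ Subgroup.zpowers e := by
    have hle : Subgroup.zpowers z ⊔ Subgroup.zpowers e ≤ A :=
      sup_le hZA (Subgroup.zpowers_le.mpr heA)
    obtain ⟨b, hb⟩ := (hP.to_subgroup (Subgroup.zpowers z ⊔ Subgroup.zpowers e)).exists_card_eq
    have hb1 : 1 < b := by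
      by_contra hb1
      push Not at hb1
      have h1 : Nat.card (Subgroup.zpowers z ⊔ Subgroup.zpowers e : Subgroup P) ≤
          Nat.card (Subgroup.zpowers z) := by
        rw [hb, hZcard]
        calc p ^ b ≤ p ^ 1 := Nat.pow_le_pow_right hpp.pos hb1
          _ = p := pow_one p
      have h2 := Subgroup.eq_of_le_of_card_ge (le_sup_left :
        Subgroup.zpowers z ≤ Subgroup.zpowers z ⊔ Subgroup.zpowers e) h1
      apply heZ
      rw [h2]
      exact Subgroup.mem_sup_right (Subgroup.mem_zpowers e)
    have h3 : Nat.card A ≤ Nat.card (Subgroup.zpowers z ⊔ Subgroup.zpowers e : Subgroup P) := by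
      rw [ha, hb]
      exact Nat.pow_le_pow_right hpp.pos (by omega)
    exact (Subgroup.eq_of_le_of_card_ge hle h3).ge
  let f : P →* Subgroup.zpowers z := MonoidHom.mk' (fun g => ⟨⁅e, g⁆, he5 g⟩) (by
    intro g g'
    apply Subtype.ext
    show ⁅e, g * g'⁆ = ⁅e, g⁆ * ⁅e, g'⁆
    have hc := Subgroup.mem_center_iff.mp (hZc (he5 g')) g
    have h1 : ⁅e, g * g'⁆ = ⁅e, g⁆ * (g * ⁅e, g'⁆) * g⁻¹ := by
      simp only [commutatorElement_def]; group
    rw [h1, hc]
    group)
  have hker : f.ker ≤ Subgroup.centralizer (A : Set P) := by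
    intro g hg
    have h1 : ⁅e, g⁆ = 1 := congrArg Subtype.val (MonoidHom.mem_ker.mp hg)
    rw [commutatorElement_eq_one_iff_mul_comm] at h1
    have h2 : Subgroup.zpowers z ⊔ Subgroup.zpowers e ≤ Subgroup.centralizer {g} := by
      apply sup_le
      · rw [Subgroup.zpowers_le, Subgroup.mem_centralizer_singleton_iff]
        exact (Subgroup.mem_center_iff.mp hzc _).symm
      · rw [Subgroup.zpowers_le, Subgroup.mem_centralizer_singleton_iff]
        exact h1
    rw [Subgroup.mem_centralizer_iff]
    intro y hy
    have := h2 (hgen hy)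
    rw [Subgroup.mem_centralizer_singleton_iff] at this
    exact this
  have hidx : f.ker.index ≤ p := by
    rw [Subgroup.index_ker, ← hZcard]
    exact Subgroup.card_le_card_group _
  calc Nat.card P = f.ker.index * Nat.card f.ker := by rw [mul_comm, Subgroup.card_mul_index]
    _ ≤ p * Nat.card (Subgroup.centralizer (A : Set P)) :=
      Nat.mul_le_mul hidx (Subgroup.card_le_of_le hker)

/-- a `p`-group (`p` odd) of exponent `p` and rank at most two has order at most `p ^ 3`. -/
theorem card_le_of_exponent_rank_two {P : Type u} [Group P] [Finite P] {p : ℕ} [Fact p.Prime]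
    (hp : p ≠ 2) (hP : IsPGroup p P) (hexp : ∀ g : P, g ^ p = 1)
    (hrk : ∀ E : Subgroup P, (∀ a ∈ E, ∀ b ∈ E, a * b = b * a) → Nat.card E ≤ p ^ 2) :
    Nat.card P ≤ p ^ 3 := by
  classical
  let S : Set (Subgroup P) := {A | A.Normal ∧ (∀ a ∈ A, ∀ b ∈ A, a * b = b * a)}
  have hSne : S.Nonempty := by
    refine ⟨⊥, inferInstance, ?_⟩
    intro a ha b hb
    rw [Subgroup.mem_bot] at ha hb
    rw [ha, hb]
  obtain ⟨A, ⟨hAn, hAc⟩, hAmax⟩ := (Set.toFinite S).exists_maximal hSne
  have hp1 : p ^ 1 ≠ 2 := by rwa [pow_one]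
  have hAlp : Subgroup.centralizer (A : Set P) ≤ A := by
    intro x hx
    by_contra hxA
    obtain ⟨B, hBn, hBc, hBe, hAB, hne⟩ :=
      exists_larger_normal_abelian hP 1 hp1 A hAc
        (fun a _ => by simpa using hexp a) x hx (by simpa using hexp x) hxA
    exact hne (le_antisymm (hAmax ⟨hBn, hBc⟩ hAB) hAB)
  have h1 := card_le_mul_card_centralizer hP A (hrk A hAc)
  calc Nat.card P ≤ p * Nat.card (Subgroup.centralizer (A : Set P)) := h1
    _ ≤ p * Nat.card A := Nat.mul_le_mul_left _ (Subgroup.card_le_of_le hAlp)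
    _ ≤ p * p ^ 2 := Nat.mul_le_mul_left _ (hrk A hAc)
    _ = p ^ 3 := by ring

/-- groups of order at most `p ^ 4` have class at most three -/
theorem class_three_of_card_le {R : Type u} [Group R] [Finite R] {p : ℕ} [Fact p.Prime]
    (hR : IsPGroup p R) (hcard : Nat.card R ≤ p ^ 4) :
    ⁅⁅commutator R, (⊤ : Subgroup R)⁆, (⊤ : Subgroup R)⁆ = ⊥ := by
  have hpp : p.Prime := Fact.out
  have hnil : Group.IsNilpotent R := hR.isNilpotent
  obtain ⟨m, hm⟩ := hR.exists_card_eq
  have hm4 : m ≤ 4 := by
    rw [hm] at hcard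
    exact (Nat.pow_le_pow_iff_right hpp.one_lt).mp hcard
  have hcl : Group.nilpotencyClass R ≤ 3 := by
    by_cases hm2 : 2 ≤ m
    · have := nilpotencyClass_le_of_card (p := p) m R hm hm2
      omega
    · push Not at hm2
      obtain ⟨j, hj⟩ := (hR.to_quotient (Subgroup.center R)).exists_card_eq
      have hjm : j ≤ m := by
        have h1 : Nat.card (R ⧸ Subgroup.center R) ∣ Nat.card R :=
          Subgroup.card_quotient_dvd_card _
        rw [hj, hm] at h1
        exact (Nat.pow_dvd_pow_iff_le_right hpp.one_lt).mp h1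
      have hc := comm_of_card_center_quotient_le hj (by omega)
      have h3 : Subgroup.lowerCentralSeries (⊤ : Subgroup R) 1 = ⊥ := by
        rw [Subgroup.top_lowerCentralSeries_one, commutator_eq_bot_iff_center_eq_top,
          eq_top_iff]
        intro x _
        rw [Subgroup.mem_center_iff]
        intro g
        exact hc.is_comm.comm g x
      have := Subgroup.lowerCentralSeries_eq_bot_iff_nilpotencyClass_le.mp h3
      omega
  have h3 := Subgroup.lowerCentralSeries_eq_bot_iff_nilpotencyClass_le.mpr hcl
  rw [Subgroup.lowerCentralSeries_succ, Subgroup.lowerCentralSeries_succ,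
    Subgroup.top_lowerCentralSeries_one] at h3
  exact h3

/-- `p > 3`, rank at most two: products of elements of order `p` have order dividing `p`. -/
theorem rank_two_mul_aux {p : ℕ} [Fact p.Prime] (hp : 3 < p) (n : ℕ) :
    ∀ (R : Type u) [Group R] [Finite R], Nat.card R ≤ n → IsPGroup p R →
    (∀ E : Subgroup R, (∀ a ∈ E, ∀ b ∈ E, a * b = b * a) → (∀ a ∈ E, a ^ p = 1) →
      Nat.card E ≤ p ^ 2) →
    ∀ x y : R, x ^ p = 1 → y ^ p = 1 → (x * y) ^ p = 1 := by
  induction n with
  | zero =>
    intro R _ _ hk
    exact absurd hk (by have := Nat.card_pos (α := R); omega)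
  | succ n ih =>
    intro R _ _ hn hR hrk x y hx hy
    have hpp : p.Prime := Fact.out
    -- the induction hypothesis for proper subgroups
    have hsub : ∀ K : Subgroup R, K ≠ ⊤ → ∀ u ∈ K, ∀ v ∈ K, u ^ p = 1 → v ^ p = 1 →
        (u * v) ^ p = 1 := by
      intro K hK u hu v hv hup hvp
      have hcardK : Nat.card K ≤ n := by
        have h1 : Nat.card K < Nat.card R := by
          by_contra hge
          push Not at hge
          apply hK
          have := Subgroup.eq_of_le_of_card_ge (le_top : K ≤ ⊤) (by rwa [Subgroup.card_top])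
          exact this
        omega
      have := ih K hcardK (hR.to_subgroup K)
        (by
          intro E hEc hEe
          rw [← Subgroup.card_map_of_injective K.subtype_injective]
          apply hrk
          · rintro _ ⟨a, ha, rfl⟩ _ ⟨b, hb, rfl⟩
            exact congrArg Subtype.val (hEc a ha b hb)
          · rintro _ ⟨a, ha, rfl⟩
            simpa using congrArg Subtype.val (hEe a ha))
        ⟨u, hu⟩ ⟨v, hv⟩ (Subtype.ext (by simpa using hup)) (Subtype.ext (by simpa using hvp))
      simpa using congrArg Subtype.val this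
    by_cases hH : Subgroup.closure {x, y} = ⊤
    swap
    · exact hsub _ hH x (Subgroup.subset_closure (by simp)) y (Subgroup.subset_closure (by simp))
        hx hy
    by_cases hxt : Subgroup.zpowers x = ⊤
    · have hyx : y ∈ Subgroup.zpowers x := hxt ▸ Subgroup.mem_top y
      obtain ⟨i, rfl⟩ := Subgroup.mem_zpowers_iff.mp hyx
      have : Commute x (x ^ i) := (Commute.refl x).zpow_right i
      rw [this.mul_pow, hx, hy, one_mul]
    obtain ⟨M, hM, hle⟩ := (eq_top_or_exists_le_coatom _).resolve_left hxt
    have hMn : M.Normal := coatom_normal hR hM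
    have hxM : x ∈ M := hle (Subgroup.mem_zpowers x)
    set S : Subgroup R := Subgroup.closure {g | g ∈ M ∧ g ^ p = 1} with hS
    have hSM : S ≤ M := by
      rw [hS, Subgroup.closure_le]
      intro g hg
      exact hg.1
    have hSe : ∀ s ∈ S, s ^ p = 1 := by
      intro s hs
      induction hs using Subgroup.closure_induction with
      | mem g hg => exact hg.2
      | one => exact one_pow _
      | mul u v hu hv hup hvp => exact hsub M hM.1 u (hSM hu) v (hSM hv) hup hvp
      | inv u _ hup => rw [inv_pow, hup, inv_one]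
    have hSn : S.Normal := by
      constructor
      intro s hs g
      have hle : S ≤ S.comap (MulAut.conj g).toMonoidHom := by
        conv_lhs => rw [hS]
        rw [Subgroup.closure_le]
        intro t ht
        apply Subgroup.subset_closure
        refine ⟨hMn.conj_mem _ ht.1 _, ?_⟩
        show (g * t * g⁻¹) ^ p = 1
        rw [conj_pow, ht.2, mul_one, mul_inv_cancel]
      exact hle hs
    have hxS : x ∈ S := Subgroup.subset_closure ⟨hxM, hx⟩
    have hScard : Nat.card S ≤ p ^ 3 := by
      apply card_le_of_exponent_rank_two (by omega) (hR.to_subgroup S)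
      · intro g
        exact Subtype.ext (by simpa using hSe g g.2)
      · intro E hEc
        rw [← Subgroup.card_map_of_injective S.subtype_injective]
        apply hrk
        · rintro _ ⟨a, ha, rfl⟩ _ ⟨b, hb, rfl⟩
          exact congrArg Subtype.val (hEc a ha b hb)
        · rintro _ ⟨a, ha, rfl⟩
          exact hSe a a.2
    have htop : Subgroup.zpowers y ⊔ S = ⊤ := by
      rw [eq_top_iff, ← hH, Subgroup.closure_le]
      rintro g (rfl | rfl)
      · exact Subgroup.mem_sup_right hxS
      · exact Subgroup.mem_sup_left (Subgroup.mem_zpowers _)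
    have hidx : S.index ≤ p := by
      have h1 := Subgroup.relIndex_sup_right (Subgroup.zpowers y) S
      rw [htop, Subgroup.relIndex_top_right] at h1
      rw [h1]
      have h2 : S.relIndex (Subgroup.zpowers y) ∣ Nat.card (Subgroup.zpowers y) :=
        Subgroup.relIndex_dvd_card _ _
      have h3 : Nat.card (Subgroup.zpowers y) ∣ p := by
        rw [Nat.card_zpowers]
        exact orderOf_dvd_of_pow_eq_one hy
      exact Nat.le_of_dvd hpp.pos (h2.trans h3)
    have hcard : Nat.card R ≤ p ^ 4 := by
      rw [← S.card_mul_index]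
      calc Nat.card S * S.index ≤ p ^ 3 * p := Nat.mul_le_mul hScard hidx
        _ = p ^ 4 := by ring
    exact mul_pow_eq_one_class_three hpp hp (class_three_of_card_le hR hcard) x y hx hy

end Cfsg.Agent.Lib.Helper3
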