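import Mathlib
import Cfsg.Prelude.Def_CaseTheorems
import Cfsg.Agent.Lib.Helper3.OddGL2
import Cfsg.Agent.Lib.Helper3.Coprime
import Cfsg.Agent.Lib.Helper3.RankTwo
import Cfsg.Agent.Lib.Helper90.SmallExp

set_option autoImplicit false

namespace Cfsg.Agent.Lib.Helper3

/-- Restriction of automorphisms to a characteristic subgroup. -/
def resChar {R : Type*} [Group R] (D : Subgroup R) [hD : D.Characteristic] :
    MulAut R →* MulAut D where
  toFun a := restrictAut a D (fun _ hx => char_aut_mem hD a hx) (fun _ hx => char_aut_mem hD a.symm hx)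
  map_one' := by ext; rfl
  map_mul' := by intros; ext; rfl

theorem resChar_apply {R : Type*} [Group R] (D : Subgroup R) [D.Characteristic] (a : MulAut R)
    (x : D) : ((resChar D a x : D) : R) = a x := rfl

/-- Automorphisms act on the central quotient. -/
noncomputable def autQuotCenter (K : Type*) [Group K] :
    MulAut K →* MulAut (K ⧸ Subgroup.center K) where
  toFun φ := QuotientGroup.congr _ _ φ (Subgroup.characteristic_iff_map_eq.mp inferInstance φ)
  map_one' := by
    ext x
    induction x using QuotientGroup.induction_on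
    rfl
  map_mul' φ ψ := by
    ext x
    induction x using QuotientGroup.induction_on
    rfl

theorem autQuotCenter_mk {K : Type*} [Group K] (φ : MulAut K) (y : K) :
    autQuotCenter K φ (y : K ⧸ Subgroup.center K) = ((φ y : K) : K ⧸ Subgroup.center K) := rfl

/-- **Lemma W.** -/
theorem commutator_pow_sq_act_trivial {p : ℕ} [Fact p.Prime] (hp : p ≠ 2) {H D : Type*} [Group H]
    [Finite H] [Group D] [Finite D] (hodd : Odd (Nat.card H)) [Group.IsSolvable H]
    (hexp : ∀ x : D, x ^ p = 1) (hZ : Nat.card (Subgroup.center D) ≤ p ^ 2)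
    (hQ : Nat.card (D ⧸ Subgroup.center D) ≤ p ^ 2) (ρ : H →* MulAut D) :
    ∀ h ∈ commutator H, ((ρ h) ^ p) ^ p = 1 := by
  intro h hh
  have h1 := commutator_pow_act_trivial hp hodd hZ (fun x => Subtype.ext (hexp x))
    ((resChar (Subgroup.center D)).comp ρ) h hh
  have h2 := commutator_pow_act_trivial hp hodd hQ (fun x => by
    induction x using QuotientGroup.induction_on with
    | H y => rw [← QuotientGroup.mk_pow, hexp]; rfl) ((autQuotCenter D).comp ρ) h hh
  rw [MonoidHom.comp_apply, ← map_pow] at h1 h2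
  set γ := (ρ h) ^ p with hγ
  have hfix : ∀ z ∈ Subgroup.center D, γ z = z := by
    intro z hz
    have := congrArg (fun a : MulAut (Subgroup.center D) => ((a ⟨z, hz⟩ : Subgroup.center D) : D)) h1
    exact this
  have hq : ∀ x : D, x⁻¹ * γ x ∈ Subgroup.center D := by
    intro x
    have := congrArg (fun a : MulAut (D ⧸ Subgroup.center D) => a (x : D ⧸ Subgroup.center D)) h2
    simp only [autQuotCenter_mk, MulAut.one_apply] at this
    exact QuotientGroup.eq.mp this.symm
  ext x
  rw [aut_pow_apply_of_fixed γ x (hfix _ (hq x)), hexp, mul_one, MulAut.one_apply]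

/-- **B-G 4.17, abstract form.** A solvable group of odd order acting on a `p`-group of rank at most
`2` (`p` odd): the `p'`-elements of the derived subgroup act trivially. -/
theorem commutator_act_trivial_of_rank_two {p : ℕ} [Fact p.Prime] (hp : p ≠ 2) {H R : Type*}
    [Group H] [Finite H] [Group R] [Finite R] (hR : IsPGroup p R) (hrk : Cfsg.PRankLE p 2 R)
    (hodd : Odd (Nat.card H)) [Group.IsSolvable H] (ψ : H →* MulAut R) :
    ∀ h ∈ commutator H, (orderOf (ψ h)).Coprime p → ψ h = 1 := by
  have hpp : p.Prime := Fact.out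
  obtain ⟨D, hDc, hDe, hDf⟩ := Cfsg.Agent.Lib.Helper90.exists_char_small hR
  have hDe' : ∀ x ∈ D, x ^ p = 1 := by
    intro x hx
    rcases hDe x hx with h | ⟨h, _⟩
    · exact h
    · exact absurd h hp
  have hexp : ∀ x : D, x ^ p = 1 := fun x => Subtype.ext (hDe' x x.2)
  have hrkD : ∀ E : Subgroup D, (∀ a ∈ E, ∀ b ∈ E, a * b = b * a) → Nat.card E ≤ p ^ 2 := by
    intro E hEc
    rw [← Subgroup.card_map_of_injective D.subtype_injective]
    apply hrk
    · refine ⟨⟨?_⟩⟩
      rintro ⟨_, a, ha, rfl⟩ ⟨_, b, hb, rfl⟩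
      exact Subtype.ext (congrArg (Subtype.val : D → R) (hEc a ha b hb))
    · rintro _ ⟨a, ha, rfl⟩
      exact hDe' a a.2
  have hDcard : Nat.card D ≤ p ^ 3 :=
    card_le_of_exponent_rank_two hp (hR.to_subgroup D) hexp hrkD
  have hZ : Nat.card (Subgroup.center D) ≤ p ^ 2 :=
    hrkD _ (fun a ha b _ => (Subgroup.mem_center_iff.mp ha b).symm)
  have hQ : Nat.card (D ⧸ Subgroup.center D) ≤ p ^ 2 := by
    have h1 := Subgroup.card_eq_card_quotient_mul_card_subgroup (Subgroup.center D)
    by_cases hnt : Nontrivial D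
    · have h2 := (hR.to_subgroup D).center_nontrivial
      have h3 : p ∣ Nat.card (Subgroup.center D) := by
        obtain ⟨k, hk⟩ := ((hR.to_subgroup D).to_subgroup (Subgroup.center D)).exists_card_eq
        rw [hk]
        apply dvd_pow_self
        rintro rfl
        rw [pow_zero] at hk
        have := (Nat.card_eq_one_iff_unique.mp hk).1
        exact not_subsingleton _ this
      have h4 : p ≤ Nat.card (Subgroup.center D) := Nat.le_of_dvd Nat.card_pos h3
      have h5 : Nat.card (D ⧸ Subgroup.center D) * p ≤ p ^ 2 * p := by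
        calc Nat.card (D ⧸ Subgroup.center D) * p
            ≤ Nat.card (D ⧸ Subgroup.center D) * Nat.card (Subgroup.center D) :=
              Nat.mul_le_mul_left _ h4
          _ = Nat.card D := h1.symm
          _ ≤ p ^ 3 := hDcard
          _ = p ^ 2 * p := by ring
      exact Nat.le_of_mul_le_mul_right h5 hpp.pos
    · rw [not_nontrivial_iff_subsingleton] at hnt
      have : Nat.card (D ⧸ Subgroup.center D) = 1 := Nat.card_eq_one_iff_unique.mpr
        ⟨inferInstance, inferInstance⟩
      rw [this]
      exact Nat.one_le_pow _ _ hpp.pos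
  intro h hh hcop
  have h1 := commutator_pow_sq_act_trivial hp hodd hexp hZ hQ ((resChar D).comp ψ) h hh
  rw [MonoidHom.comp_apply, ← map_pow, ← map_pow, ← pow_mul] at h1
  have h2 : (ψ h) ^ (p * p) = 1 := by
    apply hDf
    · exact Nat.Coprime.coprime_dvd_left (orderOf_pow_dvd _) hcop
    · intro x hx
      have := congrArg (fun a : MulAut D => ((a ⟨x, hx⟩ : D) : R)) h1
      exact this
  have h3 : orderOf (ψ h) ∣ p * p := orderOf_dvd_of_pow_eq_one h2
  have h4 : orderOf (ψ h) = 1 :=
    Nat.eq_one_of_dvd_coprimes (Nat.Coprime.mul_right hcop hcop) dvd_rfl h3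
  exact orderOf_eq_one_iff.mp h4

end Cfsg.Agent.Lib.Helper3
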