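import Cfsg.Agent.Lib.Helper3.BG117C
import Cfsg.Agent.Lib.Helper39.BG11Defs

/-!
Bender--Glauberman 11.7 in the interface of `Helper39.BG11Defs`: `T11 G → SC G` (no use of S1416).
-/

set_option autoImplicit false

namespace Cfsg.Agent.Lib.Helper3.BG117

open Subgroup Cfsg.Agent.Lib.Helper30 Cfsg.Agent.Lib.Helper39.BG11

universe u

variable {G : Type u} [Group G]

theorem normal_of_res [Finite G] (hG : Cfsg.IsMinSimpleOddOrder G) {M A A₀ : Subgroup G} {p : ℕ}
    [Fact p.Prime] (h : Hyp M p A A₀) (res : Res M p A) :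
    M ≤ normalizer ((Cfsg.sigmaCore M ⊔ A : Subgroup G) : Set G) := by
  obtain ⟨A₁, A₂, h1, h2, hc1, hc2, h12, hf1, hf2⟩ := res.fpf2
  refine exc_normal hG h.max h.ns h.le h.ea h.card (fun P hP hAP => ⟨res.comm P hP, ?_⟩)
    h1 h2 hc1 hc2 h12 hf1 hf2
  intro x hx hxp
  refine (res.omega x ?_).mp hxp
  apply mem_centralizer_iff.mpr
  intro a ha
  exact res.comm P hP a (hAP ha) x hx

/-- `SC` (B-G 12.5(c) / 11.7) from section 11.1-11.5 only. -/
theorem sC_of_T11 [Finite G] (hG : Cfsg.IsMinSimpleOddOrder G) (h11 : T11 G) : SC G :=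
  fun M p _ A A₀ h => normal_of_res hG h (h11 M p A A₀ h)

end Cfsg.Agent.Lib.Helper3.BG117
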