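import Cfsg.Agent.Lib.Helper3.BG117B
import Cfsg.Agent.Lib.Helper3.BG117HH
import Cfsg.Agent.Lib.Helper14.BG11A
import Cfsg.Agent.S1415
import Cfsg.Agent.S1450

/-!
Bender--Glauberman 11.7: the two cases.
-/

set_option autoImplicit false

namespace Cfsg.Agent.Lib.Helper3.BG117

open Subgroup Cfsg.Agent.Lib.Helper30 Cfsg.Agent.Lib.Helper2 Cfsg.Agent.Lib.Helper28
  Cfsg.Agent.Lib.Helper68
open scoped commutatorElement

universe u

variable {G : Type u} [Group G]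

/-- Case `q ∣ #C(A)`. -/
theorem case2 [Finite G] (hG : Cfsg.IsMinSimpleOddOrder G) {M : Subgroup G} (hM : IsCoatom M)
    {p q : ℕ} [hp : Fact p.Prime] [hq : Fact q.Prime] (hpq : p ≠ q) (hqM : Cfsg.PRankLE q 2 M)
    {A X K K3 : Subgroup G} (hAM : A ≤ M) (hA : Cfsg.IsElementaryAbelian p A)
    (hA2 : Nat.card A = p ^ 2)
    (hmax : ∀ B : Subgroup G, Cfsg.IsElementaryAbelian p B → A ≤ B → B = A)
    (hqC : q ∣ Nat.card (centralizer (A : Set G))) (hXA : X ≤ A) (hK : IsPGroup q K)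
    (hKM : K ≤ M) (hXK : X ≤ normalizer (K : Set G)) (hK3 : K3 ≤ K)
    (hMK3 : M ≤ normalizer (K3 : Set G)) (hKX : ⁅K, X⁆ ≤ K3) : X ≤ centralizer (K : Set G) := by
  have hfin : ⁅K, X⁆ = ⊥ → X ≤ centralizer (K : Set G) := by
    intro h
    rw [le_centralizer_iff]
    exact commutator_eq_bot_iff_le_centralizer.mp h
  by_cases hK31 : K3 = ⊥
  · apply hfin
    rw [eq_bot_iff, ← hK31]
    exact hKX
  have hK3p : IsPGroup q K3 := hK.to_le hK3
  have hZ1 : BG96.omZ q K3 ≠ ⊥ := omZ_ne_bot hK3p hK31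
  have hZe := BG96.omZ_ea q K3
  have hZM : BG96.omZ q K3 ≤ M := (BG96.omZ_le q K3).trans (hK3.trans hKM)
  have hNZ : normalizer (BG96.omZ q K3 : Set G) = M :=
    normalizer_eq_of_coatom hG hM hZ1 hZM (hMK3.trans (BG96.normalizer_le_normalizer_omZ q K3))
  obtain ⟨Qh, hQh, hK3Q⟩ := exists_maxInv_ge hK3p (hAM.trans hMK3)
  have hQhp : IsPGroup q Qh := (mem_invSubgroups_top_iff.mp hQh.1).1
  have hAN := Cfsg.Agent.Lib.Helper14.BG11.L109c hG hpq hA hA2 hmax hqC hQh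
  have hr : Cfsg.PRankLE q 2 Qh ∨ NarrowData q Qh := by
    by_cases hN : NarrowData q Qh
    · exact Or.inr hN
    · left
      exact pRankLE_of_le (le_of_not_narrow hG hM hqM hQhp ((BG96.omZ_le q K3).trans hK3Q) hZ1 hZe
        hNZ.le hN) hqM
  have hQ1 : Qh ≠ ⊥ := ne_bot_of_le_ne_bot hK31 hK3Q
  have hNtop : normalizer (Qh : Set G) ≠ ⊤ := normalizer_ne_top hG hQ1 (isPGroup_ne_top hG hQhp)
  have hq2 : q ≠ 2 := ne_two_of_dvd_card hG (hqC.trans (Subgroup.card_subgroup_dvd_card _))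
  have hAC : A ≤ centralizer (Qh : Set G) :=
    centralizes_of_le_commutator_normalizer hpq hq2 (ea_isPGroup hA) hQhp
      (solvable_of_ne_top hG hNtop) (Odd.of_dvd_nat hG.1 (Subgroup.card_subgroup_dvd_card _)) hAN hr
  apply hfin
  have hXp : IsPGroup p X := (ea_isPGroup hA).to_le hXA
  obtain ⟨kX, hkX⟩ := IsPGroup.iff_card.mp hXp
  obtain ⟨kK, hkK⟩ := IsPGroup.iff_card.mp hK
  have hcop : (Nat.card X).Coprime (Nat.card K) := by
    rw [hkX, hkK]
    exact Nat.Coprime.pow _ _ ((Nat.coprime_primes hp.out hq.out).mpr hpq)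
  have hKs : Group.IsSolvable K := solvable_of_ne_top hG (isPGroup_ne_top hG hK)
  rw [← commutator_commutator_eq hXK hcop (Or.inr hKs)]
  apply commutator_eq_bot_iff_le_centralizer.mpr
  rw [le_centralizer_iff]
  exact (hXA.trans hAC).trans (centralizer_le (SetLike.coe_subset_coe.mpr (hKX.trans hK3Q)))


/-- Case `q ∤ #C(A)`. -/
theorem case1 [Finite G] (hG : Cfsg.IsMinSimpleOddOrder G) {M : Subgroup G} (hM : IsCoatom M)
    {p q : ℕ} [hp : Fact p.Prime] [hq : Fact q.Prime]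
    {A E : Subgroup G} (hE : Cfsg.IsComplIn E (Cfsg.sigmaCore M) M) (hAE : A ≤ E)
    (hAp : IsPGroup p A) (hK1 : opIn q E ≠ ⊥)
    (hKC : ⁅opIn q E, A⁆ ≤ centralizer (Cfsg.sigmaCore M : Set G))
    (hqC : ¬ q ∣ Nat.card (centralizer (A : Set G)))
    (hidx : ¬ q ∣ (opPrimeIn p E).relIndex E) : False := by
  have hEM : E ≤ M := hE.1
  have hEtop : E ≠ ⊤ := ne_top_of_le_ne_top hM.1 hEM
  have hAN : A ≤ normalizer (opPrimeIn p E : Set G) := hAE.trans (le_normalizer_opPrimeIn p E)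
  obtain ⟨kA, hkA⟩ := IsPGroup.iff_card.mp hAp
  have hcop : (Nat.card A).Coprime (Nat.card (opPrimeIn p E)) := by
    rw [hkA]
    exact Nat.Coprime.pow_left _ (opPrimeIn_coprime p E).symm
  have hAs : Group.IsSolvable A := solvable_of_ne_top hG (isPGroup_ne_top hG hAp)
  obtain ⟨Q1, hQ1, hAQ1⟩ := exists_invariant_isSylowIn hAN hcop (Or.inl hAs) q
  have hC : Q1 ⊓ centralizer (A : Set G) = ⊥ := by
    by_contra hne
    have hpg : IsPGroup q ↥(Q1 ⊓ centralizer (A : Set G)) := hQ1.isPGroup.to_le inf_le_left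
    exact hqC ((dvd_card_of_isPGroup_ne_bot hpg hne).trans (card_dvd_of_le inf_le_right))
  have hcop' : (Nat.card A).Coprime (Nat.card Q1) :=
    Nat.Coprime.coprime_dvd_right (card_dvd_of_le hQ1.le) hcop
  have hQ1c : Q1 ≤ ⁅Q1, A⁆ := by
    intro k hk
    obtain ⟨m, hm, c, hc, rfl⟩ := exists_commutator_mul_centralizer hAQ1 hcop' (Or.inl hAs) hk
    rw [hC, mem_bot] at hc
    rw [hc, mul_one]
    exact hm
  have hnil := (Cfsg.Agent.S1415.result hG M hM E hE).1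
  have hEE : ⁅E, E⁆ ≤ fitIn E :=
    le_fitIn (commutator_le_of_le_normalizer le_normalizer)
      (le_normalizer_commutator le_normalizer le_normalizer) hnil
  have hQ1E : Q1 ≤ E := hQ1.le.trans (opPrimeIn_le p E)
  have hQ1K : Q1 ≤ opIn q E :=
    isPGroup_le_opIn ((hQ1c.trans (commutator_mono hQ1E hAE)).trans hEE) hQ1.isPGroup
  have hQ1S : IsSylowIn q Q1 E := by
    refine ⟨hQ1E, hQ1.isPGroup, ?_⟩
    rw [← relIndex_mul_relIndex Q1 (opPrimeIn p E) E hQ1.le (opPrimeIn_le p E)]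
    intro h
    rcases (Nat.Prime.dvd_mul hq.out).mp h with h | h
    · exact hQ1.not_dvd h
    · exact hidx h
  have hKQ : opIn q E = Q1 := hQ1S.eq_of_le (opIn_le q E) (opIn_isPGroup q E) hQ1K
  have hHall := Cfsg.Agent.Lib.Helper28.BG12.isPiHallOf_compl hG hM hE
  have hqE : q ∣ Nat.card E :=
    (dvd_card_of_isPGroup_ne_bot (opIn_isPGroup q E) hK1).trans (card_dvd_of_le (opIn_le q E))
  have hqσ : q ∉ Cfsg.sigma M :=
    Cfsg.Agent.Lib.Helper28.BG12.not_mem_sigma_of_dvd_compl hG hM hE hq.out hqE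
  have hKS : IsSylowIn q (opIn q E) M := by
    refine ⟨(opIn_le q E).trans hEM, opIn_isPGroup q E, ?_⟩
    rw [← relIndex_mul_relIndex (opIn q E) E M (opIn_le q E) hEM]
    intro h
    rcases (Nat.Prime.dvd_mul hq.out).mp h with h | h
    · rw [hKQ] at h
      exact hQ1S.not_dvd h
    · exact hHall.2.2 q hq.out hqσ h
  have hKC' : opIn q E ≤ centralizer (Cfsg.sigmaCore M : Set G) := by
    refine le_trans ?_ hKC
    rw [hKQ]
    exact hQ1c
  have hMK : M ≤ normalizer (opIn q E : Set G) := by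
    intro m hm
    obtain ⟨a, ha, b, hb, rfl⟩ := hE.2.2.2 m hm
    exact mul_mem (le_normalizer_opIn q E ha)
      (centralizer_le_normalizer' _ (le_centralizer_iff.mp hKC' hb))
  have hN := normalizer_eq_of_coatom hG hM hK1 ((opIn_le q E).trans hEM) hMK
  exact hqσ (mem_sigma_of_normalizer_le hKS hK1 hN.le)

/-- `A` centralizes `O_q(E)` for every prime `q ≠ p`. -/
theorem centralizes_opIn [Finite G] (hG : Cfsg.IsMinSimpleOddOrder G) {M : Subgroup G}
    (hM : IsCoatom M) {p : ℕ} [hp : Fact p.Prime] (hpσ : p ∉ Cfsg.sigma M)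
    {A A₁ A₂ E : Subgroup G} (hAM : A ≤ M) (hA : Cfsg.IsElementaryAbelian p A)
    (hA2 : Nat.card A = p ^ 2)
    (h1 : A₁ ≤ A) (h2 : A₂ ≤ A) (hc1 : Nat.card A₁ = p) (hc2 : Nat.card A₂ = p) (h12 : A₁ ≠ A₂)
    (hf1 : Cfsg.sigmaCore M ⊓ centralizer (A₁ : Set G) = ⊥)
    (hf2 : Cfsg.sigmaCore M ⊓ centralizer (A₂ : Set G) = ⊥)
    (hE : Cfsg.IsComplIn E (Cfsg.sigmaCore M) M) (hAE : A ≤ E) (q : ℕ) (hq : q.Prime)
    (hqp : q ≠ p) : A ≤ centralizer (opIn q E : Set G) := by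
  have := Fact.mk hq
  by_contra hcon
  have hEM : E ≤ M := hE.1
  have hEtop : E ≠ ⊤ := ne_top_of_le_ne_top hM.1 hEM
  have hEs : Group.IsSolvable E := solvable_of_ne_top hG hEtop
  have hMs : Group.IsSolvable M := solvable_of_ne_top hG hM.1
  have hMo : Odd (Nat.card M) := Odd.of_dvd_nat hG.1 (Subgroup.card_subgroup_dvd_card _)
  have hEo : Odd (Nat.card E) := Odd.of_dvd_nat hG.1 (Subgroup.card_subgroup_dvd_card _)
  have hK1 : opIn q E ≠ ⊥ := by
    intro h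
    apply hcon
    intro a _
    apply mem_centralizer_iff.mpr
    intro x hx
    rw [h] at hx
    have hx1 : x = 1 := hx
    rw [hx1]; simp
  have hKp : IsPGroup q (opIn q E) := opIn_isPGroup q E
  have hqE : q ∣ Nat.card E :=
    (dvd_card_of_isPGroup_ne_bot hKp hK1).trans (card_dvd_of_le (opIn_le q E))
  have hqσ : q ∉ Cfsg.sigma M :=
    Cfsg.Agent.Lib.Helper28.BG12.not_mem_sigma_of_dvd_compl hG hM hE hq hqE
  have hqM : Cfsg.PRankLE q 2 M :=
    Cfsg.Agent.Lib.Helper28.BG12.pRankLE_two_of_not_mem_sigma hG hM hq hqσ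
  have hpM : Cfsg.PRankLE p 2 M :=
    Cfsg.Agent.Lib.Helper28.BG12.pRankLE_two_of_not_mem_sigma hG hM hp.out hpσ
  have hU := Cfsg.Agent.Lib.Helper28.BG12.ut hG
  have hmax : ∀ B : Subgroup G, Cfsg.IsElementaryAbelian p B → A ≤ B → B = A :=
    fun B hB hAB => ea_max_of_rank_two hG hU hM hpM hAM hA hA2 hB hAB
  have hlt : p < q := by
    by_contra hnlt
    have hqp' : q < p := lt_of_le_of_ne (not_lt.mp hnlt) hqp
    apply hcon
    intro a ha
    have hrK : Cfsg.PRankLE q 2 ↥(Cfsg.pCore q ↥E) :=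
      Cfsg.Agent.Lib.Helper40.BG12.pRankLE_of_injective
        ((Subgroup.inclusion hEM).comp (Cfsg.pCore q ↥E).subtype)
        ((Subgroup.inclusion_injective hEM).comp (Subgroup.subtype_injective _)) hqM
    have hx := centralizes_pCore_of_large_primes (G := ↥E) hEo q hrK ⟨a, hAE ha⟩ (by
      intro r hr hrd
      have h3 : orderOf (⟨a, hAE ha⟩ : E) ∣ p :=
        orderOf_dvd_of_pow_eq_one (Subtype.ext (hA.2 a ha))
      have h4 := (Nat.prime_dvd_prime_iff_eq hr hp.out).mp (hrd.trans h3)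
      omega)
    apply mem_centralizer_iff.mpr
    rintro _ ⟨y, hy, rfl⟩
    exact congrArg (Subtype.val : ↥E → G) (mem_centralizer_iff.mp hx y hy)
  have hpE : p ∣ Nat.card E := by
    have h3 : p ∣ Nat.card A := by rw [hA2]; exact dvd_pow_self p two_ne_zero
    exact h3.trans (card_dvd_of_le hAE)
  have h50 := (Cfsg.Agent.S1450.result (G := ↥E) hEo p hpE (pRankLE_of_le hEM hpM)).1
  have hidx : ¬ q ∣ (opPrimeIn p E).relIndex E := by
    intro h
    have e : (opPrimeIn p E).relIndex E = (Cfsg.pPrimeCore p ↥E).index := by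
      rw [relIndex]; unfold opPrimeIn; rw [subgroupOf_map_subtype']
    rw [e] at h
    have := h50 q hq h
    omega
  have hKM : opIn q E ≤ M := (opIn_le q E).trans hEM
  have hMN : M ≤ normalizer (Cfsg.sigmaCore M : Set G) :=
    Cfsg.Agent.Lib.Helper28.BG12.le_normalizer_sigmaCore M
  have hσH := Cfsg.Agent.Lib.Helper28.BG12.sigmaCore_hall hG hM
  have hcopσ : ∀ r : ℕ, r.Prime → r ∉ Cfsg.sigma M → (Nat.card (Cfsg.sigmaCore M)).Coprime r := by
    intro r hr hrσ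
    rw [Nat.coprime_comm, Nat.Prime.coprime_iff_not_dvd hr]
    intro h
    exact hrσ (hσH.2.1 r hr h)
  have hAK : A ≤ normalizer (opIn q E : Set G) := hAE.trans (le_normalizer_opIn q E)
  have hHH : ∀ X : Subgroup G, X ≤ A → Nat.card X = p →
      Cfsg.sigmaCore M ⊓ centralizer (X : Set G) = ⊥ →
      ⁅opIn q E, X⁆ ≤ centralizer (Cfsg.sigmaCore M : Set G) := by
    intro X hXA hXc hXf
    exact comm_centralizes_of_fpf (L := M) hMs hMo
      (Cfsg.Agent.Lib.Helper28.BG12.sigmaCore_le M) hKM (hXA.trans hAM) (hKM.trans hMN)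
      ((hXA.trans hAM).trans hMN) (by rw [hXc]; exact hp.out) hXf hKp (by rw [hXc]; exact hqp)
      (hXA.trans hAK) (hcopσ q hq hqσ) (by rw [hXc]; exact hcopσ p hp.out hpσ)
  have hMC : M ≤ normalizer ((centralizer (Cfsg.sigmaCore M : Set G) : Subgroup G) : Set G) :=
    hMN.trans (Cfsg.Agent.Lib.Helper30.normalizer_le_normalizer_centralizer _)
  have hsup := sup_eq_of_card_prime hA2 h1 h2 hc1 hc2 h12
  by_cases hqC : q ∣ Nat.card (centralizer (A : Set G))
  · have hMK3 : M ≤ normalizer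
        ((opIn q E ⊓ centralizer (Cfsg.sigmaCore M : Set G) : Subgroup G) : Set G) := by
      intro m hm
      obtain ⟨a, ha, b, hb, rfl⟩ := hE.2.2.2 m hm
      refine mul_mem (le_normalizer_inf (le_normalizer_opIn q E) (hEM.trans hMC) ha) ?_
      apply centralizer_le_normalizer'
      have h3 : opIn q E ⊓ centralizer (Cfsg.sigmaCore M : Set G)
          ≤ centralizer (Cfsg.sigmaCore M : Set G) := inf_le_right
      exact le_centralizer_iff.mp h3 hb
    have hX : ∀ X : Subgroup G, X ≤ A → Nat.card X = p →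
        Cfsg.sigmaCore M ⊓ centralizer (X : Set G) = ⊥ → X ≤ centralizer (opIn q E : Set G) := by
      intro X hXA hXc hXf
      exact case2 hG hM (Ne.symm hqp) hqM hAM hA hA2 hmax hqC hXA hKp hKM (hXA.trans hAK)
        inf_le_left hMK3
        (le_inf (commutator_le_of_le_normalizer (hXA.trans hAK)) (hHH X hXA hXc hXf))
    apply hcon
    rw [← hsup]
    exact sup_le (hX A₁ h1 hc1 hf1) (hX A₂ h2 hc2 hf2)
  · have hKC : ⁅opIn q E, A⁆ ≤ centralizer (Cfsg.sigmaCore M : Set G) := by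
      rw [← hsup]
      exact commutator_sup_le (hHH A₁ h1 hc1 hf1) (hHH A₂ h2 hc2 hf2)
        ((h1.trans hAM).trans hMC) ((h2.trans hAM).trans hMC)
    exact case1 hG hM hE hAE (ea_isPGroup hA) hK1 hKC hqC hidx

/-- **Bender--Glauberman 11.7** (= 12.5(c)): `M` normalizes `M_σ A`. -/
theorem exc_normal [Finite G] (hG : Cfsg.IsMinSimpleOddOrder G) {M : Subgroup G}
    (hM : IsCoatom M) {p : ℕ} [hp : Fact p.Prime] (hpσ : p ∉ Cfsg.sigma M)
    {A A₁ A₂ : Subgroup G} (hAM : A ≤ M) (hA : Cfsg.IsElementaryAbelian p A)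
    (hA2 : Nat.card A = p ^ 2)
    (hP : ∀ P : Subgroup G, IsSylowIn p P M → A ≤ P →
      (∀ x ∈ P, ∀ y ∈ P, x * y = y * x) ∧ ∀ x ∈ P, x ^ p = 1 → x ∈ A)
    (h1 : A₁ ≤ A) (h2 : A₂ ≤ A) (hc1 : Nat.card A₁ = p) (hc2 : Nat.card A₂ = p) (h12 : A₁ ≠ A₂)
    (hf1 : Cfsg.sigmaCore M ⊓ centralizer (A₁ : Set G) = ⊥)
    (hf2 : Cfsg.sigmaCore M ⊓ centralizer (A₂ : Set G) = ⊥) :
    M ≤ normalizer ((Cfsg.sigmaCore M ⊔ A : Subgroup G) : Set G) := by
  have hAp : IsPGroup p A := ea_isPGroup hA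
  obtain ⟨E, hE, hAE⟩ := Cfsg.Agent.Lib.Helper28.BG12.exists_compl_ge hG hM hAM (by
    intro r hr hrd
    rw [Cfsg.Agent.Lib.Helper28.BG12.prime_dvd_card_isPGroup hAp hr hrd]
    exact hpσ)
  have hEM : E ≤ M := hE.1
  have hEs : Group.IsSolvable E := solvable_of_ne_top hG (ne_top_of_le_ne_top hM.1 hEM)
  obtain ⟨P, hPS, hAP⟩ := exists_isSylowIn_ge hAE hAp
  have hHall := Cfsg.Agent.Lib.Helper28.BG12.isPiHallOf_compl hG hM hE
  have hPM : IsSylowIn p P M := by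
    refine ⟨hPS.le.trans hEM, hPS.isPGroup, ?_⟩
    rw [← relIndex_mul_relIndex P E M hPS.le hEM]
    intro h
    rcases (Nat.Prime.dvd_mul hp.out).mp h with h | h
    · exact hPS.not_dvd h
    · exact hHall.2.2 p hp.out hpσ h
  obtain ⟨hPab, hΩ⟩ := hP P hPM hAP
  have hEA : E ≤ normalizer (A : Set G) :=
    normalizes_of_centralizes_opIn hEs hPS hPab hAP hΩ hA.2
      (fun q hq hqp => centralizes_opIn hG hM hpσ hAM hA hA2 h1 h2 hc1 hc2 h12 hf1 hf2 hE hAE q hq hqp)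
  have hMN : M ≤ normalizer (Cfsg.sigmaCore M : Set G) :=
    Cfsg.Agent.Lib.Helper28.BG12.le_normalizer_sigmaCore M
  intro m hm
  obtain ⟨a, ha, b, hb, rfl⟩ := hE.2.2.2 m hm
  exact mul_mem (le_normalizer_sup (hEM.trans hMN) hEA ha) (le_normalizer (mem_sup_left hb))

end Cfsg.Agent.Lib.Helper3.BG117
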