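import Mathlib
import Cfsg.Agent.Lib.Helper3.RankTwo

set_option autoImplicit false

universe u

namespace Cfsg.Agent.Lib.Helper3

open scoped commutatorElement

theorem card_le_index_mul_card_inf {G : Type*} [Group G] [Finite G] (B C : Subgroup G)
    [C.Normal] : Nat.card B ≤ C.index * Nat.card (B ⊓ C : Subgroup G) := by
  have h1 := Subgroup.relIndex_mul_relIndex ⊥ (B ⊓ C) B bot_le inf_le_left
  rw [Subgroup.relIndex_bot_left, Subgroup.relIndex_bot_left, Subgroup.inf_relIndex_left] at h1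
  have h2 : C.relIndex B ≤ C.index :=
    Nat.le_of_dvd (Nat.pos_of_ne_zero Subgroup.index_ne_zero_of_finite)
      (Subgroup.relIndex_dvd_index_of_normal C B)
  calc Nat.card B = Nat.card (B ⊓ C : Subgroup G) * C.relIndex B := h1.symm
    _ ≤ Nat.card (B ⊓ C : Subgroup G) * C.index := Nat.mul_le_mul_left _ h2
    _ = C.index * Nat.card (B ⊓ C : Subgroup G) := mul_comm _ _

theorem index_centralizer_le {P : Type*} [Group P] [Finite P] {p : ℕ} [Fact p.Prime]
    (hP : IsPGroup p P) (A : Subgroup P) [A.Normal] (hA : Nat.card A ≤ p ^ 2) :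
    (Subgroup.centralizer (A : Set P)).index ≤ p := by
  have h1 := card_le_mul_card_centralizer hP A hA
  rw [← (Subgroup.centralizer (A : Set P)).card_mul_index, mul_comm] at h1
  exact Nat.le_of_mul_le_mul_right h1 Nat.card_pos

/-- every normal abelian subgroup of a `p`-group lies in a self-centralizing normal abelian
subgroup -/
theorem exists_self_centralizing_normal {P : Type u} [Group P] [Finite P] {p : ℕ} [Fact p.Prime]
    (hP : IsPGroup p P) (A₀ : Subgroup P) (hn : A₀.Normal)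
    (hc : ∀ a ∈ A₀, ∀ b ∈ A₀, a * b = b * a) :
    ∃ A : Subgroup P, A₀ ≤ A ∧ A.Normal ∧ (∀ a ∈ A, ∀ b ∈ A, a * b = b * a) ∧
      Subgroup.centralizer (A : Set P) = A := by
  classical
  have hpp : p.Prime := Fact.out
  let S : Set (Subgroup P) := {A | A₀ ≤ A ∧ A.Normal ∧ (∀ a ∈ A, ∀ b ∈ A, a * b = b * a)}
  obtain ⟨A, ⟨hA0, hAn, hAc⟩, hAmax⟩ := (Set.toFinite S).exists_maximal ⟨A₀, le_rfl, hn, hc⟩
  obtain ⟨m, hm⟩ := hP.exists_card_eq
  have hexp : ∀ g : P, g ^ p ^ (m + 2) = 1 := by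
    intro g
    rw [pow_add, pow_mul, ← hm, pow_card_eq_one', one_pow]
  have hne : p ^ (m + 2) ≠ 2 := by
    have h1 : 2 ^ 2 ≤ p ^ (m + 2) :=
      calc 2 ^ 2 ≤ p ^ 2 := Nat.pow_le_pow_left hpp.two_le 2
        _ ≤ p ^ (m + 2) := Nat.pow_le_pow_right hpp.pos (by omega)
    omega
  refine ⟨A, hA0, hAn, hAc, le_antisymm ?_ ?_⟩
  · intro x hx
    by_contra hxA
    obtain ⟨B, hBn, hBc, _, hAB, hneq⟩ :=
      exists_larger_normal_abelian hP (m + 2) hne A hAc (fun a _ => hexp a) x hx (hexp x) hxA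
    exact hneq (le_antisymm (hAmax ⟨hA0.trans hAB, hBn, hBc⟩ hAB) hAB)
  · intro x hx
    rw [Subgroup.mem_centralizer_iff]
    intro y hy
    exact hAc y hy x hx

/-- the join of two commuting abelian subgroups is abelian -/
theorem sup_comm_of_comm {G : Type*} [Group G] (E D : Subgroup G)
    (hE : ∀ a ∈ E, ∀ b ∈ E, a * b = b * a) (hD : ∀ a ∈ D, ∀ b ∈ D, a * b = b * a)
    (hED : ∀ a ∈ E, ∀ b ∈ D, a * b = b * a) : ∀ a ∈ E ⊔ D, ∀ b ∈ E ⊔ D, a * b = b * a := by
  have h1 : E ⊔ D ≤ Subgroup.centralizer (E : Set G) := by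
    apply sup_le
    · intro x hx
      rw [Subgroup.mem_centralizer_iff]
      intro y hy
      exact hE y hy x hx
    · intro x hx
      rw [Subgroup.mem_centralizer_iff]
      intro y hy
      exact hED y hy x hx
  have h2 : E ⊔ D ≤ Subgroup.centralizer (D : Set G) := by
    apply sup_le
    · intro x hx
      rw [Subgroup.mem_centralizer_iff]
      intro y hy
      exact (hED x hx y hy).symm
    · intro x hx
      rw [Subgroup.mem_centralizer_iff]
      intro y hy
      exact hD y hy x hx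
  have h3 : E ⊔ D ≤ Subgroup.centralizer ((E ⊔ D : Subgroup G) : Set G) :=
    sup_le (Subgroup.le_centralizer_iff.mp h1) (Subgroup.le_centralizer_iff.mp h2)
  intro a ha b hb
  exact (Subgroup.mem_centralizer_iff.mp (h3 hb) a ha)

/-- the join of two commuting subgroups of exponent `n` has exponent `n` -/
theorem sup_pow_of_comm {G : Type*} [Group G] (E D : Subgroup G) (n : ℕ)
    (hE : ∀ a ∈ E, a ^ n = 1) (hD : ∀ a ∈ D, a ^ n = 1)
    (hc : ∀ a ∈ E ⊔ D, ∀ b ∈ E ⊔ D, a * b = b * a) : ∀ a ∈ E ⊔ D, a ^ n = 1 := by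
  intro a ha
  rw [Subgroup.sup_eq_closure] at ha
  have hcl : Subgroup.closure ((E : Set G) ∪ D) = E ⊔ D := (Subgroup.sup_eq_closure E D).symm
  induction ha using Subgroup.closure_induction with
  | mem x hx =>
    rcases hx with hx | hx
    · exact hE x hx
    · exact hD x hx
  | one => exact one_pow _
  | mul x y hx hy hxp hyp =>
    have : Commute x y := hc x (hcl ▸ hx) y (hcl ▸ hy)
    rw [this.mul_pow, hxp, hyp, one_mul]
  | inv x _ hxp => rw [inv_pow, hxp, inv_one]

end Cfsg.Agent.Lib.Helper3
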