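import Cfsg.Agent.Lib.Helper3.BG117A
import Cfsg.Agent.Lib.Helper28.BG12b
import Cfsg.Agent.Lib.Helper40.BG10E
import Cfsg.Agent.Lib.Helper68.BG10F
import Cfsg.Agent.S1403

/-!
More auxiliary lemmas for Bender--Glauberman 11.7.
-/

set_option autoImplicit false

namespace Cfsg.Agent.Lib.Helper3.BG117

open Subgroup Cfsg.Agent.Lib.Helper30 Cfsg.Agent.Lib.Helper2 Cfsg.Agent.Lib.Helper28
  Cfsg.Agent.Lib.Helper68
open scoped commutatorElement

universe u

variable {G : Type u} [Group G]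

theorem pRankLE_of_le {p k : ℕ} {X Y : Subgroup G} (h : X ≤ Y) (hY : Cfsg.PRankLE p k Y) :
    Cfsg.PRankLE p k X :=
  Cfsg.Agent.Lib.Helper40.BG12.pRankLE_of_injective (Subgroup.inclusion h)
    (Subgroup.inclusion_injective h) hY

theorem sup_eq_of_card_prime [Finite G] {p : ℕ} [hp : Fact p.Prime] {A A₁ A₂ : Subgroup G}
    (hA2 : Nat.card A = p ^ 2) (h1 : A₁ ≤ A) (h2 : A₂ ≤ A) (hc1 : Nat.card A₁ = p)
    (hc2 : Nat.card A₂ = p) (h12 : A₁ ≠ A₂) : A₁ ⊔ A₂ = A := by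
  have hle : A₁ ⊔ A₂ ≤ A := sup_le h1 h2
  have hd : Nat.card ↥(A₁ ⊔ A₂) ∣ p ^ 2 := hA2 ▸ card_dvd_of_le hle
  obtain ⟨k, hk, hkc⟩ := (Nat.dvd_prime_pow hp.out).mp hd
  have hp1 := hp.out.one_lt
  interval_cases k
  · exfalso
    have h3 : Nat.card A₁ ≤ Nat.card ↥(A₁ ⊔ A₂) := Subgroup.card_le_of_le le_sup_left
    rw [hkc, hc1, pow_zero] at h3
    omega
  · exfalso
    have e1 : A₁ = A₁ ⊔ A₂ := Subgroup.eq_of_le_of_card_ge le_sup_left (by rw [hkc, hc1, pow_one])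
    have e2 : A₂ = A₁ ⊔ A₂ := Subgroup.eq_of_le_of_card_ge le_sup_right (by rw [hkc, hc2, pow_one])
    exact h12 (e1.trans e2.symm)
  · exact Subgroup.eq_of_le_of_card_ge hle (by rw [hkc, hA2])

theorem commutator_sup_le {K A₁ A₂ C : Subgroup G} (h1 : ⁅K, A₁⁆ ≤ C) (h2 : ⁅K, A₂⁆ ≤ C)
    (hn1 : A₁ ≤ normalizer (C : Set G)) (hn2 : A₂ ≤ normalizer (C : Set G)) :
    ⁅K, A₁ ⊔ A₂⁆ ≤ C := by
  let T : Subgroup G :=
    { carrier := {a | a ∈ normalizer (C : Set G) ∧ ∀ k ∈ K, ⁅k, a⁆ ∈ C}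
      one_mem' := ⟨one_mem _, fun k _ => by simp⟩
      mul_mem' := by
        rintro a b ⟨ha, ha'⟩ ⟨hb, hb'⟩
        refine ⟨mul_mem ha hb, fun k hk => ?_⟩
        have e : ⁅k, a * b⁆ = ⁅k, a⁆ * (a * ⁅k, b⁆ * a⁻¹) := by
          simp only [commutatorElement_def]; group
        rw [e]
        exact C.mul_mem (ha' k hk) ((mem_normalizer_iff.mp ha _).mp (hb' k hk))
      inv_mem' := by
        rintro a ⟨ha, ha'⟩
        refine ⟨inv_mem ha, fun k hk => ?_⟩
        have e : ⁅k, a⁻¹⁆ = a⁻¹ * (⁅k, a⁆)⁻¹ * a⁻¹⁻¹ := by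
          simp only [commutatorElement_def]; group
        rw [e]
        exact (mem_normalizer_iff.mp (inv_mem ha) _).mp (C.inv_mem (ha' k hk)) }
  have hT1 : A₁ ≤ T := fun a ha => ⟨hn1 ha, fun k hk => h1 (commutator_mem_commutator hk ha)⟩
  have hT2 : A₂ ≤ T := fun a ha => ⟨hn2 ha, fun k hk => h2 (commutator_mem_commutator hk ha)⟩
  rw [commutator_le]
  intro k hk a ha
  exact ((sup_le hT1 hT2) ha).2 k hk

/-- ambient version of `normal_of_centralizes_pCores`. -/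
theorem normalizes_of_centralizes_opIn [Finite G] {E A P : Subgroup G}
    (hEs : Group.IsSolvable E) {p : ℕ} [hp : Fact p.Prime] (hP : IsSylowIn p P E)
    (hPab : ∀ x ∈ P, ∀ y ∈ P, x * y = y * x) (hAP : A ≤ P)
    (hΩ : ∀ x ∈ P, x ^ p = 1 → x ∈ A) (hAe : ∀ a ∈ A, a ^ p = 1)
    (hc : ∀ q : ℕ, q.Prime → q ≠ p → A ≤ centralizer (opIn q E : Set G)) :
    E ≤ normalizer (A : Set G) := by
  have hOpP : opIn p E ≤ P := opIn_le_of_isSylowIn hP
  have hAF : A ≤ centralizer (fitIn E : Set G) := by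
    rw [le_centralizer_iff, fitIn_eq_iSup_opIn, iSup_le_iff]
    intro q
    rw [← le_centralizer_iff]
    by_cases hq : (q : ℕ) = p
    · rw [hq]
      intro a ha
      apply mem_centralizer_iff.mpr
      intro x hx
      exact hPab x (hOpP hx) a (hAP ha)
    · exact hc q q.2 hq
  have hAF' : A ≤ fitIn E := (le_inf (hAP.trans hP.le) hAF).trans (inf_centralizer_fitIn_le hEs)
  have hAO : A ≤ opIn p E := isPGroup_le_opIn hAF' (hP.isPGroup.to_le hAP)
  intro e he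
  apply Cfsg.Agent.Lib.Helper28.BG12.mem_normalizer_of_cj_le'
  rintro _ ⟨a, ha, rfl⟩
  have h1 : e * a * e⁻¹ ∈ opIn p E :=
    (mem_normalizer_iff.mp (le_normalizer_opIn p E he) a).mp (hAO ha)
  apply hΩ _ (hOpP h1)
  rw [conj_pow, hAe a ha]
  simp

/-- If the `q`-group `Qh` is not narrow and contains a nontrivial elementary abelian `Z3` with
`N(Z3) ≤ M`, where `M` has `q`-rank at most two, then `Qh ≤ M`. -/
theorem le_of_not_narrow [Finite G] (hG : Cfsg.IsMinSimpleOddOrder G) {M : Subgroup G}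
    (hM : IsCoatom M) {q : ℕ} [hq : Fact q.Prime] (hr : Cfsg.PRankLE q 2 M) {Qh Z3 : Subgroup G}
    (hQh : IsPGroup q Qh) (hZQ : Z3 ≤ Qh) (hZ1 : Z3 ≠ ⊥) (hZe : Cfsg.IsElementaryAbelian q Z3)
    (hN : normalizer (Z3 : Set G) ≤ M) (hnn : ¬ NarrowData q Qh) : Qh ≤ M := by
  have hU : UT G := fun K h1 h2 h3 => Cfsg.Agent.S1403.result hG K h1 h2 h3
  have hQ1 : Qh ≠ ⊥ := ne_bot_of_le_ne_bot hZ1 hZQ
  obtain ⟨z, hzQ, hzC, hzo⟩ := Cfsg.Agent.Lib.Helper40.BG10.exists_central_order_p hQh hQ1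
  have hCN : centralizer (Z3 : Set G) ≤ M := (centralizer_le_normalizer' Z3).trans hN
  by_cases hZ : Z3 ≤ zpowers z
  · refine le_trans ?_ hCN
    intro y hy
    apply mem_centralizer_iff.mpr
    intro x hx
    obtain ⟨k, rfl⟩ := mem_zpowers_iff.mp (hZ hx)
    have hc : Commute z y := (mem_centralizer_iff.mp hzC y hy).symm
    exact (hc.zpow_left k)
  · obtain ⟨x, hx, hxz⟩ := SetLike.not_le_iff_exists.mp hZ
    have hzq : z ^ q = 1 := by rw [← hzo]; exact pow_orderOf_eq_one z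
    have hxq : x ^ q = 1 := hZe.2 x hx
    have hczx : Commute z x := (mem_centralizer_iff.mp hzC x (hZQ hx)).symm
    obtain ⟨D, hDdef⟩ : ∃ D, D = zpowers z ⊔ zpowers x := ⟨_, rfl⟩
    have hD : Cfsg.IsElementaryAbelian q D := by
      rw [hDdef]
      apply ea_sup (Cfsg.Agent.Lib.Helper40.BG10.ea_zpowers' hzq)
        (Cfsg.Agent.Lib.Helper40.BG10.ea_zpowers' hxq)
      intro a ha b hb
      obtain ⟨i, rfl⟩ := mem_zpowers_iff.mp ha
      obtain ⟨j, rfl⟩ := mem_zpowers_iff.mp hb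
      exact hczx.zpow_zpow i j
    have hDQ : D ≤ Qh := by
      rw [hDdef]; exact sup_le (zpowers_le.mpr hzQ) (zpowers_le.mpr (hZQ hx))
    have hzM : z ∈ M := hCN (centralizer_le (SetLike.coe_subset_coe.mpr hZQ) hzC)
    have hxM : x ∈ M := hN (le_normalizer hx)
    have hDM : D ≤ M := by
      rw [hDdef]; exact sup_le (zpowers_le.mpr hzM) (zpowers_le.mpr hxM)
    have hlt : q < Nat.card D := by
      by_contra hcon
      have hle : zpowers z ≤ D := by rw [hDdef]; exact le_sup_left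
      have e1 : zpowers z = D := Subgroup.eq_of_le_of_card_ge hle (by
        rw [Nat.card_zpowers, hzo]; omega)
      apply hxz
      rw [e1, hDdef]
      exact mem_sup_right (mem_zpowers x)
    have hD2 : Nat.card D = q ^ 2 := card_eq_sq hr hDM hD hlt
    -- use non-narrowness
    have hnn' : ∀ E : Subgroup ↥Qh, Cfsg.IsElementaryAbelian q E → Nat.card E = q ^ 2 →
        ∃ B : Subgroup ↥Qh, Cfsg.IsElementaryAbelian q B ∧ E ≤ B ∧ B ≠ E := by
      intro E hE hE2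
      by_contra hcon
      apply hnn
      refine ⟨E, hE, hE2, fun B hB hEB => ?_⟩
      by_contra hne
      exact hcon ⟨B, hB, hEB, hne⟩
    have hE0 : Cfsg.IsElementaryAbelian q (D.subgroupOf Qh) := by
      refine ⟨⟨⟨?_⟩⟩, ?_⟩
      · rintro ⟨a, ha⟩ ⟨b, hb⟩
        apply Subtype.ext
        apply Subtype.ext
        exact ea_comm hD (mem_subgroupOf.mp ha) (mem_subgroupOf.mp hb)
      · intro a ha
        apply Subtype.ext
        exact hD.2 a (mem_subgroupOf.mp ha)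
    obtain ⟨B, hB, hEB, hne⟩ := hnn' _ hE0 (by rw [card_subgroupOf hDQ, hD2])
    obtain ⟨b, hbB, hbE⟩ : ∃ b ∈ B, b ∉ D.subgroupOf Qh := by
      by_contra hcon
      push Not at hcon
      exact hne (le_antisymm hcon hEB)
    have hB' : Cfsg.IsElementaryAbelian q (B.map Qh.subtype) := by
      refine ⟨⟨⟨?_⟩⟩, ?_⟩
      · rintro ⟨_, a, ha, rfl⟩ ⟨_, c, hc, rfl⟩
        apply Subtype.ext
        have := ea_comm hB ha hc
        exact congrArg (Subtype.val : ↥Qh → G) this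
      · rintro _ ⟨a, ha, rfl⟩
        have := hB.2 a ha
        exact congrArg Subtype.val this
    have hDB : D ≤ B.map Qh.subtype := by
      intro d hd
      exact ⟨⟨d, hDQ hd⟩, hEB (mem_subgroupOf.mpr hd), rfl⟩
    have hlt2 : q ^ 2 < Nat.card ↥(B.map Qh.subtype) := by
      by_contra hcon
      have e1 : D = B.map Qh.subtype := Subgroup.eq_of_le_of_card_ge hDB (by rw [hD2]; omega)
      apply hbE
      rw [mem_subgroupOf, e1]
      exact ⟨b, hbB, rfl⟩
    have h1 : ¬ Cfsg.RankLE 1 D := fun h =>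
      not_pRankLE_of_elementary (le_refl D) hD (by rw [pow_one]; exact hlt) (h q hq.out)
    have h2 : ¬ Cfsg.RankLE 2 (centralizer (D : Set G)) := fun h =>
      not_pRankLE_of_elementary (ea_le_centralizer hB' hDB) hB' hlt2 (h q hq.out)
    have hDU := hU D (isPGroup_ne_top hG (ea_isPGroup hD)) h1 (Or.inr h2)
    exact uniq_le hDU hM hDM hDQ (isPGroup_ne_top hG hQh)

end Cfsg.Agent.Lib.Helper3.BG117
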