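import Mathlib
import Cfsg.Agent.Lib.Helper28.BG12b
import Cfsg.Agent.Lib.Helper3.BG117HH
import Cfsg.Agent.Lib.Helper3.BG117B
import Cfsg.Agent.Lib.Helper3.BG36Aux
import Cfsg.Agent.Lib.Helper66.PiHall
import Cfsg.Agent.Lib.Helper73.Commutator
import Cfsg.Agent.Lib.Helper12.Card
import Cfsg.Agent.Lib.Helper1.Coprime2

set_option autoImplicit false

/-!
# B-G 15.2, abstract part A: the normal Sylow `q`-subgroup
-/

namespace Cfsg.Agent.Lib.Helper3.BG152

open Subgroup Cfsg Cfsg.Agent.Lib.Helper30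
open scoped commutatorElement

variable {G : Type*} [Group G]

/-- three subgroups lemma modulo a subgroup normalized by the three subgroups. -/
theorem three_subgroups_rel {H₁ H₂ H₃ N : Subgroup G} (h₁ : H₁ ≤ normalizer (N : Set G))
    (h₂ : H₂ ≤ normalizer (N : Set G)) (h₃ : H₃ ≤ normalizer (N : Set G))
    (h1 : ⁅⁅H₂, H₃⁆, H₁⁆ ≤ N) (h2 : ⁅⁅H₃, H₁⁆, H₂⁆ ≤ N) : ⁅⁅H₁, H₂⁆, H₃⁆ ≤ N := by
  set R := normalizer (N : Set G) with hR
  have hn : (N.subgroupOf R).Normal := normal_subgroupOf_of_le_normalizer le_rfl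
  have key : ∀ A B C : Subgroup G, A ≤ R → B ≤ R → C ≤ R →
      (⁅⁅A.subgroupOf R, B.subgroupOf R⁆, C.subgroupOf R⁆).map R.subtype = ⁅⁅A, B⁆, C⁆ := by
    intro A B C hA hB hC
    rw [map_commutator, map_commutator, map_subgroupOf_eq_of_le hA, map_subgroupOf_eq_of_le hB,
      map_subgroupOf_eq_of_le hC]
  have tr : ∀ A B C : Subgroup G, A ≤ R → B ≤ R → C ≤ R → ⁅⁅A, B⁆, C⁆ ≤ N →
      ⁅⁅A.subgroupOf R, B.subgroupOf R⁆, C.subgroupOf R⁆ ≤ N.subgroupOf R := by
    intro A B C hA hB hC h x hx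
    rw [mem_subgroupOf]
    apply h
    rw [← key A B C hA hB hC]
    exact ⟨x, hx, rfl⟩
  have h3 := Cfsg.Agent.Lib.Helper73.three_subgroups_le (H₁.subgroupOf R) (H₂.subgroupOf R)
    (H₃.subgroupOf R) (N.subgroupOf R) (tr _ _ _ h₂ h₃ h₁ h1) (tr _ _ _ h₃ h₁ h₂ h2)
  rw [← key H₁ H₂ H₃ h₁ h₂ h₃]
  rintro _ ⟨x, hx, rfl⟩
  exact mem_subgroupOf.mp (h3 hx)

/-- two subgroups of coprime orders whose orders multiply to a multiple of `|Z|` generate `Z`. -/
theorem le_sup_of_coprime_card [Finite G] {X Y Z : Subgroup G} (hX : X ≤ Z) (hY : Y ≤ Z)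
    (hcop : (Nat.card X).Coprime (Nat.card Y)) (hcard : Nat.card Z ∣ Nat.card X * Nat.card Y) :
    Z ≤ X ⊔ Y := by
  have h1 : Nat.card X * Nat.card Y ∣ Nat.card ↥(X ⊔ Y) :=
    hcop.mul_dvd_of_dvd_of_dvd (card_dvd_of_le le_sup_left) (card_dvd_of_le le_sup_right)
  have h2 : X ⊔ Y = Z := Subgroup.eq_of_le_of_card_ge (sup_le hX hY)
    (Nat.le_of_dvd Nat.card_pos (hcard.trans h1))
  exact h2.ge

theorem le_normalizer_sup_of_commutator_le [Finite G] {T D X : Subgroup G}
    (hT : X ≤ normalizer (T : Set G)) (h : ⁅D, X⁆ ≤ T) : X ≤ normalizer ((T ⊔ D : Subgroup G) : Set G) := by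
  intro x hx
  apply Cfsg.Agent.Lib.Helper28.BG12.mem_normalizer_of_cj_le'
  rw [cj_sup, cj_eq_of_mem_normalizer (hT hx)]
  refine sup_le le_sup_left ?_
  rintro _ ⟨d, hd, rfl⟩
  change x * d * x⁻¹ ∈ T ⊔ D
  have h1 : x * d * x⁻¹ * d⁻¹ ∈ T := by
    have h2 : ⁅d, x⁆ ∈ T := h (commutator_mem_commutator hd hx)
    have h3 := (mem_normalizer_iff.mp (hT hx) _).mp (T.inv_mem h2)
    have e : x * ⁅d, x⁆⁻¹ * x⁻¹ = x * (x * d * x⁻¹ * d⁻¹) * x⁻¹ := by
      rw [commutatorElement_def]; group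
    rw [e] at h3
    exact (mem_normalizer_iff.mp (hT hx) _).mpr h3
  have e : x * d * x⁻¹ = (x * d * x⁻¹ * d⁻¹) * d := by group
  rw [e]
  exact mul_mem (le_sup_left (b := D) h1) (le_sup_right (a := T) hd)

theorem centralizer_zpowers_eq (k : G) :
    centralizer ((zpowers k : Subgroup G) : Set G) = centralizer ({k} : Set G) := by
  ext x
  rw [mem_centralizer_iff, mem_centralizer_iff]
  constructor
  · intro h y hy
    rw [Set.mem_singleton_iff] at hy
    subst hy
    exact h y (mem_zpowers y)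
  · intro h y hy
    obtain ⟨n, rfl⟩ := mem_zpowers_iff.mp hy
    have h1 : Commute k x := h k rfl
    exact (h1.zpow_left n)

/-- a subgroup of prime order is contained in, or meets trivially, any other subgroup. -/
theorem le_or_inf_eq_bot_of_card_prime {X Y : Subgroup G} (hX : (Nat.card X).Prime) :
    X ≤ Y ∨ X ⊓ Y = ⊥ := by
  have := Fact.mk hX
  rcases (Y.subgroupOf X).eq_bot_or_eq_top_of_prime_card with h | h
  · right
    rw [subgroupOf_eq_bot] at h
    exact h.symm.eq_bot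
  · left
    exact subgroupOf_eq_top.mp h

/-- `q`-part bookkeeping: a Sylow `q`-subgroup of `L` has order `q ^ m` if `L` has a subgroup of
order prime to `q` and index `q ^ m`. -/
theorem card_sylow_of_series [Finite G] {q m : ℕ} [hq : Fact q.Prime] {D₀ L Q : Subgroup G}
    (hD₀L : D₀ ≤ L) (hcop : (Nat.card D₀).Coprime q) (hidx : D₀.relIndex L = q ^ m)
    (hQ : IsSylowIn q Q L) : Nat.card Q = q ^ m := by
  obtain ⟨n, hn⟩ := IsPGroup.iff_card.mp hQ.isPGroup
  have h1 := card_eq_card_mul_relIndex hD₀L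
  have h2 := card_eq_card_mul_relIndex hQ.le
  rw [hidx] at h1
  rw [hn] at h2
  have hr : (Q.relIndex L).Coprime q := ((Nat.Prime.coprime_iff_not_dvd hq.out).mpr hQ.not_dvd).symm
  rw [hn]
  apply Nat.dvd_antisymm
  · have : q ^ n ∣ Nat.card D₀ * q ^ m := by rw [← h1, h2]; exact Dvd.intro _ rfl
    exact (Nat.Coprime.pow_left n hcop.symm).dvd_of_dvd_mul_left this
  · have : q ^ m ∣ q ^ n * Q.relIndex L := by rw [← h2, h1]; exact Dvd.intro_left _ rfl
    exact (Nat.Coprime.pow_left m hr.symm).dvd_of_dvd_mul_right this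

/-- **B-G 15.2, the normal Sylow subgroup.** -/
theorem exists_normal_sylow [Finite G] {M S K : Subgroup G} {q : ℕ} [hqp : Fact q.Prime]
    (hMs : Group.IsSolvable M) (hMo : Odd (Nat.card M)) (hSM : S ≤ M) (hKM : K ≤ M)
    (hMS : M ≤ normalizer (S : Set G))
    (hcop : (Nat.card K).Coprime (Nat.card S)) (hK1 : K ≠ ⊥)
    (hq : Nat.card ↥(S ⊓ centralizer (K : Set G)) = q)
    (hpa : ∀ k ∈ K, k ≠ 1 → S ⊓ centralizer ({k} : Set G) = S ⊓ centralizer (K : Set G))
    (hcomm : ⁅S, K⁆ = S) (hlen : Cfsg.PLengthLE q 1 S) :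
    ∃ Q : Subgroup G, IsSylowIn q Q S ∧ M ≤ normalizer (Q : Set G) := by
  set Ks := S ⊓ centralizer (K : Set G) with hKs
  have hKS : K ≤ normalizer (S : Set G) := hKM.trans hMS
  have hSs : Group.IsSolvable S := isSolvable_of_le hSM hMs
  obtain ⟨A, B, hAc, hBc, hAB, hAq, ⟨m, hm⟩, hBq⟩ :=
    Cfsg.Agent.Lib.Helper3.exists_series_of_pLengthLE_one hlen
  set D₀ := A.map S.subtype with hD₀
  set L := B.map S.subtype with hL
  have hD₀S : D₀ ≤ S := map_subtype_le _
  have hLS : L ≤ S := map_subtype_le _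
  have hD₀L : D₀ ≤ L := Subgroup.map_mono hAB
  have hMD₀ : M ≤ normalizer (D₀ : Set G) :=
    hMS.trans (Cfsg.Agent.Lib.Helper1.normalizer_le_normalizer_map_of_characteristic S A)
  have hML : M ≤ normalizer (L : Set G) :=
    hMS.trans (Cfsg.Agent.Lib.Helper1.normalizer_le_normalizer_map_of_characteristic S B)
  have hD₀q : (Nat.card D₀).Coprime q := by
    rw [hD₀, card_map_of_injective S.subtype_injective]; exact hAq
  have hLq : (L.relIndex S).Coprime q := by
    rw [hL, relIndex, subgroupOf, comap_map_eq_self_of_injective S.subtype_injective]; exact hBq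
  have hD₀Lq : D₀.relIndex L = q ^ m := by
    rw [hD₀, hL, ← relIndex_comap, comap_map_eq_self_of_injective S.subtype_injective]; exact hm
  -- `Ks`
  have hKsS : Ks ≤ S := inf_le_left
  have hKsp : IsPGroup q Ks := IsPGroup.of_card (n := 1) (by rw [hq, pow_one])
  have hKsprime : (Nat.card Ks).Prime := by rw [hq]; exact hqp.out
  have hKKs : K ≤ normalizer (Ks : Set G) :=
    le_normalizer_inf hKS (le_normalizer.trans
      (Cfsg.Agent.Lib.Helper30.normalizer_le_normalizer_centralizer K))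
  have hKsK : ⁅K, Ks⁆ = ⊥ := by
    rw [commutator_eq_bot_iff_le_centralizer, le_centralizer_iff]
    exact inf_le_right
  obtain ⟨Q₁, hQ₁, hKsQ₁, hKQ₁⟩ := exists_invariant_isSylowIn_ge hKS hcop (Or.inr hSs) q hKsS hKsp hKKs
  -- `Q₁ ≤ L`
  have hQ₁L : IsSylowIn q Q₁ L := by
    obtain ⟨P, hP⟩ := exists_isSylowIn q L
    have hPS : IsSylowIn q P S := by
      refine ⟨hP.le.trans hLS, hP.isPGroup, ?_⟩
      rw [← relIndex_mul_relIndex P L S hP.le hLS]
      intro h
      rcases (Nat.Prime.dvd_mul hqp.out).mp h with h | h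
      · exact hP.not_dvd h
      · exact (Nat.Prime.coprime_iff_not_dvd hqp.out).mp hLq.symm h
    obtain ⟨s, hs, e⟩ := hPS.conj hQ₁
    have h1 := hP.cj s
    rwa [← e, cj_eq_of_mem_normalizer (hML (hSM hs))] at h1
  have hQ₁M : Q₁ ≤ M := hQ₁.le.trans hSM
  have hcQ₁ : Nat.card Q₁ = q ^ m := card_sylow_of_series hD₀L hD₀q hD₀Lq hQ₁L
  have hLsup : L ≤ D₀ ⊔ Q₁ := by
    apply le_sup_of_coprime_card hD₀L hQ₁L.le
    · rw [hcQ₁]; exact Nat.Coprime.pow_right m hD₀q
    · rw [hcQ₁, card_eq_card_mul_relIndex hD₀L, hD₀Lq]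
  -- conjugates of `Q₁` under `M` are `L`-conjugates
  have hconj : ∀ x ∈ M, ∃ l ∈ L, cj x Q₁ = cj l Q₁ := by
    intro x hx
    have h1 := hQ₁L.cj x
    rw [cj_eq_of_mem_normalizer (hML hx)] at h1
    exact hQ₁L.conj h1
  -- a subgroup of prime order of `K`
  have hKc1 : Nat.card K ≠ 1 := fun h => hK1 (Subgroup.card_eq_one.mp h)
  obtain ⟨p₁, hp₁, hp₁K⟩ := Nat.exists_prime_and_dvd hKc1
  have := Fact.mk hp₁
  obtain ⟨k₁', hk₁'⟩ := exists_prime_orderOf_dvd_card' (G := K) p₁ hp₁K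
  set k₁ : G := (k₁' : G) with hk₁
  have hk₁K : k₁ ∈ K := k₁'.2
  have hk₁o : orderOf k₁ = p₁ := by rw [hk₁, Subgroup.orderOf_coe, hk₁']
  have hk₁1 : k₁ ≠ 1 := by
    intro h0
    rw [h0, orderOf_one] at hk₁o
    exact hp₁.one_lt.ne hk₁o
  set K₁ := zpowers k₁ with hK₁
  have hK₁K : K₁ ≤ K := by rw [hK₁, zpowers_le]; exact hk₁K
  have hcK₁ : Nat.card K₁ = p₁ := by rw [hK₁, Nat.card_zpowers, hk₁o]
  have hCK₁ : S ⊓ centralizer (K₁ : Set G) = Ks := by
    rw [hK₁, centralizer_zpowers_eq, hpa k₁ hk₁K hk₁1]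
  have hqS : q ∣ Nat.card S := hq ▸ card_dvd_of_le hKsS
  have hqp₁ : q ≠ p₁ := by
    intro h
    have h1 : q ∣ Nat.gcd (Nat.card K) (Nat.card S) := Nat.dvd_gcd (h ▸ hp₁K) hqS
    rw [hcop] at h1
    exact hqp.out.one_lt.ne' (Nat.dvd_one.mp h1)
  have hD₀Ks : D₀ ⊓ Ks = ⊥ :=
    (disjoint_of_coprime_natCard (by rw [hq]; exact hD₀q)).eq_bot
  have hHH : ⁅Q₁, K₁⁆ ≤ centralizer (D₀ : Set G) := by
    apply Cfsg.Agent.Lib.Helper3.BG117.comm_centralizes_of_fpf hMs hMo (hD₀S.trans hSM) hQ₁M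
      (hK₁K.trans hKM) (hQ₁M.trans hMD₀) ((hK₁K.trans hKM).trans hMD₀) (by rw [hcK₁]; exact hp₁)
      ?_ hQ₁.isPGroup (by rw [hcK₁]; exact hqp₁) (hK₁K.trans hKQ₁) hD₀q ?_
    · rw [eq_bot_iff, ← hD₀Ks]
      refine le_inf inf_le_left ?_
      rw [← hCK₁]
      exact inf_le_inf_right _ hD₀S
    · exact Nat.Coprime.coprime_dvd_left (card_dvd_of_le hD₀S)
        (Nat.Coprime.coprime_dvd_right (card_dvd_of_le hK₁K) hcop.symm)
  set C₁ := Q₁ ⊓ centralizer (D₀ : Set G) with hC₁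
  have hQ₁sup : Q₁ ≤ C₁ ⊔ Ks := by
    have h1 := commutator_sup_centralizer (A := K₁) (K := Q₁) (hK₁K.trans hKQ₁)
      (Nat.Coprime.coprime_dvd_left (card_dvd_of_le hK₁K)
        (Nat.Coprime.coprime_dvd_right (card_dvd_of_le hQ₁.le) hcop))
      (Or.inr (isSolvable_of_le hQ₁.le hSs))
    rw [← h1]
    refine sup_le_sup (le_inf (commutator_le_of_le_normalizer (hK₁K.trans hKQ₁)) hHH) ?_
    rw [← hCK₁]
    exact inf_le_inf_right _ hQ₁.le
  by_cases hc : Ks ≤ C₁
  · -- `Q₁` centralizes `D₀`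
    have hQ₁C : Q₁ ≤ centralizer (D₀ : Set G) :=
      (hQ₁sup.trans (sup_le le_rfl hc)).trans inf_le_right
    have hLN : L ≤ normalizer (Q₁ : Set G) := by
      refine hLsup.trans (sup_le ?_ le_normalizer)
      exact (le_centralizer_iff.mp hQ₁C).trans (centralizer_le_normalizer' Q₁)
    refine ⟨Q₁, hQ₁, fun x hx => ?_⟩
    obtain ⟨l, hl, e⟩ := hconj x hx
    apply mem_normalizer_of_cj_eq
    rw [e, cj_eq_of_mem_normalizer (hLN hl)]
  · exfalso
    -- `C₁` is normalized by `M`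
    have hLC₁ : L ≤ normalizer (C₁ : Set G) := by
      refine hLsup.trans (sup_le ?_ ?_)
      · have : C₁ ≤ centralizer (D₀ : Set G) := inf_le_right
        exact (le_centralizer_iff.mp this).trans (centralizer_le_normalizer' C₁)
      · exact le_normalizer_inf le_normalizer ((hQ₁M.trans hMD₀).trans
          (Cfsg.Agent.Lib.Helper30.normalizer_le_normalizer_centralizer D₀))
    have hMC₁ : M ≤ normalizer (C₁ : Set G) := by
      intro x hx
      obtain ⟨l, hl, e⟩ := hconj x hx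
      apply mem_normalizer_of_cj_eq
      have hlM : l ∈ M := hSM (hLS hl)
      calc cj x C₁ = cj x Q₁ ⊓ centralizer ((cj x D₀ : Subgroup G) : Set G) := by
            rw [hC₁, cj_inf, centralizer_cj]
        _ = cj l Q₁ ⊓ centralizer ((cj l D₀ : Subgroup G) : Set G) := by
            rw [e, cj_eq_of_mem_normalizer (hMD₀ hx), cj_eq_of_mem_normalizer (hMD₀ hlM)]
        _ = cj l C₁ := by rw [hC₁, cj_inf, centralizer_cj]
        _ = C₁ := cj_eq_of_mem_normalizer (hLC₁ hl)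
    set T := D₀ ⊔ C₁ with hT
    have hMT : M ≤ normalizer (T : Set G) := le_normalizer_sup hMD₀ hMC₁
    have hKsM : Ks ≤ M := hKsS.trans hSM
    have hLT : L ≤ T ⊔ Ks := by
      refine hLsup.trans (sup_le (le_sup_left.trans le_sup_left) (hQ₁sup.trans ?_))
      exact sup_le_sup_right le_sup_right _
    have hKT : ⁅K, T⁆ ≤ T := by
      rw [commutator_comm]; exact commutator_le_of_le_normalizer (hKM.trans hMT)
    have hLK : ⁅L, K⁆ ≤ T := by
      rw [commutator_comm]
      refine (commutator_mono le_rfl hLT).trans ?_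
      exact Cfsg.Agent.Lib.Helper3.BG117.commutator_sup_le hKT (by rw [hKsK]; exact bot_le)
        le_normalizer (hKsM.trans hMT)
    -- the invariant Hall `q'`-subgroup
    obtain ⟨D, hD, hKD⟩ := Cfsg.Agent.Lib.Helper66.exists_invariant_isPiHallOf hKS hcop hSs
      {r | r ≠ q}
    have hDq : (Nat.card D).Coprime q := by
      rw [Nat.coprime_comm, Nat.Prime.coprime_iff_not_dvd hqp.out]
      intro h
      exact hD.2.1 q hqp.out h rfl
    have hDKs : D ⊓ Ks = ⊥ := (disjoint_of_coprime_natCard (by rw [hq]; exact hDq)).eq_bot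
    have hDcomm : ⁅D, K⁆ = D := by
      have h1 := commutator_sup_centralizer (A := K) (K := D) hKD
        (Nat.Coprime.coprime_dvd_right (card_dvd_of_le hD.1) hcop)
        (Or.inr (isSolvable_of_le hD.1 hSs))
      have h2 : D ⊓ centralizer (K : Set G) = ⊥ := by
        rw [eq_bot_iff, ← hDKs]
        exact le_inf inf_le_left (inf_le_inf_right _ hD.1)
      rwa [h2, sup_bot_eq] at h1
    have hDM : D ≤ M := hD.1.trans hSM
    have hDKsT : ⁅D, Ks⁆ ≤ T := by
      have h3 := three_subgroups_rel (H₁ := D) (H₂ := K) (H₃ := Ks) (N := T) (hDM.trans hMT)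
        (hKM.trans hMT) (hKsM.trans hMT) (by rw [hKsK, commutator_bot_left]; exact bot_le)
        (by
          refine (commutator_mono ?_ le_rfl).trans hLK
          exact (commutator_mono (hKsQ₁.trans hQ₁L.le) le_rfl).trans
            (commutator_le_of_le_normalizer (hDM.trans hML)))
      rwa [hDcomm] at h3
    set W := T ⊔ D with hW
    have hKsW : Ks ≤ normalizer (W : Set G) :=
      le_normalizer_sup_of_commutator_le (hKsM.trans hMT) hDKsT
    have hKW : K ≤ normalizer (W : Set G) := le_normalizer_sup (hKM.trans hMT) hKD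
    -- `|S| = |Q₁| |D|`
    have hcS : Nat.card S = Nat.card Q₁ * Nat.card D := by
      have e1 := card_eq_card_mul_relIndex hD.1
      have e2 := card_eq_card_mul_relIndex hQ₁.le
      have h4 : Nat.card D = Q₁.relIndex S := by
        apply Cfsg.Agent.Lib.Helper66.pi_factorization_unique (π := {r | r ≠ q})
          (n₁ := D.relIndex S) (n₂ := Nat.card Q₁)
        · rw [← e1, e2, mul_comm]
        · exact hD.2.1
        · exact hD.2.2
        · intro r hr hrd hrq
          rw [hrq] at hrd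
          exact hQ₁.not_dvd hrd
        · intro r hr hrq hrd
          rw [hcQ₁] at hrd
          exact hrq ((Nat.prime_dvd_prime_iff_eq hr hqp.out).mp (hr.dvd_of_dvd_pow hrd))
      rw [e2, h4]
    have hSsup : S ≤ W ⊔ Ks := by
      have h5 : S ≤ Q₁ ⊔ D := by
        apply le_sup_of_coprime_card hQ₁.le hD.1
        · rw [hcQ₁]; exact (Nat.Coprime.pow_right m hDq).symm
        · rw [hcS]
      refine h5.trans (sup_le (hQ₁sup.trans ?_) (le_sup_right.trans le_sup_left))
      exact sup_le_sup_right (le_sup_right.trans le_sup_left) _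
    have hSW : S ≤ W := by
      rw [← hcomm, commutator_comm]
      refine (commutator_mono le_rfl hSsup).trans ?_
      refine Cfsg.Agent.Lib.Helper3.BG117.commutator_sup_le ?_ (by rw [hKsK]; exact bot_le)
        le_normalizer hKsW
      rw [commutator_comm]; exact commutator_le_of_le_normalizer hKW
    -- orders
    have hd1 : Nat.card W ∣ Nat.card D * Nat.card T := by
      have := Cfsg.Agent.Lib.Helper12.card_sup_mul_card_inf' D T (hDM.trans hMT)
      rw [hW, sup_comm]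
      exact Dvd.intro _ this
    have hd2 : Nat.card T ∣ Nat.card C₁ * Nat.card D₀ := by
      have := Cfsg.Agent.Lib.Helper12.card_sup_mul_card_inf' C₁ D₀
        (((inf_le_left : C₁ ≤ Q₁).trans hQ₁M).trans hMD₀)
      rw [hT, sup_comm]
      exact Dvd.intro _ this
    have hd3 : Nat.card Q₁ ∣ Nat.card D * (Nat.card C₁ * Nat.card D₀) :=
      ((card_dvd_of_le (hQ₁.le.trans hSW)).trans hd1).trans (Nat.mul_dvd_mul_left _ hd2)
    have hd4 : Nat.card Q₁ ∣ Nat.card C₁ := by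
      rw [hcQ₁] at hd3 ⊢
      have h6 := (Nat.Coprime.pow_left m hDq.symm).dvd_of_dvd_mul_left hd3
      exact (Nat.Coprime.pow_left m hD₀q.symm).dvd_of_dvd_mul_right h6
    have hEq : C₁ = Q₁ := Subgroup.eq_of_le_of_card_ge inf_le_left
      (Nat.le_of_dvd Nat.card_pos hd4)
    exact hc (hEq ▸ hKsQ₁)

end Cfsg.Agent.Lib.Helper3.BG152
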