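import Mathlib
import Cfsg.Agent.Lib.Helper3.BG152A
import Cfsg.Agent.Lib.Helper98.FW.Thompson
import Cfsg.Agent.Lib.Helper56.BG152FWQ
import Cfsg.Agent.Lib.Helper56.BG152NIL

set_option autoImplicit false
set_option linter.unusedSectionVars false

/-!
# B-G 15.2, abstract part B
-/

namespace Cfsg.Agent.Lib.Helper3.BG152

open Subgroup Cfsg Cfsg.Agent.Lib.Helper30 Cfsg.Agent.Lib.Helper56.BG152
open scoped commutatorElement

variable {G : Type*} [Group G] [Finite G]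

/-- a normal Sylow subgroup contains every `q`-subgroup. -/
theorem le_of_normal_sylow {q : ℕ} [Fact q.Prime] {Q S X : Subgroup G} (hQ : IsSylowIn q Q S)
    (hSQ : S ≤ normalizer (Q : Set G)) (hXS : X ≤ S) (hX : IsPGroup q X) : X ≤ Q := by
  obtain ⟨P, hP, hXP⟩ := exists_isSylowIn_ge hXS hX
  obtain ⟨s, hs, e⟩ := hQ.conj hP
  rw [cj_eq_of_mem_normalizer (hSQ hs)] at e
  exact e ▸ hXP

/-- `|S| = |Q| |D|` for a Sylow `q`-subgroup and a Hall `q'`-subgroup. -/
theorem card_eq_sylow_mul_hall {q : ℕ} [hqp : Fact q.Prime] {Q D S : Subgroup G}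
    (hQ : IsSylowIn q Q S) (hD : IsPiHallOf {r | r ≠ q} D S) :
    Nat.card S = Nat.card Q * Nat.card D := by
  have e1 := card_eq_card_mul_relIndex hD.1
  have e2 := card_eq_card_mul_relIndex hQ.le
  obtain ⟨n, hn⟩ := IsPGroup.iff_card.mp hQ.isPGroup
  have h4 : Nat.card D = Q.relIndex S := by
    apply Cfsg.Agent.Lib.Helper66.pi_factorization_unique (π := {r | r ≠ q})
      (n₁ := D.relIndex S) (n₂ := Nat.card Q)
    · rw [← e1, e2, mul_comm]
    · exact hD.2.1
    · exact hD.2.2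
    · intro r hr hrd hrq
      rw [hrq] at hrd
      exact hQ.not_dvd hrd
    · intro r hr hrq hrd
      rw [hn] at hrd
      exact hrq ((Nat.prime_dvd_prime_iff_eq hr hqp.out).mp (hr.dvd_of_dvd_pow hrd))
  rw [e2, h4]

theorem hall_coprime {q : ℕ} [hqp : Fact q.Prime] {D S : Subgroup G}
    (hD : IsPiHallOf {r | r ≠ q} D S) : (Nat.card D).Coprime q := by
  rw [Nat.coprime_comm, Nat.Prime.coprime_iff_not_dvd hqp.out]
  intro h
  exact hD.2.1 q hqp.out h rfl

/-- a complement of a Sylow `q`-subgroup is a Hall `q'`-subgroup. -/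
theorem isPiHallOf_of_isComplIn {q : ℕ} [hqp : Fact q.Prime] {Q D S : Subgroup G}
    (hQ : IsSylowIn q Q S) (hD : Cfsg.IsComplIn Q D S) : IsPiHallOf {r | r ≠ q} D S := by
  refine ⟨hD.2.1, ?_, ?_⟩
  · intro r hr hrd hrq
    rw [Cfsg.Agent.Lib.Helper28.BG12.card_compl' hD, hrq] at hrd
    exact hQ.not_dvd hrd
  · intro r hr hrq hrd
    rw [← Cfsg.Agent.Lib.Helper28.BG12.card_compl hD] at hrd
    exact hrq (Cfsg.Agent.Lib.Helper28.BG12.prime_dvd_card_isPGroup hQ.isPGroup hr hrd)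

/-- ABS -/
theorem abs_main {M S K : Subgroup G} {q : ℕ} [hqp : Fact q.Prime]
    (hMs : Group.IsSolvable M) (hMo : Odd (Nat.card M)) (hSM : S ≤ M) (hKM : K ≤ M)
    (hMS : M ≤ normalizer (S : Set G)) (hMSK : M ≤ S ⊔ K)
    (hcop : (Nat.card K).Coprime (Nat.card S)) (hK1 : K ≠ ⊥)
    (hq : Nat.card ↥(S ⊓ centralizer (K : Set G)) = q)
    (hpa : ∀ k ∈ K, k ≠ 1 → S ⊓ centralizer ({k} : Set G) = S ⊓ centralizer (K : Set G))
    (hcomm : ⁅S, K⁆ = S) (hlen : Cfsg.PLengthLE q 1 S) (hnil : ¬ Group.IsNilpotent S) :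
    (Nat.card K).Prime ∧ ¬ Cfsg.HasNormalPComplement q S ∧
    ∃ Q : Subgroup G, IsSylowIn q Q S ∧ M ≤ normalizer (Q : Set G) ∧
      S ⊓ centralizer (K : Set G) ≤ Q ∧
      ∀ D : Subgroup G, Cfsg.IsComplIn Q D S →
          Group.IsNilpotent D ∧ M ≤ normalizer ((Q ⊓ centralizer (D : Set G) : Subgroup G) : Set G) ∧
          Q ⊓ centralizer (D : Set G) < Q ∧
          Nat.card Q = Nat.card ↥(Q ⊓ centralizer (D : Set G)) * q ^ Nat.card K ∧
          (∀ a ∈ Q, ∀ b ∈ Q, a ^ q ∈ Q ⊓ centralizer (D : Set G) ∧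
            a * b * a⁻¹ * b⁻¹ ∈ Q ⊓ centralizer (D : Set G)) ∧
          ∀ N : Subgroup G, Q ⊓ centralizer (D : Set G) < N → N < Q →
            ¬ M ≤ normalizer (N : Set G) := by
  obtain ⟨Q, hQ, hMQ⟩ := exists_normal_sylow hMs hMo hSM hKM hMS hcop hK1 hq hpa hcomm hlen
  set Ks := S ⊓ centralizer (K : Set G) with hKs
  have hKS : K ≤ normalizer (S : Set G) := hKM.trans hMS
  have hSs : Group.IsSolvable S := isSolvable_of_le hSM hMs
  have hKsS : Ks ≤ S := inf_le_left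
  have hKsp : IsPGroup q Ks := IsPGroup.of_card (n := 1) (by rw [hq, pow_one])
  have hKsQ : Ks ≤ Q := le_of_normal_sylow hQ (hSM.trans hMQ) hKsS hKsp
  obtain ⟨n, hn⟩ := IsPGroup.iff_card.mp hQ.isPGroup
  obtain ⟨DK, hDK, hKDK⟩ := Cfsg.Agent.Lib.Helper66.exists_invariant_isPiHallOf hKS hcop hSs
    {r | r ≠ q}
  have hDKq := hall_coprime hDK
  have hDKKs : DK ⊓ Ks = ⊥ := (disjoint_of_coprime_natCard (by rw [hq]; exact hDKq)).eq_bot
  have hfpf : ∀ k ∈ K, k ≠ 1 → ∀ d ∈ DK, k * d = d * k → d = 1 := by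
    intro k hk hk1 d hd hkd
    have h1 : d ∈ S ⊓ centralizer ({k} : Set G) :=
      mem_inf.mpr ⟨hDK.1 hd, mem_centralizer_singleton_iff.mpr hkd.symm⟩
    rw [hpa k hk hk1] at h1
    have h2 : d ∈ DK ⊓ Ks := mem_inf.mpr ⟨hd, h1⟩
    rwa [hDKKs, mem_bot] at h2
  have hDKnil : Group.IsNilpotent DK :=
    Cfsg.Agent.Lib.Helper98.FW.isNilpotent_of_fpf DK K hK1 hKDK hfpf
  have hcS := card_eq_sylow_mul_hall hQ hDK
  have hQDK : (Nat.card Q).Coprime (Nat.card DK) := by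
    rw [hn]; exact (Nat.Coprime.pow_right n hDKq).symm
  have hSsup : S ≤ Q ⊔ DK := le_sup_of_coprime_card hQ.le hDK.1 hQDK (by rw [hcS])
  have hne : ¬ Q ≤ centralizer (DK : Set G) := fun h =>
    hnil (isNilpotent_of_central_product hQ.isPGroup hDKnil hSsup h)
  have hDKM : DK ≤ M := hDK.1.trans hSM
  have hQK : (Nat.card Q).Coprime (Nat.card K) :=
    Nat.Coprime.coprime_dvd_left (card_dvd_of_le hQ.le) hcop.symm
  have hcopQ : (Nat.card Q).Coprime (Nat.card ↥(DK ⊔ K)) := by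
    have h1 := Cfsg.Agent.Lib.Helper12.card_sup_mul_card_inf' K DK hKDK
    have h2 : Nat.card ↥(DK ⊔ K) ∣ Nat.card K * Nat.card DK := by
      rw [sup_comm]; exact Dvd.intro _ h1
    exact Nat.Coprime.coprime_dvd_right h2 (Nat.Coprime.mul_right hQK hQDK)
  have hQKs : Q ⊓ centralizer (K : Set G) = Ks :=
    le_antisymm (inf_le_inf_right _ hQ.le) (le_inf hKsQ inf_le_right)
  obtain ⟨hKprime, hcard, hpow, hmin⟩ := structure_Q hQ.isPGroup (hDKM.trans hMQ) (hKM.trans hMQ)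
    hKDK hK1 hcopQ hfpf (by rw [hQKs]; exact hq)
    (by
      intro k hk hk1
      rw [hQKs]
      apply le_antisymm
      · rw [← hpa k hk hk1]; exact inf_le_inf_right _ hQ.le
      · refine le_inf hKsQ ?_
        rw [← hpa k hk hk1]; exact inf_le_right) hne
  set Q₀ := Q ⊓ centralizer (DK : Set G) with hQ₀
  have hMQ₀ : M ≤ normalizer (Q₀ : Set G) := by
    refine hMSK.trans (sup_le (hSsup.trans (sup_le ?_ ?_)) ?_)
    · intro a ha
      apply Cfsg.Agent.Lib.Helper28.BG12.mem_normalizer_of_cj_le'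
      rintro _ ⟨x, hx, rfl⟩
      change a * x * a⁻¹ ∈ Q₀
      have e : a * x * a⁻¹ = (a * x * a⁻¹ * x⁻¹) * x := by group
      rw [e]
      exact mul_mem (hpow a ha x (inf_le_left (a := Q) hx)).2 hx
    · exact le_normalizer_inf (hDKM.trans hMQ) (le_normalizer.trans
        (Cfsg.Agent.Lib.Helper30.normalizer_le_normalizer_centralizer DK))
    · exact le_normalizer_inf (hKM.trans hMQ) (hKDK.trans
        (Cfsg.Agent.Lib.Helper30.normalizer_le_normalizer_centralizer DK))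
  have hQDKbot : Q ⊓ DK = ⊥ := (disjoint_of_coprime_natCard hQDK).eq_bot
  refine ⟨hKprime, ?_, Q, hQ, hMQ, hKsQ, ?_⟩
  · rintro ⟨P, N, hN, hc⟩
    apply hne
    set N' := N.map S.subtype with hN'
    have hcN : Nat.card N' = Nat.card N := card_map_of_injective S.subtype_injective
    have hidx : N'.relIndex S = N.index := by
      rw [hN', relIndex, subgroupOf, comap_map_eq_self_of_injective S.subtype_injective]
    have hNhall : IsPiHallOf {r | r ≠ q} N' S := by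
      refine ⟨map_subtype_le _, ?_, ?_⟩
      · intro r hr hrd hrq
        rw [hcN, ← hc.index_eq_card, hrq] at hrd
        exact P.not_dvd_index hrd
      · intro r hr hrq hrd
        rw [hidx, hc.symm.index_eq_card] at hrd
        obtain ⟨j, hj⟩ := IsPGroup.iff_card.mp P.2
        rw [hj] at hrd
        exact hrq ((Nat.prime_dvd_prime_iff_eq hr hqp.out).mp (hr.dvd_of_dvd_pow hrd))
    obtain ⟨g, hg, e⟩ := Cfsg.Agent.Lib.Helper66.isPiHallOf_exists_conj hSs hNhall hDK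
    have hSN' : S ≤ normalizer (N' : Set G) := Cfsg.Agent.Lib.Helper28.le_normalizer_map_subtype hN
    rw [cj_eq_of_mem_normalizer (hSN' hg)] at e
    intro c hc'
    exact mem_centralizer_of_mem_normalizer (hDKM.trans hMQ) hQDKbot hc' (e ▸ hSN' (hQ.le hc'))
  · intro D hD
    have hDhall := isPiHallOf_of_isComplIn hQ hD
    obtain ⟨g, hg, e⟩ := Cfsg.Agent.Lib.Helper66.isPiHallOf_exists_conj hSs hDK hDhall
    have hgM : g ∈ M := hSM hg
    have hQ₀D : Q ⊓ centralizer (D : Set G) = Q₀ := by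
      calc Q ⊓ centralizer (D : Set G) = cj g Q ⊓ cj g (centralizer (DK : Set G)) := by
            rw [e, centralizer_cj, cj_eq_of_mem_normalizer (hMQ hgM)]
        _ = cj g Q₀ := by rw [hQ₀, cj_inf]
        _ = Q₀ := cj_eq_of_mem_normalizer (hMQ₀ hgM)
    rw [hQ₀D]
    refine ⟨?_, hMQ₀, ?_, hcard, hpow, ?_⟩
    · rw [e]
      exact (Group.isNilpotent_congr ((MulAut.conj g).subgroupMap DK)).mp hDKnil
    · exact lt_of_le_of_ne inf_le_left (fun h => hne (h ▸ inf_le_right))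
    · intro N h1 h2 h3
      exact hmin N h1 h2 ((sup_le hDKM hKM).trans h3)

end Cfsg.Agent.Lib.Helper3.BG152
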