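import Mathlib
import Cfsg.Agent.Lib.Helper3.BG152B
import Cfsg.Agent.Lib.Helper98.BG152FH1
import Cfsg.Agent.Lib.Helper98.BG152U0
import Cfsg.Agent.S1414
import Cfsg.Agent.S1410

set_option autoImplicit false
set_option linter.unusedSectionVars false

/-!
# B-G 15.2: assembly
-/

namespace Cfsg.Agent.Lib.Helper3.BG152

open Subgroup Cfsg Cfsg.Agent.Lib.Helper30 Cfsg.Agent.Lib.Helper28.BG12
open Cfsg.Agent.Lib.Helper56.BG152 Cfsg.Agent.Lib.Helper98.BG152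

variable {G : Type*} [Group G] [Finite G]

/-- `M_F = M_σ` as soon as `M_σ` is nilpotent. -/
theorem fittingHallOf_eq_of_nilpotent (hG : Cfsg.IsMinSimpleOddOrder G) {M : Subgroup G}
    (hM : IsCoatom M) (h : Group.IsNilpotent (Cfsg.sigmaCore M)) :
    Cfsg.fittingHallOf M = Cfsg.sigmaCore M := by
  have hS := sigmaCore_hall hG hM
  exact le_antisymm (fittingHallOf_le_sigmaCore hG hM)
    (le_fittingHallOf (sigmaCore_le M) (le_normalizer_sigmaCore M) h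
      (Cfsg.Agent.Lib.Helper66.PiNum.coprime hS.2.1 hS.2.2))

/-- `M' ≤ M_σ` when `M = M_σ K` with `K` cyclic. -/
theorem commutator_le_of_cyclic_compl {M S K : Subgroup G} (hMS : M ≤ normalizer (S : Set G))
    (hKM : K ≤ M) (hMSK : M ≤ S ⊔ K) (hK : IsCyclic K) : ⁅M, M⁆ ≤ S := by
  have hKK : ⁅K, K⁆ = ⊥ := by
    rw [commutator_eq_bot_iff_le_centralizer]
    intro a ha
    rw [mem_centralizer_iff]
    intro b hb
    exact congrArg Subtype.val (comm_of_isCyclic hK ⟨b, hb⟩ ⟨a, ha⟩)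
  have h1 : ⁅K, M⁆ ≤ S := by
    refine (commutator_mono le_rfl hMSK).trans ?_
    refine Cfsg.Agent.Lib.Helper3.BG117.commutator_sup_le ?_ (by rw [hKK]; exact bot_le)
      le_normalizer (hKM.trans hMS)
    rw [commutator_comm]; exact commutator_le_of_le_normalizer (hKM.trans hMS)
  refine (commutator_mono le_rfl hMSK).trans ?_
  refine Cfsg.Agent.Lib.Helper3.BG117.commutator_sup_le ?_ (by rw [commutator_comm]; exact h1)
    le_normalizer (hKM.trans hMS)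
  rw [commutator_comm]; exact commutator_le_of_le_normalizer hMS

theorem S1437_of (hG : Cfsg.IsMinSimpleOddOrder G)
    (M : Subgroup G) (hM : IsCoatom M) (K U : Subgroup G) (hKU : Cfsg.IsSigmaDecomposition M K U)
    (hne : Cfsg.fittingHallOf M ≠ Cfsg.sigmaCore M)
    (h29 : ∀ p : ℕ, p.Prime → p ∣ Nat.card M → p ∉ Cfsg.sigma M ∪ Cfsg.kappa M →
      Group.IsNilpotent (Cfsg.sigmaCore M))
    (h30 : K ≠ ⊥ → ∀ k ∈ K, k ≠ 1 → Cfsg.sigmaCore M ⊓ centralizer ({k} : Set G) =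
      Cfsg.sigmaCore M ⊓ centralizer (K : Set G))
    (h26 : ∀ E : Subgroup G, Cfsg.IsComplIn E (Cfsg.sigmaCore M) M →
      ⁅Cfsg.sigmaCore M, E⁆ = Cfsg.sigmaCore M)
    (h73 : K ≠ ⊥ → U = ⊥ → (Nat.card ↥(Cfsg.sigmaCore M ⊓ centralizer (K : Set G))).Prime) :
    U = ⊥ ∧ Cfsg.sigmaCore M = ⁅M, M⁆ ∧ (Nat.card K).Prime ∧ (Nat.card ↥(Cfsg.sigmaCore M ⊓ Subgroup.centralizer (K : Set G))).Prime ∧
      Nat.card ↥(Cfsg.sigmaCore M ⊓ Subgroup.centralizer (K : Set G)) ∣ Nat.card (Cfsg.fittingHallOf M) ∧ Nat.card ↥(Cfsg.sigmaCore M ⊓ Subgroup.centralizer (K : Set G)) ∈ Cfsg.beta M ∧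
      ∃ Q : Subgroup G, Q ≤ Cfsg.fittingHallOf M ∧ M ≤ Subgroup.normalizer (Q : Set G) ∧ IsPGroup (Nat.card ↥(Cfsg.sigmaCore M ⊓ Subgroup.centralizer (K : Set G))) Q ∧
        ¬ Nat.card ↥(Cfsg.sigmaCore M ⊓ Subgroup.centralizer (K : Set G)) ∣ Q.relIndex (Cfsg.sigmaCore M) ∧
        ∀ D : Subgroup G, Cfsg.IsComplIn Q D (Cfsg.sigmaCore M) →
          Group.IsNilpotent D ∧ M ≤ Subgroup.normalizer ((Q ⊓ Subgroup.centralizer (D : Set G) : Subgroup G) : Set G) ∧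
          Q ⊓ Subgroup.centralizer (D : Set G) < Q ∧
          Nat.card Q = Nat.card ↥(Q ⊓ Subgroup.centralizer (D : Set G)) * Nat.card ↥(Cfsg.sigmaCore M ⊓ Subgroup.centralizer (K : Set G)) ^ Nat.card K ∧
          (∀ a ∈ Q, ∀ b ∈ Q, a ^ Nat.card ↥(Cfsg.sigmaCore M ⊓ Subgroup.centralizer (K : Set G)) ∈ Q ⊓ Subgroup.centralizer (D : Set G) ∧
            a * b * a⁻¹ * b⁻¹ ∈ Q ⊓ Subgroup.centralizer (D : Set G)) ∧
          ∀ N : Subgroup G, Q ⊓ Subgroup.centralizer (D : Set G) < N → N < Q → ¬ M ≤ Subgroup.normalizer (N : Set G) := by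
  have hS := sigmaCore_hall hG hM
  have hnil : ¬ Group.IsNilpotent (Cfsg.sigmaCore M) := fun h =>
    hne (fittingHallOf_eq_of_nilpotent hG hM h)
  have hall : ∀ p : ℕ, p.Prime → p ∣ Nat.card M → p ∈ Cfsg.sigma M ∪ Cfsg.kappa M := by
    intro p hp hpM
    by_contra h
    exact hnil (h29 p hp hpM h)
  obtain ⟨hU, hK1, hKc, hcop⟩ := decomposition_of_all hG hM hKU hall
  have hqprime := h73 hK1 hU
  have := Fact.mk hqprime
  have hMs : Group.IsSolvable M := solvable_of_ne_top hG hM.1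
  have hMo : Odd (Nat.card M) := Odd.of_dvd_nat hG.1 (Subgroup.card_subgroup_dvd_card _)
  have hMSK : M ≤ Cfsg.sigmaCore M ⊔ K := by
    intro m hm
    obtain ⟨a, ha, b, hb, rfl⟩ := hKc.2.2.2 m hm
    exact mul_mem (le_sup_right (a := Cfsg.sigmaCore M) ha) (le_sup_left (b := K) hb)
  have hStop : Cfsg.sigmaCore M ≠ ⊤ := fun h => hM.1 (top_le_iff.mp (h ▸ sigmaCore_le M))
  obtain ⟨hKprime, hnc, Q, hQ, hMQ, hKsQ, hD⟩ := abs_main hMs hMo (sigmaCore_le M) hKc.1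
    (le_normalizer_sigmaCore M) hMSK hcop hK1 rfl (h30 hK1) (h26 K hKc)
    (Cfsg.Agent.S1410.result hG _ (Cfsg.sigmaCore M) hStop) hnil
  have hqS : Nat.card ↥(Cfsg.sigmaCore M ⊓ centralizer (K : Set G)) ∣ Nat.card (Cfsg.sigmaCore M) :=
    card_dvd_of_le inf_le_left
  have hqM : Nat.card ↥(Cfsg.sigmaCore M ⊓ centralizer (K : Set G)) ∣ Nat.card M :=
    hqS.trans (card_dvd_of_le (sigmaCore_le M))
  have hQF : Q ≤ Cfsg.fittingHallOf M := by
    apply le_fittingHallOf (hQ.le.trans (sigmaCore_le M)) hMQ hQ.isPGroup.isNilpotent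
    obtain ⟨n, hn⟩ := IsPGroup.iff_card.mp hQ.isPGroup
    rw [hn]
    apply Nat.Coprime.pow_left
    rw [Nat.Prime.coprime_iff_not_dvd hqprime,
      ← relIndex_mul_relIndex Q _ M hQ.le (sigmaCore_le M)]
    intro h
    rcases (Nat.Prime.dvd_mul hqprime).mp h with h | h
    · exact hQ.not_dvd h
    · exact hS.2.2 _ hqprime (hS.2.1 _ hqprime hqS) h
  refine ⟨hU, ?_, hKprime, hqprime, (card_dvd_of_le (hKsQ.trans hQF)), ?_, Q, hQF, hMQ,
    hQ.isPGroup, hQ.not_dvd, hD⟩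
  · apply le_antisymm
    · rw [← h26 K hKc]
      exact commutator_mono (sigmaCore_le M) hKc.1
    · exact commutator_le_of_cyclic_compl (le_normalizer_sigmaCore M) hKc.1 hMSK hKU.cyclic
  · by_contra h
    exact hnc ((Cfsg.Agent.S1414.result hG M hM).2.2.2.2 _ hqprime hqM h).2.1

end Cfsg.Agent.Lib.Helper3.BG152
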