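import Mathlib
import Cfsg.Agent.Lib.Helper3.ClassTwo
import Cfsg.Agent.Lib.Helper3.PGroup

set_option autoImplicit false

namespace Cfsg.Agent.Lib.Helper3

open scoped commutatorElement

section

variable {P : Type*} [Group P]

/-- For a group with central derived subgroup, `g ↦ ⁅x, g⁆` is a homomorphism to the centre. -/
def commHom (hc : commutator P ≤ Subgroup.center P) (x : P) : P →* Subgroup.center P where
  toFun g := ⟨⁅x, g⁆, hc (Subgroup.commutator_mem_commutator (Subgroup.mem_top x) (Subgroup.mem_top g))⟩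
  map_one' := Subtype.ext (commutatorElement_one_right x)
  map_mul' g h := by
    apply Subtype.ext
    have hz : ⁅x, h⁆ ∈ Subgroup.center P :=
      hc (Subgroup.commutator_mem_commutator (Subgroup.mem_top x) (Subgroup.mem_top h))
    show ⁅x, g * h⁆ = ⁅x, g⁆ * ⁅x, h⁆
    rw [commutatorElement_mul_right_eq_mul_conj, mul_assoc ⁅x, g⁆ g,
      Subgroup.mem_center_iff.mp hz g, mul_assoc, mul_assoc, mul_inv_cancel, mul_one]

@[simp] theorem commHom_apply (hc : commutator P ≤ Subgroup.center P) (x g : P) :
    ((commHom hc x g : Subgroup.center P) : P) = ⁅x, g⁆ := rfl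

theorem mem_ker_commHom (hc : commutator P ≤ Subgroup.center P) (x g : P) :
    g ∈ (commHom hc x).ker ↔ Commute x g := by
  rw [MonoidHom.mem_ker, ← commutatorElement_eq_one_iff_commute]
  constructor
  · intro h; exact congrArg Subtype.val h
  · intro h; exact Subtype.ext h

/-- the pair of commutator maps -/
def commHom₂ (hc : commutator P ≤ Subgroup.center P) (x y : P) :
    P →* Subgroup.center P × Subgroup.center P :=
  (commHom hc x).prod (commHom hc y)

theorem mem_ker_commHom₂ (hc : commutator P ≤ Subgroup.center P) (x y g : P) :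
    g ∈ (commHom₂ hc x y).ker ↔ Commute x g ∧ Commute y g := by
  rw [commHom₂, MonoidHom.ker_prod, Subgroup.mem_inf, mem_ker_commHom, mem_ker_commHom]

variable {p : ℕ} [Fact p.Prime]

theorem commHom₂_exists (hc : commutator P ≤ Subgroup.center P)
    (hZ : Nat.card (Subgroup.center P) = p) (x y : P) (hxy : ¬ Commute x y)
    (t : Subgroup.center P × Subgroup.center P) :
    ∃ i k : ℤ, commHom₂ hc x y (y ^ i * x ^ k) = t := by
  have hc1 : commHom hc x y ≠ 1 := by
    intro h
    exact hxy ((mem_ker_commHom hc x y).mp h)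
  obtain ⟨i, hi⟩ := mem_zpowers_of_prime_card (g' := t.1) hZ hc1
  obtain ⟨k, hk⟩ := mem_zpowers_of_prime_card (g' := t.2) hZ hc1
  have hxx : commHom hc x x = 1 := (mem_ker_commHom hc x x).mpr (Commute.refl x)
  have hyy : commHom hc y y = 1 := (mem_ker_commHom hc y y).mpr (Commute.refl y)
  have hyx : commHom hc y x = (commHom hc x y)⁻¹ := by
    apply Subtype.ext
    show ⁅y, x⁆ = ⁅x, y⁆⁻¹
    rw [commutatorElement_inv]
  refine ⟨i, -k, ?_⟩
  apply Prod.ext
  · show commHom hc x (y ^ i * x ^ (-k)) = t.1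
    rw [map_mul, map_zpow, map_zpow, hxx, one_zpow, mul_one]
    exact hi
  · show commHom hc y (y ^ i * x ^ (-k)) = t.2
    rw [map_mul, map_zpow, map_zpow, hyy, one_zpow, one_mul, hyx, inv_zpow, zpow_neg, inv_inv]
    exact hk

theorem commHom₂_surjective (hc : commutator P ≤ Subgroup.center P)
    (hZ : Nat.card (Subgroup.center P) = p) (x y : P) (hxy : ¬ Commute x y) :
    Function.Surjective (commHom₂ hc x y) := by
  intro t
  obtain ⟨i, k, h⟩ := commHom₂_exists hc hZ x y hxy t
  exact ⟨_, h⟩

theorem card_eq_sq_mul_card_ker (hc : commutator P ≤ Subgroup.center P)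
    (hZ : Nat.card (Subgroup.center P) = p) (x y : P) (hxy : ¬ Commute x y) :
    Nat.card P = p ^ 2 * Nat.card (commHom₂ hc x y).ker := by
  have h1 := (commHom₂ hc x y).ker.card_mul_index
  rw [Subgroup.index_ker, MonoidHom.range_eq_top.mpr (commHom₂_surjective hc hZ x y hxy),
    Subgroup.card_top, Nat.card_prod, hZ] at h1
  rw [← h1]; ring

/-- every element is `y ^ i * x ^ k * q` with `q` in the kernel -/
theorem exists_decomp (hc : commutator P ≤ Subgroup.center P)
    (hZ : Nat.card (Subgroup.center P) = p) (x y : P) (hxy : ¬ Commute x y) (g : P) :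
    ∃ (i k : ℤ), ∃ q ∈ (commHom₂ hc x y).ker, g = y ^ i * x ^ k * q := by
  obtain ⟨i, k, h⟩ := commHom₂_exists hc hZ x y hxy (commHom₂ hc x y g)
  refine ⟨i, k, (y ^ i * x ^ k)⁻¹ * g, ?_, by group⟩
  rw [MonoidHom.mem_ker, map_mul, map_inv, h, inv_mul_cancel]

theorem center_le_ker (hc : commutator P ≤ Subgroup.center P) (x y : P) :
    Subgroup.center P ≤ (commHom₂ hc x y).ker := by
  intro z hz
  rw [mem_ker_commHom₂]
  exact ⟨Subgroup.mem_center_iff.mp hz x, Subgroup.mem_center_iff.mp hz y⟩

theorem mem_center_ker_iff (hc : commutator P ≤ Subgroup.center P)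
    (hZ : Nat.card (Subgroup.center P) = p) (x y : P) (hxy : ¬ Commute x y)
    (w : (commHom₂ hc x y).ker) :
    w ∈ Subgroup.center (commHom₂ hc x y).ker ↔ (w : P) ∈ Subgroup.center P := by
  constructor
  · intro hw
    rw [Subgroup.mem_center_iff]
    intro g
    obtain ⟨i, k, q, hq, rfl⟩ := exists_decomp hc hZ x y hxy g
    have hw2 := (mem_ker_commHom₂ hc x y w).mp w.2
    have h1 : Commute (y ^ i) (w : P) := hw2.2.zpow_left i
    have h2 : Commute (x ^ k) (w : P) := hw2.1.zpow_left k
    have h3 : Commute q (w : P) :=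
      congrArg Subtype.val (Subgroup.mem_center_iff.mp hw ⟨q, hq⟩)
    exact ((h1.mul_left h2).mul_left h3).eq
  · intro hw
    rw [Subgroup.mem_center_iff]
    intro g
    exact Subtype.ext (Subgroup.mem_center_iff.mp hw g)

theorem card_center_ker (hc : commutator P ≤ Subgroup.center P)
    (hZ : Nat.card (Subgroup.center P) = p) (x y : P) (hxy : ¬ Commute x y) :
    Nat.card (Subgroup.center (commHom₂ hc x y).ker) = p := by
  rw [← hZ]
  refine Nat.card_congr ⟨fun w => ⟨w.1.1, (mem_center_ker_iff hc hZ x y hxy w.1).mp w.2⟩,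
    fun z => ⟨⟨z.1, center_le_ker hc x y z.2⟩,
      (mem_center_ker_iff hc hZ x y hxy _).mpr z.2⟩, fun w => rfl, fun z => rfl⟩

theorem commutator_ker_le_center (hc : commutator P ≤ Subgroup.center P)
    (hZ : Nat.card (Subgroup.center P) = p) (x y : P) (hxy : ¬ Commute x y) :
    commutator (commHom₂ hc x y).ker ≤ Subgroup.center (commHom₂ hc x y).ker := by
  rw [commutator_def, Subgroup.commutator_le]
  intro a _ b _
  rw [mem_center_ker_iff hc hZ x y hxy]
  exact hc (Subgroup.commutator_mem_commutator (Subgroup.mem_top (a : P)) (Subgroup.mem_top (b : P)))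

end

universe u

/-- A finite group with centre of order `p` and central derived subgroup has order `p ^ (2 n + 1)`. -/
theorem card_eq_odd_pow_aux {p : ℕ} [Fact p.Prime] (m : ℕ) :
    ∀ (P : Type u) [Group P] [Finite P], Nat.card P = m →
      Nat.card (Subgroup.center P) = p → commutator P ≤ Subgroup.center P →
      ∃ n : ℕ, Nat.card P = p ^ (2 * n + 1) := by
  induction m using Nat.strong_induction_on with
  | _ m ih =>
  intro P _ _ hm hZ hc
  by_cases hab : ∀ x y : P, Commute x y
  · refine ⟨0, ?_⟩
    have : Subgroup.center P = ⊤ := by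
      rw [eq_top_iff]
      intro x _
      rw [Subgroup.mem_center_iff]
      intro g
      exact (hab g x).eq
    rw [this, Subgroup.card_top] at hZ
    simpa using hZ
  · push Not at hab
    obtain ⟨x, y, hxy⟩ := hab
    have hcard := card_eq_sq_mul_card_ker hc hZ x y hxy
    have hpr : p.Prime := Fact.out
    have hlt : Nat.card (commHom₂ hc x y).ker < m := by
      rw [← hm, hcard]
      have hpos : 0 < Nat.card (commHom₂ hc x y).ker := Nat.card_pos
      have : 1 < p ^ 2 := Nat.one_lt_pow (by norm_num) hpr.one_lt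
      nlinarith
    obtain ⟨n, hn⟩ := ih _ hlt (commHom₂ hc x y).ker rfl (card_center_ker hc hZ x y hxy)
      (commutator_ker_le_center hc hZ x y hxy)
    refine ⟨n + 1, ?_⟩
    rw [hcard, hn]; ring

end Cfsg.Agent.Lib.Helper3
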