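import Mathlib
import Cfsg.Agent.Lib.Helper3.Coprime

set_option autoImplicit false

namespace Cfsg.Agent.Lib.Helper3

/-- the subgroup of fixed points of an automorphism -/
def fixSub {G : Type*} [Group G] (a : MulAut G) : Subgroup G where
  carrier := {x | a x = x}
  one_mem' := map_one a
  mul_mem' := by
    intro x y hx hy
    show a (x * y) = x * y
    rw [map_mul, hx, hy]
  inv_mem' := by
    intro x hx
    show a x⁻¹ = x⁻¹
    rw [map_inv, hx]

theorem mem_fixSub {G : Type*} [Group G] (a : MulAut G) (x : G) : x ∈ fixSub a ↔ a x = x := Iff.rfl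

/-- orbit counting for an automorphism of prime order on an invariant finite subgroup -/
theorem card_modEq_card_inf_fixSub {G : Type*} [Group G] (a : MulAut G) {q : ℕ} [Fact q.Prime]
    (haq : a ^ q = 1) (K : Subgroup G) [Finite K] (h1 : ∀ x ∈ K, a x ∈ K)
    (h2 : ∀ x ∈ K, a.symm x ∈ K) :
    Nat.card K ≡ Nat.card (K ⊓ fixSub a : Subgroup G) [MOD q] := by
  set b := restrictAut a K h1 h2 with hb
  have hbq : b ^ q = 1 := by
    ext x
    rw [restrictAut_pow_apply, haq]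
    rfl
  have hP : IsPGroup q (Subgroup.zpowers b) := by
    by_cases h : b = 1
    · apply IsPGroup.of_card (n := 0)
      rw [Nat.card_zpowers, h, orderOf_one, pow_zero]
    · apply IsPGroup.of_card (n := 1)
      rw [Nat.card_zpowers, pow_one]
      exact orderOf_eq_prime hbq h
  have h3 := hP.card_modEq_card_fixedPoints K
  have h4 : Nat.card (MulAction.fixedPoints (Subgroup.zpowers b) K) =
      Nat.card (K ⊓ fixSub a : Subgroup G) := by
    refine Nat.card_congr ⟨fun x => ⟨x.1.1, x.1.2, ?_⟩, fun y => ⟨⟨y.1, y.2.1⟩, ?_⟩,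
      fun x => rfl, fun y => rfl⟩
    · have h5 := x.2 ⟨b, Subgroup.mem_zpowers b⟩
      exact congrArg Subtype.val h5
    · rintro ⟨g, k, rfl⟩
      have h5 : b ⟨y.1, y.2.1⟩ = ⟨y.1, y.2.1⟩ := Subtype.ext y.2.2
      have h6 : ∀ k : ℤ, (b ^ k) ⟨y.1, y.2.1⟩ = ⟨y.1, y.2.1⟩ := by
        intro k
        have h7 : b ∈ MulAction.stabilizer (MulAut K) (⟨y.1, y.2.1⟩ : K) := h5
        exact Subgroup.zpow_mem _ h7 k
      exact h6 k
  rw [h4] at h3
  exact h3

/-- number-theoretic consequence -/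
theorem dvd_sq_sub_one_of_aut {G : Type*} [Group G] (a : MulAut G) {p q : ℕ} [Fact p.Prime]
    [Fact q.Prime] (hqp : q ≠ p)
    (haq : a ^ q = 1) (K : Subgroup G) [Finite K] (hK : IsPGroup p K) (h1 : ∀ x ∈ K, a x ∈ K)
    (h2 : ∀ x ∈ K, a.symm x ∈ K) (hne : ¬ K ≤ fixSub a)
    (hcard : Nat.card K ≤ p ^ 2 * Nat.card (K ⊓ fixSub a : Subgroup G)) : q ∣ p ^ 2 - 1 := by
  have hpp : p.Prime := Fact.out
  have hqq : q.Prime := Fact.out
  have hmod := card_modEq_card_inf_fixSub a haq K h1 h2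
  obtain ⟨k, hk⟩ := hK.exists_card_eq
  have hfin : Finite (K ⊓ fixSub a : Subgroup G) :=
    Finite.of_injective (Subgroup.inclusion (inf_le_left : K ⊓ fixSub a ≤ K))
      (Subgroup.inclusion_injective _)
  obtain ⟨j, hj⟩ := (hK.to_le (inf_le_left : K ⊓ fixSub a ≤ K)).exists_card_eq
  have hjk : j < k := by
    by_contra hge
    push Not at hge
    apply hne
    have h3 : Nat.card K ≤ Nat.card (K ⊓ fixSub a : Subgroup G) := by
      rw [hk, hj]; exact Nat.pow_le_pow_right hpp.pos hge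
    have h4 := Subgroup.eq_of_le_of_card_ge (inf_le_left : K ⊓ fixSub a ≤ K) h3
    exact h4 ▸ inf_le_right
  have hk2 : k ≤ j + 2 := by
    rw [hk, hj, ← pow_add] at hcard
    have := (Nat.pow_le_pow_iff_right hpp.one_lt).mp hcard
    omega
  rw [hk, hj] at hmod
  have hle : p ^ j ≤ p ^ k := Nat.pow_le_pow_right hpp.pos hjk.le
  have hdvd : q ∣ p ^ k - p ^ j := (Nat.modEq_iff_dvd' hle).mp hmod.symm
  obtain ⟨d, rfl⟩ := Nat.exists_eq_add_of_lt hjk
  have h5 : p ^ (j + d + 1) - p ^ j = p ^ j * (p ^ (d + 1) - 1) := by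
    rw [Nat.mul_sub, mul_one, ← pow_add, add_assoc]
  rw [h5] at hdvd
  have h6 : q ∣ p ^ (d + 1) - 1 := by
    rcases (Nat.Prime.dvd_mul hqq).mp hdvd with h | h
    · exact absurd ((Nat.prime_dvd_prime_iff_eq hqq hpp).mp (hqq.dvd_of_dvd_pow h)) hqp
    · exact h
  have hd : d = 0 ∨ d = 1 := by omega
  rcases hd with rfl | rfl
  · have h7 : p ^ 2 - 1 = (p ^ (0 + 1) - 1) * (p + 1) := by
      have h8 : 1 ≤ p := hpp.pos
      obtain ⟨m, rfl⟩ := Nat.exists_eq_add_of_le h8
      simp only [zero_add, pow_one, Nat.add_sub_cancel_left]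
      have : (1 + m) ^ 2 = m * (1 + m + 1) + 1 := by ring
      rw [this, Nat.add_sub_cancel]
    rw [h7]
    exact Dvd.dvd.mul_right h6 _
  · exact h6

end Cfsg.Agent.Lib.Helper3
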