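import Mathlib
import Cfsg.Prelude.Def_PLocal
import Cfsg.Agent.Lib.Helper3.RankTwo

set_option autoImplicit false

universe u

namespace Cfsg.Agent.Lib.Helper3

open scoped commutatorElement

/-- class three, `p > 3`, all `p`-th powers central: the `p`-power map is multiplicative. -/
theorem mul_pow_prime_class_three_of_pow_central {G : Type*} [Group G] {p : ℕ} (hp : p.Prime)
    (hp3 : 3 < p) (h3 : ⁅⁅commutator G, (⊤ : Subgroup G)⁆, (⊤ : Subgroup G)⁆ = ⊥)
    (hcen : ∀ g : G, g ^ p ∈ Subgroup.center G) (x y : G) : (x * y) ^ p = x ^ p * y ^ p := by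
  have hc : ⁅y⁻¹, x⁻¹⁆⁻¹ ∈ commutator G := Subgroup.inv_mem _
    (Subgroup.commutator_mem_commutator (Subgroup.mem_top _) (Subgroup.mem_top _))
  set c := ⁅y⁻¹, x⁻¹⁆ with hcdef
  set d := ⁅c⁻¹, x⁻¹⁆ with hddef
  set f := ⁅c⁻¹, y⁻¹⁆ with hfdef
  have hyx : y * x = x * y * c := mul_eq_mul_mul_commutator x y
  have hcx : c * x = x * c * d := mul_eq_mul_mul_commutator x c
  have hcy : c * y = y * c * f := mul_eq_mul_mul_commutator y c
  have hd : d ∈ Subgroup.center G := commutator_mem_center_of_class_three h3 hc _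
  have hf : f ∈ Subgroup.center G := commutator_mem_center_of_class_three h3 hc _
  have hdp : d ^ p = 1 := by
    have := mul_pow_comm_of_central hcx (Subgroup.mem_center_iff.mp hd x).symm p
    rw [Subgroup.mem_center_iff.mp (hcen x) c] at this
    exact mul_eq_left.mp this.symm
  have hfp : f ^ p = 1 := by
    have := mul_pow_comm_of_central hcy (Subgroup.mem_center_iff.mp hf y).symm p
    rw [Subgroup.mem_center_iff.mp (hcen y) c] at this
    exact mul_eq_left.mp this.symm
  obtain ⟨k2, hk2⟩ := hp.dvd_choose_self (by norm_num : (2 : ℕ) ≠ 0) (by omega : 2 < p)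
  obtain ⟨k3, hk3⟩ := hp.dvd_choose_self (by norm_num : (3 : ℕ) ≠ 0) hp3
  have hcp : c ^ p = 1 := by
    have := mul_pow_comm_class_three hyx hcx hd p
    rw [Subgroup.mem_center_iff.mp (hcen x) y, hk2, pow_mul, hdp, one_pow, mul_one] at this
    exact mul_eq_left.mp this.symm
  rw [mul_pow_class_three_aux hyx hcx hcy hd hf, hk2, hk3, pow_mul, hcp, pow_mul, hdp,
    ← mul_assoc 2, mul_comm 2 p, mul_assoc p, ← mul_add, pow_mul, hfp]
  simp

theorem card_omegaOne_top_congr {G H : Type*} [Group G] [Group H] (p : ℕ) (e : G ≃* H) :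
    Nat.card (Cfsg.omegaOne p (⊤ : Subgroup G)) = Nat.card (Cfsg.omegaOne p (⊤ : Subgroup H)) := by
  have h1 : (Cfsg.omegaOne p (⊤ : Subgroup G)).map e.toMonoidHom =
      Cfsg.omegaOne p (⊤ : Subgroup H) := by
    show (Subgroup.closure {x : G | x ∈ (⊤ : Subgroup G) ∧ x ^ p = 1}).map e.toMonoidHom =
      Subgroup.closure {x : H | x ∈ (⊤ : Subgroup H) ∧ x ^ p = 1}
    rw [MonoidHom.map_closure]
    congr 1
    ext y
    constructor
    · rintro ⟨x, ⟨_, hx⟩, rfl⟩
      refine ⟨Subgroup.mem_top _, ?_⟩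
      show (e x) ^ p = 1
      rw [← map_pow, hx, map_one]
    · rintro ⟨_, hy⟩
      refine ⟨e.symm y, ⟨Subgroup.mem_top _, ?_⟩, e.apply_symm_apply y⟩
      rw [← map_pow, hy, map_one]
  rw [← h1]
  exact (Subgroup.card_map_of_injective e.injective).symm

/-- a subgroup of exponent `p` and order `> p ^ 2` contains one of order `p ^ 3` -/
theorem exists_le_card_cube {Q : Type*} [Group Q] [Finite Q] {p : ℕ} [Fact p.Prime]
    (hQ : IsPGroup p Q) (X : Subgroup Q) (hX : p ^ 2 < Nat.card X) :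
    ∃ U : Subgroup Q, U ≤ X ∧ Nat.card U = p ^ 3 := by
  have hpp : p.Prime := Fact.out
  obtain ⟨k, hk⟩ := (hQ.to_subgroup X).exists_card_eq
  have hk3 : 3 ≤ k := by
    rw [hk] at hX
    have := (Nat.pow_lt_pow_iff_right hpp.one_lt).mp hX
    omega
  obtain ⟨K, hK⟩ := Sylow.exists_subgroup_card_pow_prime (G := X) p (n := 3)
    (by rw [hk]; exact pow_dvd_pow p hk3)
  refine ⟨K.map X.subtype, ?_, ?_⟩
  · rintro _ ⟨y, _, rfl⟩
    exact y.2
  · rw [Subgroup.card_map_of_injective X.subtype_injective, hK]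

/-- the one-step case of the quotient statement -/
theorem card_omegaOne_quotient_step {R : Type u} [Group R] [Finite R] {p : ℕ} [Fact p.Prime]
    (hp : 3 < p) (hR : IsPGroup p R)
    (hO : Nat.card (Cfsg.omegaOne p (⊤ : Subgroup R)) ≤ p ^ 2)
    (z : R) (hz : z ∈ Subgroup.center R) (hzo : orderOf z = p)
    [(Subgroup.zpowers z).Normal] :
    Nat.card (Cfsg.omegaOne p (⊤ : Subgroup (R ⧸ Subgroup.zpowers z))) ≤ p ^ 2 := by
  have hpp : p.Prime := Fact.out
  set T := Subgroup.zpowers z with hT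
  have hTcard : Nat.card T = p := by rw [hT, Nat.card_zpowers, hzo]
  have hTc : T ≤ Subgroup.center R := Subgroup.zpowers_le.mpr hz
  have hQ : IsPGroup p (R ⧸ T) := hR.to_quotient T
  by_contra hlt
  push Not at hlt
  -- a subgroup of exponent `p` and order `> p ^ 2` in the quotient
  have hX : ∃ X : Subgroup (R ⧸ T), (∀ x ∈ X, x ^ p = 1) ∧ p ^ 2 < Nat.card X := by
    by_cases hrk : ∀ E : Subgroup (R ⧸ T), (∀ a ∈ E, ∀ b ∈ E, a * b = b * a) →
        (∀ a ∈ E, a ^ p = 1) → Nat.card E ≤ p ^ 2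
    · refine ⟨Cfsg.omegaOne p (⊤ : Subgroup (R ⧸ T)), ?_, hlt⟩
      intro x hx
      change x ∈ Subgroup.closure {x : R ⧸ T | x ∈ (⊤ : Subgroup (R ⧸ T)) ∧ x ^ p = 1} at hx
      induction hx using Subgroup.closure_induction with
      | mem x hx => exact hx.2
      | one => exact one_pow _
      | mul x y _ _ hx hy =>
        exact rank_two_mul_aux hp (Nat.card (R ⧸ T)) (R ⧸ T) le_rfl hQ hrk x y hx hy
      | inv x _ hx => rw [inv_pow, hx, inv_one]
    · push Not at hrk
      obtain ⟨E, _, hEe, hEcard⟩ := hrk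
      exact ⟨E, hEe, hEcard⟩
  obtain ⟨X, hXe, hXcard⟩ := hX
  obtain ⟨Ub, hUX, hUbcard⟩ := exists_le_card_cube hQ X hXcard
  set U := Ub.comap (QuotientGroup.mk' T) with hU
  have hUcard : Nat.card U = p ^ 4 := by
    rw [hU, card_comap_mk', hUbcard, hTcard]; ring
  have hUp : ∀ u ∈ U, u ^ p ∈ T := by
    intro u hu
    apply (QuotientGroup.eq_one_iff _).mp
    have := hXe _ (hUX (Subgroup.mem_comap.mp hu))
    exact this
  have h3 := class_three_of_card_le (hR.to_subgroup U) hUcard.le
  have hcen : ∀ g : U, g ^ p ∈ Subgroup.center U := by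
    intro g
    rw [Subgroup.mem_center_iff]
    intro h
    apply Subtype.ext
    have := Subgroup.mem_center_iff.mp (hTc (hUp g g.2)) (h : R)
    simpa using this
  let φ : U →* U := MonoidHom.mk' (fun u => u ^ p)
    (mul_pow_prime_class_three_of_pow_central hpp hp h3 hcen)
  have hrange : Nat.card φ.range ≤ p := by
    have h1 : φ.range.map U.subtype ≤ T := by
      rintro _ ⟨_, ⟨u, rfl⟩, rfl⟩
      exact hUp u u.2
    rw [← Subgroup.card_map_of_injective U.subtype_injective, ← hTcard]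
    exact Subgroup.card_le_of_le h1
  have hker : Nat.card φ.ker ≤ p ^ 2 := by
    have h1 : φ.ker.map U.subtype ≤ Cfsg.omegaOne p (⊤ : Subgroup R) := by
      rintro _ ⟨u, hu, rfl⟩
      apply Subgroup.subset_closure
      refine ⟨Subgroup.mem_top _, ?_⟩
      have : u ^ p = 1 := MonoidHom.mem_ker.mp hu
      simpa using congrArg Subtype.val this
    rw [← Subgroup.card_map_of_injective U.subtype_injective]
    exact (Subgroup.card_le_of_le h1).trans hO
  have h4 : Nat.card U = Nat.card φ.ker * Nat.card φ.range := by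
    rw [← Subgroup.index_ker, Subgroup.card_mul_index]
  have h5 : p ^ 4 ≤ p ^ 2 * p := by
    rw [← hUcard, h4]
    exact Nat.mul_le_mul hker hrange
  have h6 : p ^ 3 < p ^ 4 := Nat.pow_lt_pow_right hpp.one_lt (by norm_num)
  have h7 : p ^ 2 * p = p ^ 3 := by ring
  omega

theorem card_omegaOne_quotient_aux {p : ℕ} [Fact p.Prime] (hp : 3 < p) (n : ℕ) :
    ∀ (R : Type u) [Group R] [Finite R], IsPGroup p R →
    Nat.card (Cfsg.omegaOne p (⊤ : Subgroup R)) ≤ p ^ 2 →
    ∀ (T : Subgroup R) [T.Normal], Nat.card T ≤ n →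
    Nat.card (Cfsg.omegaOne p (⊤ : Subgroup (R ⧸ T))) ≤ p ^ 2 := by
  induction n with
  | zero =>
    intro R _ _ _ _ T _ hT
    exact absurd hT (by have := Nat.card_pos (α := T); omega)
  | succ n ih =>
    intro R _ _ hR hO T _ hT
    have hpp : p.Prime := Fact.out
    by_cases hT0 : T = ⊥
    · subst hT0
      rw [card_omegaOne_top_congr p QuotientGroup.quotientBot]
      exact hO
    obtain ⟨z, hzT, hzc, hzo⟩ := exists_central_order_p hR T hT0
    have hZn : (Subgroup.zpowers z).Normal :=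
      normal_of_le_center' (Subgroup.zpowers_le.mpr hzc)
    have hle : Subgroup.zpowers z ≤ T := Subgroup.zpowers_le.mpr hzT
    have h1 := card_omegaOne_quotient_step hp hR hO z hzc hzo
    have hT1n : (T.map (QuotientGroup.mk' (Subgroup.zpowers z))).Normal :=
      Subgroup.Normal.map inferInstance _ (QuotientGroup.mk'_surjective _)
    have hcard : Nat.card (T.map (QuotientGroup.mk' (Subgroup.zpowers z))) ≤ n := by
      have h2 := card_comap_mk' (Subgroup.zpowers z)
        (T.map (QuotientGroup.mk' (Subgroup.zpowers z)))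
      rw [Subgroup.comap_map_eq_self (by rw [QuotientGroup.ker_mk']; exact hle),
        Nat.card_zpowers, hzo] at h2
      have h3 : 0 < Nat.card (T.map (QuotientGroup.mk' (Subgroup.zpowers z))) := Nat.card_pos
      have h4 := hpp.two_le
      nlinarith
    have h5 := ih (R ⧸ Subgroup.zpowers z) (hR.to_quotient _) h1
      (T.map (QuotientGroup.mk' (Subgroup.zpowers z))) hcard
    rw [← card_omegaOne_top_congr p
      (QuotientGroup.quotientQuotientEquivQuotient (Subgroup.zpowers z) T hle)]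
    exact h5

end Cfsg.Agent.Lib.Helper3
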