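import Mathlib
import Cfsg.Prelude.Def_PLocal
import Cfsg.Prelude.Def_OddOrderLocal
import Cfsg.Agent.Lib.Helper3.OmegaQuotient
import Cfsg.Agent.Lib.Helper3.Frattini

set_option autoImplicit false

universe u

namespace Cfsg.Agent.Lib.Helper3

open scoped commutatorElement

/-- if `N ⊔ ⟨t⟩ = ⊤` then `G ⧸ N` is cyclic -/
theorem isCyclic_quotient_of_sup_zpowers {G : Type*} [Group G] (N : Subgroup G) [N.Normal] (t : G)
    (h : N ⊔ Subgroup.zpowers t = ⊤) : IsCyclic (G ⧸ N) := by
  rw [isCyclic_iff_exists_zpowers_eq_top]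
  refine ⟨QuotientGroup.mk' N t, ?_⟩
  rw [eq_top_iff]
  intro q _
  obtain ⟨g, rfl⟩ := QuotientGroup.mk'_surjective N q
  have hg : g ∈ N ⊔ Subgroup.zpowers t := h ▸ Subgroup.mem_top g
  obtain ⟨n, hn, y, ⟨k, rfl⟩, rfl⟩ := Subgroup.mem_sup_of_normal_left.mp hg
  rw [Subgroup.mem_zpowers_iff]
  refine ⟨k, ?_⟩
  have h1 : QuotientGroup.mk' N n = 1 := (QuotientGroup.eq_one_iff n).mpr hn
  show _ = QuotientGroup.mk' N (n * t ^ k)
  rw [map_mul, h1, one_mul, map_zpow]

theorem normal_of_commutator_le {G : Type*} [Group G] (N : Subgroup G) (h : commutator G ≤ N) :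
    N.Normal := by
  constructor
  intro n hn g
  have h1 : g * n * g⁻¹ = ⁅g, n⁆ * n := by rw [commutatorElement_def]; group
  rw [h1]
  exact N.mul_mem (h (Subgroup.commutator_mem_commutator (Subgroup.mem_top _) (Subgroup.mem_top _)))
    hn

theorem card_mul_le_of_lt {R : Type*} [Group R] [Finite R] {p : ℕ} [Fact p.Prime]
    (hR : IsPGroup p R) {H K : Subgroup R} (hlt : H < K) : p * Nat.card H ≤ Nat.card K := by
  have hpp : p.Prime := Fact.out
  obtain ⟨a, ha⟩ := (hR.to_subgroup H).exists_card_eq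
  obtain ⟨b, hb⟩ := (hR.to_subgroup K).exists_card_eq
  have hab : a < b := by
    by_contra hge
    push Not at hge
    have h1 : Nat.card K ≤ Nat.card H := by
      rw [ha, hb]; exact Nat.pow_le_pow_right hpp.pos hge
    exact hlt.ne (Subgroup.eq_of_le_of_card_ge hlt.le h1)
  rw [ha, hb, ← pow_succ']
  exact Nat.pow_le_pow_right hpp.pos hab

/-- The class two case of Huppert's criterion. -/
theorem metacyclic_of_commutator_le_zpowers {R : Type*} [Group R] [Finite R] {p : ℕ}
    [Fact p.Prime] (hp2 : p ≠ 2) (hR : IsPGroup p R)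
    (hO : Nat.card (Cfsg.omegaOne p (⊤ : Subgroup R)) ≤ p ^ 2)
    (z : R) (hz : z ∈ Subgroup.center R) (hzp : z ^ p = 1)
    (hcomm : commutator R ≤ Subgroup.zpowers z) : Cfsg.IsMetacyclic R := by
  have hpp : p.Prime := Fact.out
  have hZc : Subgroup.zpowers z ≤ Subgroup.center R := Subgroup.zpowers_le.mpr hz
  have h2 : ⁅commutator R, (⊤ : Subgroup R)⁆ = ⊥ :=
    class_two_of_commutator_le_center (hcomm.trans hZc)
  have hcp : ∀ a b : R, ⁅a, b⁆ ^ p = 1 := by
    intro a b
    obtain ⟨k, hk⟩ := hcomm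
      (Subgroup.commutator_mem_commutator (Subgroup.mem_top a) (Subgroup.mem_top b))
    rw [← hk]
    show (z ^ k) ^ p = 1
    rw [← zpow_natCast, ← zpow_mul, mul_comm, zpow_mul, zpow_natCast, hzp, one_zpow]
  let π : R →* R := MonoidHom.mk' (fun x => x ^ p)
    (fun x y => mul_pow_prime_class_two hpp hp2 h2 x y (hcp _ _))
  have hπ : ∀ x, π x = x ^ p := fun x => rfl
  have hker : Nat.card π.ker ≤ p ^ 2 := by
    refine le_trans (Subgroup.card_le_of_le ?_) hO
    intro x hx
    exact Subgroup.subset_closure ⟨Subgroup.mem_top _, MonoidHom.mem_ker.mp hx⟩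
  have hcardR : Nat.card R = Nat.card π.ker * Nat.card π.range := by
    rw [← Subgroup.index_ker, Subgroup.card_mul_index]
  have hPF : π.range ≤ frattini R := by
    rintro _ ⟨x, rfl⟩
    exact pow_p_mem_frattini hR x
  -- a cyclic subgroup containing the commutator subgroup, of maximal order
  obtain ⟨c, hc, hcmax⟩ := Set.exists_max_image {c : R | commutator R ≤ Subgroup.zpowers c}
    orderOf (Set.toFinite _) ⟨z, hcomm⟩
  have hNn : (Subgroup.zpowers c).Normal := normal_of_commutator_le _ hc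
  by_cases hc1 : c = 1
  · -- then `R` is trivial
    have hall : ∀ b : R, b = 1 := by
      intro b
      have h3 : commutator R ≤ Subgroup.zpowers b := by
        have : commutator R ≤ Subgroup.zpowers c := hc
        rw [hc1, Subgroup.zpowers_one_eq_bot] at this
        exact this.trans bot_le
      have h4 := hcmax b h3
      rw [hc1, orderOf_one] at h4
      have h5 : 0 < orderOf b := orderOf_pos b
      exact orderOf_eq_one_iff.mp (by omega)
    have hsub : Subsingleton R := ⟨fun a b => by rw [hall a, hall b]⟩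
    exact ⟨⊥, inferInstance, inferInstance, inferInstance⟩
  have hcP : c ∉ π.range := by
    rintro ⟨e, he⟩
    rw [hπ] at he
    have h3 : commutator R ≤ Subgroup.zpowers e := by
      refine le_trans hc ?_
      rw [Subgroup.zpowers_le, ← he]
      exact Subgroup.pow_mem _ (Subgroup.mem_zpowers e) p
    have h4 := hcmax e h3
    obtain ⟨k, hk⟩ := (IsPGroup.iff_orderOf.mp hR) e
    have hk0 : k ≠ 0 := by
      intro h0
      rw [h0, pow_zero, orderOf_eq_one_iff] at hk
      rw [hk, one_pow] at he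
      exact hc1 he.symm
    obtain ⟨k', rfl⟩ := Nat.exists_eq_succ_of_ne_zero hk0
    have h5 : orderOf c = p ^ k' := by
      rw [← he, orderOf_pow' e hpp.ne_zero, hk,
        Nat.gcd_eq_right (dvd_pow_self p (Nat.succ_ne_zero k')), Nat.succ_eq_add_one, pow_succ,
        Nat.mul_div_cancel _ hpp.pos]
    rw [h5, hk] at h4
    have := (Nat.pow_le_pow_iff_right hpp.one_lt).mp h4
    omega
  -- find `t`
  have hlt1 : π.range < Subgroup.zpowers c ⊔ π.range := by
    refine lt_of_le_of_ne le_sup_right ?_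
    intro h
    apply hcP
    rw [h]
    exact Subgroup.mem_sup_left (Subgroup.mem_zpowers c)
  have hex : ∃ t : R, (Subgroup.zpowers c ⊔ Subgroup.zpowers t) ⊔ π.range = ⊤ := by
    by_cases hK : Subgroup.zpowers c ⊔ π.range = ⊤
    · refine ⟨1, ?_⟩
      rw [Subgroup.zpowers_one_eq_bot, sup_bot_eq]
      exact hK
    · obtain ⟨t, ht⟩ : ∃ t, t ∉ Subgroup.zpowers c ⊔ π.range := by
        by_contra hcon
        push Not at hcon
        exact hK (eq_top_iff.mpr fun x _ => hcon x)
      refine ⟨t, ?_⟩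
      have hlt2 : Subgroup.zpowers c ⊔ π.range <
          (Subgroup.zpowers c ⊔ Subgroup.zpowers t) ⊔ π.range := by
        refine lt_of_le_of_ne (sup_le_sup_right le_sup_left _) ?_
        intro h
        apply ht
        rw [h]
        exact Subgroup.mem_sup_left (Subgroup.mem_sup_right (Subgroup.mem_zpowers t))
      have h3 := card_mul_le_of_lt hR hlt1
      have h4 := card_mul_le_of_lt hR hlt2
      apply Subgroup.eq_top_of_le_card
      calc Nat.card R = Nat.card π.ker * Nat.card π.range := hcardR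
        _ ≤ p ^ 2 * Nat.card π.range := Nat.mul_le_mul_right _ hker
        _ = p * (p * Nat.card π.range) := by ring
        _ ≤ p * Nat.card (Subgroup.zpowers c ⊔ π.range : Subgroup R) := Nat.mul_le_mul_left _ h3
        _ ≤ _ := h4
  obtain ⟨t, ht⟩ := hex
  have htop : Subgroup.zpowers c ⊔ Subgroup.zpowers t = ⊤ := by
    apply frattini_nongenerating
    rw [eq_top_iff, ← ht]
    exact sup_le_sup_left hPF _
  exact ⟨Subgroup.zpowers c, hNn, inferInstance, isCyclic_quotient_of_sup_zpowers _ t htop⟩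

/-- if `S` is abelian normal and `R = S ⟨t⟩` then every element of `R'` is `[x, t]`, `x ∈ S`. -/
theorem commutator_eq_of_abelian_normal_sup_zpowers {R : Type*} [Group R] (S : Subgroup R)
    [hSn : S.Normal] (hS : ∀ a ∈ S, ∀ b ∈ S, a * b = b * a) (t : R)
    (htop : S ⊔ Subgroup.zpowers t = ⊤) :
    ∃ θ : S →* R, (∀ a : S, θ a = ⁅(a : R), t⁆) ∧ commutator R ≤ θ.range := by
  have hmem : ∀ a ∈ S, ⁅a, t⁆ ∈ S := by
    intro a ha
    rw [commutatorElement_def, mul_assoc, mul_assoc]
    apply S.mul_mem ha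
    rw [← mul_assoc]
    exact hSn.conj_mem _ (S.inv_mem ha) t
  let θ : S →* R :=
    { toFun := fun a => ⁅(a : R), t⁆
      map_one' := commutatorElement_one_left t
      map_mul' := by
        intro a b
        show ⁅(a : R) * (b : R), t⁆ = ⁅(a : R), t⁆ * ⁅(b : R), t⁆
        rw [commutatorElement_mul_left_eq_conj_mul, hS _ a.2 _ (hmem b b.2),
          mul_assoc ⁅(b : R), t⁆, mul_inv_cancel, mul_one]
        exact hS _ (hmem b b.2) _ (hmem a a.2) }
  have hθ : ∀ a : S, θ a = ⁅(a : R), t⁆ := fun a => rfl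
  refine ⟨θ, hθ, ?_⟩
  have hDS : θ.range ≤ S := by
    rintro _ ⟨a, rfl⟩
    exact hmem a a.2
  have hnorm : S ⊔ Subgroup.zpowers t ≤ Subgroup.normalizer (θ.range : Set R) := by
    apply sup_le
    · intro s hs
      rw [Subgroup.mem_normalizer_iff]
      intro d
      constructor
      · intro hd
        rw [hS s hs d (hDS hd), mul_assoc, mul_inv_cancel, mul_one]
        exact hd
      · intro hd
        have h1 : s * d * s⁻¹ ∈ S := hDS hd
        have h2 : d ∈ S := by
          have : d = s⁻¹ * (s * d * s⁻¹) * s := by group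
          rw [this]
          exact S.mul_mem (S.mul_mem (S.inv_mem hs) h1) hs
        rw [hS s hs d h2, mul_assoc, mul_inv_cancel, mul_one] at hd
        exact hd
    · rw [Subgroup.zpowers_le, Subgroup.mem_normalizer_iff]
      intro d
      constructor
      · rintro ⟨a, rfl⟩
        refine ⟨⟨t * a * t⁻¹, hSn.conj_mem _ a.2 t⟩, ?_⟩
        rw [hθ, hθ]
        simp only [commutatorElement_def]
        group
      · rintro ⟨a, ha⟩
        refine ⟨⟨t⁻¹ * a * t⁻¹⁻¹, hSn.conj_mem _ a.2 t⁻¹⟩, ?_⟩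
        rw [hθ]
        rw [hθ] at ha
        have : d = t⁻¹ * (t * d * t⁻¹) * t := by group
        rw [this, ← ha]
        simp only [commutatorElement_def]
        group
  have hDn : θ.range.Normal := by
    rw [← Subgroup.normalizer_eq_top_iff, eq_top_iff, ← htop]
    exact hnorm
  rw [← Subgroup.Normal.quotient_commutative_iff_commutator_le]
  refine ⟨⟨fun q q' => ?_⟩⟩
  obtain ⟨g, rfl⟩ := QuotientGroup.mk'_surjective θ.range q
  obtain ⟨g', rfl⟩ := QuotientGroup.mk'_surjective θ.range q'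
  have hg : g ∈ S ⊔ Subgroup.zpowers t := htop ▸ Subgroup.mem_top g
  have hg' : g' ∈ S ⊔ Subgroup.zpowers t := htop ▸ Subgroup.mem_top g'
  obtain ⟨s, hs, _, ⟨k, rfl⟩, rfl⟩ := Subgroup.mem_sup_of_normal_left.mp hg
  obtain ⟨s', hs', _, ⟨k', rfl⟩, rfl⟩ := Subgroup.mem_sup_of_normal_left.mp hg'
  have hst : ∀ a ∈ S, Commute (QuotientGroup.mk' θ.range a) (QuotientGroup.mk' θ.range t) := by
    intro a ha
    have h1 : QuotientGroup.mk' θ.range ⁅a, t⁆ = 1 :=
      (QuotientGroup.eq_one_iff _).mpr ⟨⟨a, ha⟩, rfl⟩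
    rw [map_commutatorElement, commutatorElement_eq_one_iff_mul_comm] at h1
    exact h1
  have hss : Commute (QuotientGroup.mk' θ.range s) (QuotientGroup.mk' θ.range s') := by
    show _ * _ = _ * _
    rw [← map_mul, ← map_mul, hS s hs s' hs']
  show QuotientGroup.mk' θ.range (s * t ^ k) * QuotientGroup.mk' θ.range (s' * t ^ k') =
    QuotientGroup.mk' θ.range (s' * t ^ k') * QuotientGroup.mk' θ.range (s * t ^ k)
  simp only [map_mul, map_zpow]
  have h1 := (hst s hs).zpow_right k'
  have h2 := (hst s' hs').zpow_right k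
  have h3 : Commute (QuotientGroup.mk' θ.range t ^ k) (QuotientGroup.mk' θ.range t ^ k') :=
    (Commute.refl _).zpow_zpow k k'
  exact ((hss.mul_right h1).mul_left (h2.symm.mul_right h3))

/-- **Huppert's criterion**, `p > 3`. -/
theorem metacyclic_aux {p : ℕ} [Fact p.Prime] (hp : 3 < p) (n : ℕ) :
    ∀ (R : Type u) [Group R] [Finite R], Nat.card R ≤ n → IsPGroup p R →
    Nat.card (Cfsg.omegaOne p (⊤ : Subgroup R)) ≤ p ^ 2 → Cfsg.IsMetacyclic R := by
  induction n with
  | zero =>
    intro R _ _ hk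
    exact absurd hk (by have := Nat.card_pos (α := R); omega)
  | succ n ih =>
    intro R _ _ hn hR hO
    have hpp : p.Prime := Fact.out
    have hp2 : p ≠ 2 := by omega
    by_cases hc0 : commutator R = ⊥
    · exact metacyclic_of_commutator_le_zpowers hp2 hR hO 1 (Subgroup.one_mem _) (one_pow _)
        (by rw [hc0]; exact bot_le)
    obtain ⟨z, hzR', hzc, hzo⟩ := exists_central_order_p hR (commutator R) hc0
    have hzp : z ^ p = 1 := by rw [← hzo]; exact pow_orderOf_eq_one z
    have hZn : (Subgroup.zpowers z).Normal :=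
      normal_of_le_center' (Subgroup.zpowers_le.mpr hzc)
    have hO1 := card_omegaOne_quotient_step hp hR hO z hzc hzo
    have hcardQ : Nat.card (R ⧸ Subgroup.zpowers z) ≤ n := by
      have h1 := Subgroup.card_eq_card_quotient_mul_card_subgroup (Subgroup.zpowers z)
      rw [Nat.card_zpowers, hzo] at h1
      have h2 : 0 < Nat.card (R ⧸ Subgroup.zpowers z) := Nat.card_pos
      have h3 := hpp.two_le
      nlinarith
    obtain ⟨Nb, hNbn, hNbc, hQc⟩ := ih (R ⧸ Subgroup.zpowers z) hcardQ (hR.to_quotient _) hO1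
    obtain ⟨⟨cb, hcbN⟩, hcb⟩ := hNbc.exists_generator
    obtain ⟨c, rfl⟩ := QuotientGroup.mk'_surjective _ cb
    obtain ⟨qb, hqb⟩ := hQc.exists_generator
    obtain ⟨tb, rfl⟩ := QuotientGroup.mk'_surjective _ qb
    obtain ⟨t, rfl⟩ := QuotientGroup.mk'_surjective _ tb
    set S := Nb.comap (QuotientGroup.mk' (Subgroup.zpowers z)) with hS
    have hSn : S.Normal := hNbn.comap _
    -- elements of `S`
    have hform : ∀ x ∈ S, ∃ a b : ℤ, x = c ^ a * z ^ b := by
      intro x hx
      obtain ⟨a, ha⟩ := Subgroup.mem_zpowers_iff.mp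
        (hcb ⟨QuotientGroup.mk' (Subgroup.zpowers z) x, hx⟩)
      have ha' : (QuotientGroup.mk' (Subgroup.zpowers z) c) ^ a =
          QuotientGroup.mk' (Subgroup.zpowers z) x := by
        simpa using congrArg Subtype.val ha
      have h1 : (c ^ a)⁻¹ * x ∈ Subgroup.zpowers z := by
        apply (QuotientGroup.eq_one_iff _).mp
        have : QuotientGroup.mk' (Subgroup.zpowers z) ((c ^ a)⁻¹ * x) = 1 := by
          rw [map_mul, map_inv, map_zpow, ha', inv_mul_cancel]
        exact this
      obtain ⟨b, hb⟩ := Subgroup.mem_zpowers_iff.mp h1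
      exact ⟨a, b, by rw [hb]; group⟩
    have hcS : c ∈ S := hcbN
    have hzS : z ∈ S := by
      rw [hS, Subgroup.mem_comap]
      have h1 : QuotientGroup.mk' (Subgroup.zpowers z) z = 1 :=
        (QuotientGroup.eq_one_iff _).mpr (Subgroup.mem_zpowers z)
      rw [h1]
      exact Subgroup.one_mem _
    have hzcomm : ∀ g : R, Commute z g := fun g => (Subgroup.mem_center_iff.mp hzc g).symm
    have hSc : ∀ a ∈ S, ∀ b ∈ S, a * b = b * a := by
      intro x hx y hy
      obtain ⟨a, b, rfl⟩ := hform x hx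
      obtain ⟨a', b', rfl⟩ := hform y hy
      have h1 : Commute (c ^ a) (c ^ a') := (Commute.refl c).zpow_zpow a a'
      have h2 : Commute (c ^ a) (z ^ b') := ((hzcomm (c ^ a)).zpow_left b').symm
      have h3 : Commute (z ^ b) (c ^ a') := (hzcomm (c ^ a')).zpow_left b
      have h4 : Commute (z ^ b) (z ^ b') := (Commute.refl z).zpow_zpow b b'
      exact ((h1.mul_right h2).mul_left (h3.mul_right h4))
    have htop : S ⊔ Subgroup.zpowers t = ⊤ := by
      rw [eq_top_iff]
      intro g _
      obtain ⟨k, hk⟩ := Subgroup.mem_zpowers_iff.mp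
        (hqb (QuotientGroup.mk' Nb (QuotientGroup.mk' (Subgroup.zpowers z) g)))
      have h1 : g * (t ^ k)⁻¹ ∈ S := by
        rw [hS, Subgroup.mem_comap]
        apply (QuotientGroup.eq_one_iff _).mp
        have : QuotientGroup.mk' Nb (QuotientGroup.mk' (Subgroup.zpowers z) (g * (t ^ k)⁻¹)) = 1 := by
          rw [map_mul, map_mul, map_inv, map_inv, map_zpow, map_zpow, hk, mul_inv_cancel]
        exact this
      have h2 : g = g * (t ^ k)⁻¹ * t ^ k := by group
      rw [h2]
      exact Subgroup.mul_mem_sup h1 (Subgroup.zpow_mem _ (Subgroup.mem_zpowers t) k)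
    have hRS : IsCyclic (R ⧸ S) := isCyclic_quotient_of_sup_zpowers S t htop
    by_cases hzc' : z ∈ Subgroup.zpowers c
    · have hSeq : S = Subgroup.zpowers c := by
        apply le_antisymm
        · intro x hx
          obtain ⟨a, b, rfl⟩ := hform x hx
          exact Subgroup.mul_mem _ (Subgroup.zpow_mem _ (Subgroup.mem_zpowers c) a)
            (Subgroup.zpow_mem _ hzc' b)
        · exact Subgroup.zpowers_le.mpr hcS
      have hScyc : IsCyclic S := by rw [hSeq]; infer_instance
      exact ⟨S, hSn, hScyc, hRS⟩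
    -- otherwise the commutator subgroup has order `p`
    apply metacyclic_of_commutator_le_zpowers hp2 hR hO z hzc hzp
    obtain ⟨θ, hθ, hle⟩ := commutator_eq_of_abelian_normal_sup_zpowers S hSc t htop
    have hθz : θ ⟨z, hzS⟩ = 1 := by
      rw [hθ, commutatorElement_eq_one_iff_mul_comm]
      exact hzcomm t
    have hθform : ∀ x : S, ∃ a : ℤ, θ x = (θ ⟨c, hcS⟩) ^ a := by
      intro x
      obtain ⟨a, b, hab⟩ := hform x x.2
      refine ⟨a, ?_⟩
      have : x = (⟨c, hcS⟩ : S) ^ a * (⟨z, hzS⟩ : S) ^ b := Subtype.ext (by simpa using hab)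
      rw [this, map_mul, map_zpow, map_zpow, hθz, one_zpow, mul_one]
    set w := θ ⟨c, hcS⟩ with hw
    have hwS : w ∈ S := by
      rw [hw, hθ, commutatorElement_def, mul_assoc, mul_assoc]
      apply S.mul_mem hcS
      rw [← mul_assoc]
      exact hSn.conj_mem _ (S.inv_mem hcS) t
    obtain ⟨i, j, hij⟩ := hform w hwS
    obtain ⟨x, hx⟩ := hle hzR'
    obtain ⟨a, ha⟩ := hθform x
    -- `z = w ^ a = c ^ (i a) z ^ (j a)`
    have h1 : z = (c ^ i) ^ a * (z ^ j) ^ a := by
      rw [← ((hzcomm (c ^ i)).zpow_left j).symm.mul_zpow, ← hij, ← ha, hx]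
    have h2 : (c ^ i) ^ a = z ^ (1 - j * a) := by
      rw [zpow_sub, zpow_one, zpow_mul]
      exact eq_mul_inv_of_mul_eq h1.symm
    -- `⟨c⟩ ∩ ⟨z⟩ = 1`
    have h3 : z ^ (1 - j * a) = 1 := by
      by_contra hne
      apply hzc'
      have h4 : z ^ (1 - j * a) ∈ Subgroup.zpowers c := by
        rw [← h2]
        exact Subgroup.zpow_mem _ (Subgroup.zpow_mem _ (Subgroup.mem_zpowers c) i) a
      have h5 : ¬ (p : ℤ) ∣ (1 - j * a) := by
        intro hdvd
        rw [← hzo] at hdvd
        exact hne (orderOf_dvd_iff_zpow_eq_one.mp hdvd)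
      have h6 : IsCoprime (1 - j * a) (p : ℤ) :=
        ((Nat.prime_iff_prime_int.mp hpp).coprime_iff_not_dvd.mpr h5).symm
      obtain ⟨u, v, huv⟩ := h6
      have h7 : z = (z ^ (1 - j * a)) ^ u := by
        have e1 : z ^ (v * (p : ℤ)) = 1 := by
          rw [mul_comm, zpow_mul, zpow_natCast, hzp, one_zpow]
        calc z = z ^ (u * (1 - j * a) + v * (p : ℤ)) := by rw [huv, zpow_one]
          _ = z ^ (u * (1 - j * a)) := by rw [zpow_add, e1, mul_one]
          _ = (z ^ (1 - j * a)) ^ u := by rw [mul_comm, zpow_mul]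
      rw [h7]
      exact Subgroup.zpow_mem _ h4 u
    have h8 : (p : ℤ) ∣ 1 - j * a := by
      rw [← hzo]
      exact orderOf_dvd_iff_zpow_eq_one.mpr h3
    have h9 : ¬ (p : ℤ) ∣ a := by
      intro hdvd
      have h10 : (p : ℤ) ∣ 1 := by
        have := dvd_add h8 (Dvd.dvd.mul_left hdvd j)
        simpa using this
      have h11 := Int.natCast_dvd_natCast.mp (by simpa using h10 : (p : ℤ) ∣ ((1 : ℕ) : ℤ))
      exact hpp.one_lt.ne' (Nat.dvd_one.mp h11)
    have h12 : c ^ i = 1 := by
      have h13 : (c ^ i) ^ a = 1 := by rw [h2, h3]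
      have h14 := orderOf_dvd_iff_zpow_eq_one.mpr h13
      obtain ⟨m, hm⟩ := (IsPGroup.iff_orderOf.mp hR) (c ^ i)
      rcases Nat.eq_zero_or_pos m with hm0 | hm0
      · rw [hm0, pow_zero] at hm
        exact orderOf_eq_one_iff.mp hm
      · exfalso
        apply h9
        refine dvd_trans ?_ h14
        rw [hm]
        exact_mod_cast dvd_pow_self p hm0.ne'
    intro g hg
    obtain ⟨x', rfl⟩ := hle hg
    obtain ⟨a', ha'⟩ := hθform x'
    rw [ha', hij, h12, one_mul]
    exact Subgroup.zpow_mem _ (Subgroup.zpow_mem _ (Subgroup.mem_zpowers z) j) a'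

end Cfsg.Agent.Lib.Helper3
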