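import Cfsg.Agent.Lib.Helper3.RankTwoStruct
import Cfsg.Agent.Lib.Helper1.Cores
import Cfsg.Agent.Lib.Helper1.Coprime2
import Cfsg.Agent.S0044

set_option autoImplicit false

namespace Cfsg.Agent.Lib.Helper3

open Cfsg.Agent.Lib.Helper1
open scoped commutatorElement

variable {G : Type*} [Group G]

/-- if `y ∈ N M`, `M` normal, and the order of `y` is prime to `|N|`, then `y ∈ M`. -/
theorem mem_of_mem_sup_of_coprime (N M : Subgroup G) [M.Normal] {y : G} (hy : y ∈ N ⊔ M)
    (hc : (orderOf y).Coprime (Nat.card N)) : y ∈ M := by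
  rw [← QuotientGroup.eq_one_iff]
  have h1 : (QuotientGroup.mk' M) y ∈ (N ⊔ M).map (QuotientGroup.mk' M) :=
    Subgroup.mem_map_of_mem _ hy
  rw [Subgroup.map_sup, QuotientGroup.map_mk'_self, sup_bot_eq] at h1
  have h2 : orderOf (QuotientGroup.mk' M y) ∣ Nat.card N :=
    (Subgroup.orderOf_dvd_natCard _ h1).trans (Subgroup.card_map_dvd _ _)
  have h3 : orderOf (QuotientGroup.mk' M y) ∣ orderOf y := orderOf_map_dvd _ _
  exact orderOf_eq_one_iff.1 (Nat.Coprime.eq_one_of_dvd (Nat.Coprime.coprime_dvd_left h3 hc) h2)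

/-- the join of the `O_p(G)`, `p ≠ q`. -/
def fitCompl (q : ℕ) (G : Type*) [Group G] : Subgroup G :=
  ⨆ p : {p : Nat.Primes // (p : ℕ) ≠ q}, Cfsg.pCore ((p : Nat.Primes) : ℕ) G

instance fitCompl_normal (q : ℕ) : (fitCompl q G).Normal := by
  have : ∀ p : {p : Nat.Primes // (p : ℕ) ≠ q}, (Cfsg.pCore ((p : Nat.Primes) : ℕ) G).Normal :=
    fun p => pCore_normal _ G
  exact Subgroup.iSup_normal _

theorem pCore_le_fitCompl {p q : ℕ} (hp : p.Prime) (hpq : p ≠ q) :
    Cfsg.pCore p G ≤ fitCompl q G :=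
  le_iSup (fun p : {p : Nat.Primes // (p : ℕ) ≠ q} => Cfsg.pCore ((p : Nat.Primes) : ℕ) G)
    ⟨⟨p, hp⟩, hpq⟩

theorem card_fitCompl_coprime [Finite G] (q : ℕ) [Fact q.Prime] :
    (Nat.card (fitCompl q G)).Coprime q := by
  have h1 : fitCompl q G ≤ Cfsg.pPrimeCore q G := by
    apply iSup_le
    rintro ⟨p, hpq⟩
    have := Fact.mk p.2
    apply le_pPrimeCore (pCore_normal _ G)
    obtain ⟨k, hk⟩ := (pCore_isPGroup (p : ℕ) G).exists_card_eq
    rw [hk]
    exact Nat.Coprime.pow_left _ ((Nat.coprime_primes p.2 Fact.out).2 hpq)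
  exact Nat.Coprime.coprime_dvd_left (Subgroup.card_dvd_of_le h1) (pPrimeCore_coprime q G)

theorem fitting_le_sup [Finite G] (q : ℕ) :
    Cfsg.fittingSubgroup G ≤ Cfsg.pCore q G ⊔ fitCompl q G := by
  rw [fitting_eq_iSup_pCore]
  apply iSup_le
  intro p
  by_cases hpq : (p : ℕ) = q
  · rw [hpq]; exact le_sup_left
  · exact (pCore_le_fitCompl p.2 hpq).trans le_sup_right

theorem mem_fitCompl_of_mem_fitting [Finite G] {q : ℕ} [Fact q.Prime] {y : G}
    (hy : y ∈ Cfsg.fittingSubgroup G) (hc : (orderOf y).Coprime q) : y ∈ fitCompl q G := by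
  apply mem_of_mem_sup_of_coprime _ _ (fitting_le_sup q hy)
  obtain ⟨k, hk⟩ := (pCore_isPGroup q G).exists_card_eq
  rw [hk]
  exact Nat.Coprime.pow_right _ hc

theorem mem_pCore_of_mem_fitting [Finite G] {q : ℕ} [Fact q.Prime] {y : G}
    (hy : y ∈ Cfsg.fittingSubgroup G) {k : ℕ} (hk : y ^ q ^ k = 1) : y ∈ Cfsg.pCore q G := by
  have := pCore_normal q G
  have h1 := fitting_le_sup q hy
  rw [sup_comm] at h1
  apply mem_of_mem_sup_of_coprime _ _ h1
  exact Nat.Coprime.coprime_dvd_left (orderOf_dvd_of_pow_eq_one hk)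
    (Nat.Coprime.pow_left _ (card_fitCompl_coprime q).symm)

theorem pCore_le_centralizer_pCore {p q : ℕ} [Fact p.Prime] [Fact q.Prime] (hpq : p ≠ q) :
    Cfsg.pCore p G ≤ Subgroup.centralizer (Cfsg.pCore q G : Set G) := by
  intro x hx
  rw [Subgroup.mem_centralizer_iff]
  intro y hy
  exact Subgroup.commute_of_normal_of_disjoint _ _ (pCore_normal _ G) (pCore_normal _ G)
      (IsPGroup.disjoint_of_ne _ _ hpq.symm _ _ (pCore_isPGroup _ G)
        (pCore_isPGroup _ G)) y x hy hx

/-- A normal subgroup `K` all of whose `p'`-elements centralize `O_p(G)` (all `p`) lies in `F(G)`,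
provided `C_G(F(G)) ≤ F(G)`. -/
theorem le_fitting_of_coprime_centralizes [Finite G] (K : Subgroup G) [K.Normal]
    (hCF : Subgroup.centralizer (Cfsg.fittingSubgroup G : Set G) ≤ Cfsg.fittingSubgroup G)
    (hF1 : ∀ (p : ℕ) [Fact p.Prime], ∀ h ∈ K, (orderOf h).Coprime p →
      h ∈ Subgroup.centralizer (Cfsg.pCore p G : Set G)) :
    K ≤ Cfsg.fittingSubgroup G := by
  -- prime power elements
  have key : ∀ (q : ℕ) [Fact q.Prime], K ⊓ Subgroup.centralizer (fitCompl q G : Set G) ≤
      Cfsg.fittingSubgroup G := by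
    intro q _
    have hn : (K ⊓ Subgroup.centralizer (fitCompl q G : Set G)).Normal :=
      Subgroup.normal_inf_normal _ _
    apply le_fitting hn
    apply Group.of_quotient_center_nilpotent
    apply IsPGroup.isNilpotent (p := q)
    intro x
    obtain ⟨c, rfl⟩ := QuotientGroup.mk_surjective x
    obtain ⟨a, ha⟩ := Cfsg.Agent.Lib.Helper40.exists_pow_coprime q (c : G)
    refine ⟨a, ?_⟩
    rw [← QuotientGroup.mk_pow, QuotientGroup.eq_one_iff, Subgroup.mem_center_iff]
    intro d
    apply Subtype.ext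
    have hcK : (c : G) ^ q ^ a ∈ K := K.pow_mem c.2.1 _
    have hcC : (c : G) ^ q ^ a ∈ Subgroup.centralizer (fitCompl q G : Set G) :=
      Subgroup.pow_mem _ c.2.2 _
    have h1 : (c : G) ^ q ^ a ∈ Subgroup.centralizer (Cfsg.fittingSubgroup G : Set G) := by
      have h2 : Cfsg.fittingSubgroup G ≤ Subgroup.centralizer (Subgroup.zpowers ((c : G) ^ q ^ a) : Set G) := by
        refine (fitting_le_sup q).trans (sup_le ?_ ?_)
        · rw [Subgroup.le_centralizer_iff, Subgroup.zpowers_le]
          exact hF1 q _ hcK ha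
        · rw [Subgroup.le_centralizer_iff, Subgroup.zpowers_le]
          exact hcC
      rw [Subgroup.le_centralizer_iff, Subgroup.zpowers_le] at h2
      exact h2
    have h3 : (c : G) ^ q ^ a ∈ fitCompl q G := mem_fitCompl_of_mem_fitting (hCF h1) ha
    have h4 := (Subgroup.mem_centralizer_iff.1 d.2.2) _ h3
    simpa using h4.symm
  rw [← Subgroup.subgroupOf_eq_top]
  apply eq_top_of_forall_sylow_le
  intro q _
  obtain ⟨Q⟩ : Nonempty (Sylow q K) := inferInstance
  refine ⟨Q, ?_⟩
  intro x hx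
  rw [Subgroup.mem_subgroupOf]
  apply key q
  refine ⟨x.2, ?_⟩
  have h2 : fitCompl q G ≤ Subgroup.centralizer (Subgroup.zpowers (x : G) : Set G) := by
    apply iSup_le
    rintro ⟨p, hpq⟩
    have := Fact.mk p.2
    rw [Subgroup.le_centralizer_iff, Subgroup.zpowers_le]
    apply hF1 p _ x.2
    obtain ⟨k, hk⟩ := Q.2 ⟨x, hx⟩
    have hk' : (x : G) ^ q ^ k = 1 := by
      have := congrArg (fun z : Q => ((z : K) : G)) hk
      simpa using this
    exact Nat.Coprime.coprime_dvd_left (orderOf_dvd_of_pow_eq_one hk')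
      (Nat.Coprime.pow_left _ ((Nat.coprime_primes Fact.out p.2).2 (Ne.symm hpq)))
  rw [Subgroup.le_centralizer_iff, Subgroup.zpowers_le] at h2
  exact h2

theorem mem_centralizer_of_conjNormal_eq_one (R : Subgroup G) [R.Normal] {y : G}
    (hy : (MulAut.conjNormal y : MulAut R) = 1) : y ∈ Subgroup.centralizer (R : Set G) := by
  rw [Subgroup.mem_centralizer_iff]
  intro r hr'
  have h1 := congrArg (fun f => ((f ⟨r, hr'⟩ : R) : G)) hy
  simp only [MulAut.conjNormal_apply, MulAut.one_apply] at h1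
  exact (mul_inv_eq_iff_eq_mul.1 h1).symm

theorem pCore_two_eq_bot_of_odd [Finite G] (hodd : Odd (Nat.card G)) : Cfsg.pCore 2 G = ⊥ :=
  pCore_eq_bot_of_not_dvd Nat.prime_two
    (fun h => (Nat.not_even_iff_odd.2 hodd) (even_iff_two_dvd.2 h))

/-- `p'`-elements of `G'` centralize `O_p(G)` when the latter has rank at most 2. -/
theorem commutator_coprime_centralizes_pCore [Finite G] [Group.IsSolvable G]
    (hodd : Odd (Nat.card G)) (p : ℕ) [Fact p.Prime] (hr : Cfsg.PRankLE p 2 (Cfsg.pCore p G)) :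
    ∀ h ∈ commutator G, (orderOf h).Coprime p →
      h ∈ Subgroup.centralizer (Cfsg.pCore p G : Set G) := by
  intro h hh hc
  by_cases hp2 : p = 2
  · subst hp2
    rw [pCore_two_eq_bot_of_odd hodd, Subgroup.mem_centralizer_iff]
    intro y hy
    rw [SetLike.mem_coe, Subgroup.mem_bot] at hy
    rw [hy, one_mul, mul_one]
  have := pCore_normal p G
  apply mem_centralizer_of_conjNormal_eq_one
  exact commutator_act_trivial_of_rank_two hp2 (pCore_isPGroup p G) hr hodd MulAut.conjNormal h hh
    (Nat.Coprime.coprime_dvd_left (orderOf_map_dvd _ _) hc)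

/-- elements all of whose prime divisors exceed `r` centralize `O_r(G)` of rank at most 2. -/
theorem centralizes_pCore_of_large_primes [Finite G] (hodd : Odd (Nat.card G)) (r : ℕ)
    [Fact r.Prime] (hr : Cfsg.PRankLE r 2 (Cfsg.pCore r G)) (x : G)
    (hx : ∀ q : ℕ, q.Prime → q ∣ orderOf x → r < q) :
    x ∈ Subgroup.centralizer (Cfsg.pCore r G : Set G) := by
  by_cases hp2 : r = 2
  · subst hp2
    rw [pCore_two_eq_bot_of_odd hodd, Subgroup.mem_centralizer_iff]
    intro y hy
    rw [SetLike.mem_coe, Subgroup.mem_bot] at hy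
    rw [hy, one_mul, mul_one]
  have := pCore_normal r G
  apply mem_centralizer_of_conjNormal_eq_one
  by_contra hne
  have h1 : orderOf (MulAut.conjNormal x : MulAut (Cfsg.pCore r G)) ≠ 1 := fun h =>
    hne (orderOf_eq_one_iff.1 h)
  obtain ⟨q, hq, hqd⟩ := Nat.exists_prime_and_dvd h1
  have h2 : r < q := hx q hq (hqd.trans (orderOf_map_dvd _ _))
  have h3 := (Cfsg.Agent.S0640.result hp2 (pCore_isPGroup r G) hr q hq h2.ne'
    (hqd.trans (orderOf_dvd_natCard _))).2
  omega

/-- a finite group generated by `r'`-elements with a central Sylow `r`-subgroup is an `r'`-group. -/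
theorem not_dvd_card_of_generated_of_central_sylow {X : Type*} [Group X] [Finite X] {r : ℕ}
    [Fact r.Prime] (hgen : Subgroup.closure {x : X | (orderOf x).Coprime r} = ⊤) (P : Sylow r X)
    (hP : (P : Subgroup X) ≤ Subgroup.center X) : ¬ r ∣ Nat.card X := by
  intro hdvd
  have hP' : Subgroup.normalizer ((P : Subgroup X) : Set X) ≤
      Subgroup.centralizer ((P : Subgroup X) : Set X) := by
    rw [Subgroup.centralizer_eq_top_iff_subset.2 hP]
    exact le_top
  have hc := MonoidHom.ker_transferSylow_isComplement' P hP'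
  have hker : (MonoidHom.transferSylow P hP').ker = ⊤ := by
    rw [← top_le_iff, ← hgen, Subgroup.closure_le]
    intro x hx
    rw [SetLike.mem_coe, MonoidHom.mem_ker]
    obtain ⟨k, hk⟩ := P.2 (MonoidHom.transferSylow P hP' x)
    exact Cfsg.Agent.Lib.Helper40.eq_one_of_pow_eq_one_of_coprime hk
      (Nat.Coprime.coprime_dvd_left (orderOf_map_dvd _ _) hx)
  rw [hker, Subgroup.isComplement'_top_left] at hc
  exact P.ne_bot_of_dvd_card hdvd hc

/-- Characteristic subgroups `T ≤ S'` of a Sylow subgroup `S` are normal when `G' ≤ F(G)`. -/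
theorem char_sylow_normal_of_commutator_le_fitting [Finite G]
    (hKF : commutator G ≤ Cfsg.fittingSubgroup G) (q : ℕ) [Fact q.Prime] (S : Sylow q G)
    (T : Subgroup ↥(S : Subgroup G)) (hT : T.Characteristic)
    (hTS : T.map (S : Subgroup G).subtype ≤ ⁅(S : Subgroup G), (S : Subgroup G)⁆) :
    (T.map (S : Subgroup G).subtype).Normal := by
  rw [← Subgroup.normalizer_eq_top_iff]
  have hN : ((S : Subgroup G) ⊔ Cfsg.fittingSubgroup G).Normal :=
    normal_of_commutator_le _ (hKF.trans le_sup_right)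
  have h1 := Sylow.normalizer_sup_eq_top' (N := (S : Subgroup G) ⊔ Cfsg.fittingSubgroup G) S
    le_sup_left
  have hRn := pCore_normal q G
  have hRS : Cfsg.pCore q G ≤ S := (pCore_isPGroup q G).le_sylow_of_normal S
  have hNS := normalizer_le_normalizer_map_of_characteristic (S : Subgroup G) T
  have hTR : T.map (S : Subgroup G).subtype ≤ Cfsg.pCore q G := by
    intro x hx
    have hxF : x ∈ Cfsg.fittingSubgroup G := by
      apply hKF
      rw [commutator_def]
      exact Subgroup.commutator_mono le_top le_top (hTS hx)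
    obtain ⟨t, -, rfl⟩ := hx
    obtain ⟨k, hk⟩ := S.2 t
    exact mem_pCore_of_mem_fitting hxF (k := k) (by simpa using congrArg Subtype.val hk)
  rw [← top_le_iff, ← h1]
  refine sup_le hNS (sup_le (Subgroup.le_normalizer.trans hNS) ?_)
  refine (fitting_le_sup q).trans (sup_le (hRS.trans (Subgroup.le_normalizer.trans hNS)) ?_)
  refine le_trans ?_ (Subgroup.centralizer_le_normalizer _)
  refine le_trans ?_ (Subgroup.centralizer_le (SetLike.coe_subset_coe.2 hTR))
  apply iSup_le
  rintro ⟨p, hpq⟩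
  have := Fact.mk p.2
  exact pCore_le_centralizer_pCore hpq

/-- Characteristic Hall subgroups for the primes `> p`. -/
theorem exists_char_hall_of_commutator_le_fitting [Finite G] (hodd : Odd (Nat.card G))
    (hr : ∀ r : ℕ, r.Prime → Cfsg.PRankLE r 2 (Cfsg.pCore r G))
    (hKF : commutator G ≤ Cfsg.fittingSubgroup G) (p : ℕ) :
    ∃ N : Subgroup G, N.Characteristic ∧ Cfsg.IsPiHall {q | q.Prime ∧ p < q} N := by
  set S : Set G := {x | ∀ q : ℕ, q.Prime → q ∣ orderOf x → p < q} with hS
  have hFn := fitting_normal G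
  refine ⟨Subgroup.closure S, ?_, ?_, ?_⟩
  · rw [Subgroup.characteristic_iff_map_le]
    intro ϕ
    rw [MonoidHom.map_closure]
    apply Subgroup.closure_mono
    rintro _ ⟨x, hx, rfl⟩
    intro q hq hqd
    apply hx q hq
    have : orderOf (ϕ.toMonoidHom x) = orderOf x := ϕ.orderOf_eq x
    rwa [this] at hqd
  · intro r hrp hrd
    refine ⟨hrp, ?_⟩
    by_contra hle
    push Not at hle
    have := Fact.mk hrp
    -- every generator is an `r'`-element
    have hScop : ∀ x ∈ S, (orderOf x).Coprime r := by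
      intro x hx
      rw [Nat.coprime_comm, Nat.Prime.coprime_iff_not_dvd hrp]
      intro h
      have := hx r hrp h
      omega
    have hcent : Subgroup.closure S ≤ Subgroup.centralizer (Cfsg.pCore r G : Set G) := by
      rw [Subgroup.closure_le]
      intro x hx
      exact centralizes_pCore_of_large_primes hodd r (hr r hrp) x
        (fun q hq hqd => lt_of_le_of_lt hle (hx q hq hqd))
    obtain ⟨a, m, hm, hGm⟩ := Nat.exists_eq_pow_mul_and_not_dvd (Nat.card_pos (α := G)).ne' r
      hrp.ne_one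
    have hcommQ : ∀ u v : G ⧸ Cfsg.fittingSubgroup G, Commute u v := by
      intro u v
      obtain ⟨u, rfl⟩ := QuotientGroup.mk_surjective u
      obtain ⟨v, rfl⟩ := QuotientGroup.mk_surjective v
      show (u : G ⧸ Cfsg.fittingSubgroup G) * v = v * u
      rw [← QuotientGroup.mk_mul, ← QuotientGroup.mk_mul, QuotientGroup.eq]
      apply hKF
      have : (u * v)⁻¹ * (v * u) = ⁅v⁻¹, u⁻¹⁆ := by
        rw [commutatorElement_def]; group
      rw [this]
      exact Subgroup.commutator_mem_commutator (Subgroup.mem_top _) (Subgroup.mem_top _)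
    have hpow : ∀ h ∈ Subgroup.closure S, ((h : G) : G ⧸ Cfsg.fittingSubgroup G) ^ m = 1 := by
      intro h hh
      induction hh using Subgroup.closure_induction with
      | mem x hx =>
        have h1 : orderOf x ∣ r ^ a * m := by rw [← hGm]; exact orderOf_dvd_natCard x
        have h2 : orderOf x ∣ m :=
          Nat.Coprime.dvd_of_dvd_mul_left (Nat.Coprime.pow_right _ (hScop x hx)) h1
        rw [← QuotientGroup.mk_pow, orderOf_dvd_iff_pow_eq_one.1 h2, QuotientGroup.mk_one]
      | one => rw [QuotientGroup.mk_one, one_pow]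
      | mul x y _ _ hx hy => rw [QuotientGroup.mk_mul, (hcommQ _ _).mul_pow, hx, hy, one_mul]
      | inv x _ hx => rw [QuotientGroup.mk_inv, inv_pow, hx, inv_one]
    obtain ⟨P⟩ : Nonempty (Sylow r (Subgroup.closure S)) := inferInstance
    refine not_dvd_card_of_generated_of_central_sylow ?_ P ?_ hrd
    · rw [← top_le_iff, ← Subgroup.closure_closure_coe_preimage (k := S)]
      apply Subgroup.closure_mono
      intro x hx
      have := hScop x hx
      rwa [Subgroup.orderOf_coe] at this
    · intro y hy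
      rw [Subgroup.mem_center_iff]
      intro z
      apply Subtype.ext
      obtain ⟨k, hk⟩ := P.2 ⟨y, hy⟩
      have hk' : ((y : Subgroup.closure S) : G) ^ r ^ k = 1 := by
        have := congrArg (fun z : P => ((z : Subgroup.closure S) : G)) hk
        simpa using this
      have hyF : (y : G) ∈ Cfsg.fittingSubgroup G := by
        rw [← QuotientGroup.eq_one_iff]
        have h1 := hpow y y.2
        have h2 : ((y : G) : G ⧸ Cfsg.fittingSubgroup G) ^ r ^ k = 1 := by
          rw [← QuotientGroup.mk_pow, hk', QuotientGroup.mk_one]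
        have h3 : (r ^ k).Coprime m :=
          Nat.Coprime.pow_left _ ((Nat.Prime.coprime_iff_not_dvd hrp).2 hm)
        have h4 := pow_gcd_eq_one.2 ⟨h2, h1⟩
        rwa [Nat.Coprime.gcd_eq_one h3, pow_one] at h4
      have hyR : (y : G) ∈ Cfsg.pCore r G := mem_pCore_of_mem_fitting hyF hk'
      have := (Subgroup.mem_centralizer_iff.1 (hcent z.2)) _ hyR
      simpa using this.symm
  · rintro r hrp ⟨-, hpr⟩ hrd
    have := Fact.mk hrp
    obtain ⟨P⟩ : Nonempty (Sylow r G) := inferInstance
    have hPN : (P : Subgroup G) ≤ Subgroup.closure S := by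
      intro x hx
      apply Subgroup.subset_closure
      intro q hq hqd
      obtain ⟨k, hk⟩ := P.2 ⟨x, hx⟩
      have hk' : x ^ r ^ k = 1 := by simpa using congrArg Subtype.val hk
      have h1 : q ∣ r ^ k := hqd.trans (orderOf_dvd_of_pow_eq_one hk')
      rw [(Nat.prime_dvd_prime_iff_eq hq hrp).1 (hq.dvd_of_dvd_pow h1)]
      exact hpr
    exact P.not_dvd_index (hrd.trans (Subgroup.index_dvd_of_le hPN))

end Cfsg.Agent.Lib.Helper3
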