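import Cfsg.Agent.Lib.Helper3.RankTwoAut
import Cfsg.Agent.Lib.Helper3.NormalSeries
import Cfsg.Agent.Lib.Helper3.Metacyclic
import Cfsg.Agent.Lib.Helper40.Cores
import Cfsg.Agent.Lib.Helper30.PStable2
import Cfsg.Agent.Lib.Helper29.PComp
import Cfsg.Agent.Lib.Helper26.Conj
import Cfsg.Agent.S0640

set_option autoImplicit false

namespace Cfsg.Agent.Lib.Helper3

/-- The `p`-rank does not grow when passing to the quotient by a normal `p'`-subgroup. -/
theorem pRankLE_quotient_of_coprime {G : Type*} [Group G] [Finite G] {p : ℕ} [Fact p.Prime]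
    (K : Subgroup G) [K.Normal] (hK : (Nat.card K).Coprime p) {k : ℕ}
    (h : Cfsg.PRankLE p k G) : Cfsg.PRankLE p k (G ⧸ K) := by
  intro E hE hEp
  have hp : p.Prime := Fact.out
  set H := E.comap (QuotientGroup.mk' K) with hH
  obtain ⟨P⟩ : Nonempty (Sylow p H) := inferInstance
  have hEpg : IsPGroup p E := fun x => ⟨1, by
    apply Subtype.ext
    simpa using hEp x x.2⟩
  obtain ⟨n, hn⟩ := IsPGroup.iff_card.1 hEpg
  have hcardH : Nat.card H = p ^ n * Nat.card K := by
    rw [hH, Cfsg.Agent.Lib.Helper3.card_comap_mk', hn]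
  have hPc : Nat.card P = p ^ n := by
    rw [P.card_eq_multiplicity, hcardH, Nat.factorization_mul (pow_ne_zero _ hp.ne_zero)
      (Nat.card_pos).ne']
    have : (Nat.card K).factorization p = 0 :=
      Nat.factorization_eq_zero_of_not_dvd (fun h => by
        have := Nat.Coprime.eq_one_of_dvd hK.symm h
        exact hp.ne_one this)
    simp [this, Nat.Prime.factorization_pow hp]
  set P' := (P : Subgroup H).map H.subtype with hP'
  have hP'c : Nat.card P' = p ^ n := by
    rw [hP', Subgroup.card_map_of_injective H.subtype_injective]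
    exact hPc
  have hP'H : ∀ a ∈ P', (a : G ⧸ K) ∈ E := by
    rintro a ⟨b, -, rfl⟩
    exact b.2
  have hinj : ∀ a ∈ P', (a : G ⧸ K) = 1 → a = 1 := by
    intro a ha h1
    rw [QuotientGroup.eq_one_iff] at h1
    have h2 : orderOf a ∣ p ^ n := by rw [← hP'c]; exact Subgroup.orderOf_dvd_natCard _ ha
    have h3 : orderOf a ∣ Nat.card K := Subgroup.orderOf_dvd_natCard _ h1
    have h4 : (orderOf a).Coprime (p ^ n) :=
      Nat.Coprime.pow_right _ (Nat.Coprime.coprime_dvd_left h3 hK)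
    exact orderOf_eq_one_iff.1 (Nat.Coprime.eq_one_of_dvd h4 h2)
  have hinj2 : ∀ a ∈ P', ∀ b ∈ P', (a : G ⧸ K) = b → a = b := by
    intro a ha b hb hab
    have := hinj (a * b⁻¹) (P'.mul_mem ha (P'.inv_mem hb)) (by
      rw [QuotientGroup.mk_mul, QuotientGroup.mk_inv, hab, mul_inv_cancel])
    exact mul_inv_eq_one.1 this
  have hcomm : IsMulCommutative P' := by
    refine ⟨⟨fun a b => ?_⟩⟩
    apply Subtype.ext
    apply hinj2 _ (P'.mul_mem a.2 b.2) _ (P'.mul_mem b.2 a.2)
    have := hE.is_comm.comm ⟨_, hP'H a a.2⟩ ⟨_, hP'H b b.2⟩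
    have h2 := congrArg Subtype.val this
    simpa using h2
  have hexp : ∀ a ∈ P', a ^ p = 1 := by
    intro a ha
    apply hinj _ (P'.pow_mem ha p)
    rw [QuotientGroup.mk_pow]
    exact hEp _ (hP'H a ha)
  have := h P' hcomm hexp
  rw [hn, ← hP'c]
  exact this

/-- Structure of a solvable group `Y` of odd order with `O_{p'}(Y) = 1` and `p`-rank at most 2. -/
theorem struct_of_pPrimeCore_eq_bot {Y : Type*} [Group Y] [Finite Y] [Group.IsSolvable Y] {p : ℕ}
    [Fact p.Prime] (hp2 : p ≠ 2) (hodd : Odd (Nat.card Y)) (hO : Cfsg.pPrimeCore p Y = ⊥)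
    (hr : Cfsg.PRankLE p 2 Y) :
    commutator Y ≤ Cfsg.pCore p Y ∧ ((Cfsg.pCore p Y).index).Coprime p ∧
      ∀ q : ℕ, q.Prime → q ∣ Nat.card Y → q ≤ p := by
  have hp : p.Prime := Fact.out
  have hRn : (Cfsg.pCore p Y).Normal := Cfsg.Agent.Lib.Helper30.pCore_normal' p Y
  have hRp : IsPGroup p (Cfsg.pCore p Y) := Cfsg.Agent.Lib.Helper40.isPGroup_pCore p Y
  have hRr : Cfsg.PRankLE p 2 (Cfsg.pCore p Y) :=
    Cfsg.Agent.Lib.Helper26.PRankLE_of_injective (Cfsg.pCore p Y).subtype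
      (Subgroup.subtype_injective _) hr
  have hC := Cfsg.Agent.Lib.Helper30.centralizer_pCore_le_of_solvable (p := p) (G := Y) hO
  let ψ : Y →* MulAut (Cfsg.pCore p Y) := MulAut.conjNormal
  have hker : ∀ y : Y, ψ y = 1 → y ∈ Cfsg.pCore p Y := by
    intro y hy
    apply hC
    rw [Subgroup.mem_centralizer_iff]
    intro r hr'
    have h1 := congrArg (fun f => ((f ⟨r, hr'⟩ : Cfsg.pCore p Y) : Y)) hy
    simp only [ψ, MulAut.conjNormal_apply, MulAut.one_apply] at h1
    exact (mul_inv_eq_iff_eq_mul.1 h1).symm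
  have hcop : ∀ y : Y, y ∈ Cfsg.pCore p Y → (orderOf y).Coprime p → y = 1 := by
    intro y hy hc
    obtain ⟨k, hk⟩ := hRp ⟨y, hy⟩
    have hk' : y ^ p ^ k = 1 := by simpa using congrArg Subtype.val hk
    exact Cfsg.Agent.Lib.Helper40.eq_one_of_pow_eq_one_of_coprime hk' hc
  have hA : commutator Y ≤ Cfsg.pCore p Y := by
    apply Cfsg.Agent.Lib.Helper40.le_pCore
    intro x
    obtain ⟨a, ha⟩ := Cfsg.Agent.Lib.Helper40.exists_pow_coprime p (x : Y)
    refine ⟨a, ?_⟩
    apply Subtype.ext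
    have h1 : (x : Y) ^ p ^ a ∈ commutator Y := (commutator Y).pow_mem x.2 _
    have h2 : (orderOf (ψ ((x : Y) ^ p ^ a))).Coprime p :=
      Nat.Coprime.coprime_dvd_left (orderOf_map_dvd ψ _) ha
    have h3 := commutator_act_trivial_of_rank_two hp2 hRp hRr hodd ψ _ h1 h2
    have h4 := hcop _ (hker _ h3) ha
    simpa using h4
  refine ⟨hA, ?_, ?_⟩
  · obtain ⟨Q, hQ⟩ := hRp.exists_le_sylow
    have : (Q : Subgroup Y).Normal := normal_of_commutator_le _ (hA.trans hQ)
    have h1 : (Q : Subgroup Y) ≤ Cfsg.pCore p Y := Cfsg.Agent.Lib.Helper40.le_pCore Q.2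
    have h2 : Cfsg.pCore p Y = Q := le_antisymm hQ h1
    rw [h2]
    exact ((Nat.Prime.coprime_iff_not_dvd hp).2 Q.not_dvd_index).symm
  · intro q hq hqY
    by_cases hqp : q = p
    · exact hqp.le
    have : Fact q.Prime := ⟨hq⟩
    obtain ⟨y, hy⟩ := exists_prime_orderOf_dvd_card' q hqY
    have hyc : (orderOf y).Coprime p := by
      rw [hy]; exact (Nat.coprime_primes hq hp).2 hqp
    have h1 : ψ y ≠ 1 := by
      intro h
      have := hcop y (hker y h) hyc
      rw [this, orderOf_one] at hy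
      exact hq.ne_one hy.symm
    have h2 : orderOf (ψ y) ∣ q := by rw [← hy]; exact orderOf_map_dvd ψ y
    have h3 : orderOf (ψ y) = q := by
      rcases (Nat.dvd_prime hq).1 h2 with h | h
      · exact absurd (orderOf_eq_one_iff.1 h) h1
      · exact h
    have h4 : q ∣ Nat.card (MulAut (Cfsg.pCore p Y)) := by
      rw [← h3]; exact orderOf_dvd_natCard _
    exact (Cfsg.Agent.S0640.result hp2 hRp hRr q hq hqp h4).2.le

end Cfsg.Agent.Lib.Helper3
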