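import Mathlib.GroupTheory.Sylow
import Mathlib.GroupTheory.Transfer
import Mathlib.GroupTheory.Focal
import Mathlib.GroupTheory.Frattini
import Mathlib.GroupTheory.Nilpotent
import Mathlib.GroupTheory.Solvable

set_option autoImplicit false

namespace Cfsg.Agent.Lib.Helper3

/-- Transfer of a central element lying in `H` is the index power. -/
theorem transfer_central {G A : Type*} [Group G] [CommGroup A] (H : Subgroup G) [H.FiniteIndex]
    (ϕ : H →* A) (z : G) (hz : z ∈ Subgroup.center G) (hzH : z ∈ H) :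
    MonoidHom.transfer ϕ z = ϕ ⟨z, hzH⟩ ^ H.index := by
  have key : ∀ (k : ℕ) (g₀ : G), g₀⁻¹ * z ^ k * g₀ ∈ H → g₀⁻¹ * z ^ k * g₀ = z ^ k := by
    intro k g₀ _
    have hk : z ^ k ∈ Subgroup.center G := Subgroup.pow_mem _ hz k
    rw [mul_assoc, (Subgroup.mem_center_iff.mp hk g₀).symm, inv_mul_cancel_left]
  rw [MonoidHom.transfer_eq_pow ϕ z key, ← map_pow]
  rfl

/-- A central element of `G'` lying in `H` has its index power killed by every hom to an abelian group. -/
theorem map_pow_index_eq_one_of_central_commutator {G A : Type*} [Group G] [CommGroup A]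
    (H : Subgroup G) [H.FiniteIndex]
    (ϕ : H →* A) (z : G) (hz : z ∈ Subgroup.center G) (hzH : z ∈ H) (hzc : z ∈ commutator G) :
    ϕ ⟨z, hzH⟩ ^ H.index = 1 := by
  rw [← transfer_central H ϕ z hz hzH]
  exact Abelianization.commutator_subset_ker (MonoidHom.transfer ϕ) hzc

/-- If `x ^ a = 1`, `x ^ b = 1` and `a`, `b` coprime then `x = 1`. -/
theorem eq_one_of_pow_coprime {G : Type*} [Monoid G] {x : G} {a b : ℕ} (hab : Nat.Coprime a b)
    (ha : x ^ a = 1) (hb : x ^ b = 1) : x = 1 := by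
  have h1 : orderOf x ∣ a := orderOf_dvd_of_pow_eq_one ha
  have h2 : orderOf x ∣ b := orderOf_dvd_of_pow_eq_one hb
  exact orderOf_eq_one_iff.mp (Nat.eq_one_of_dvd_coprimes hab h1 h2)

open scoped IsMulCommutative in
/-- An abelian Hall subgroup meets `G' ⊓ Z(G)` trivially. -/
theorem abelian_hall_inf_commutator_inf_center {G : Type*} [Group G] [Finite G] (H : Subgroup G)
    (hc : IsMulCommutative H) (hHall : Nat.Coprime (Nat.card H) H.index) :
    H ⊓ commutator G ⊓ Subgroup.center G = ⊥ := by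
  rw [eq_bot_iff]
  rintro z ⟨⟨hzH, hzc⟩, hz⟩
  have h1 := map_pow_index_eq_one_of_central_commutator H (MonoidHom.id H) z hz hzH hzc
  have h2 : (⟨z, hzH⟩ : H) ^ Nat.card H = 1 := pow_card_eq_one'
  have h3 : (⟨z, hzH⟩ : H) = 1 := eq_one_of_pow_coprime hHall h2 h1
  rw [Subgroup.mem_bot]
  exact congrArg Subtype.val h3

end Cfsg.Agent.Lib.Helper3
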